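import Mathlib
import Cfsg.Agent.Nodes.TyChart
import Cfsg.Agent.Nodes.KindB_m3
import Cfsg.Agent.Nodes.KindE
import Cfsg.Agent.Nodes.KindF
import Cfsg.Agent.Nodes.RKindsBC
import Cfsg.Agent.Nodes.SimplyLaced
import Cfsg.Agent.Nodes.StabComb
import Cfsg.Agent.FastGrp
import Cfsg.Agent.Prune
set_option linter.all false

section
prune_inst 0x7f00000000000000000000000000000000000000000000000000000000000000000000000000000000000000000000000000000000000000000000000000000000000000000000000000000000000000003fffffffffffffffffffffffffffbeffbdffffffff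

-- part: Nodes/BlockRoots
section
set_option linter.all false
open scoped Cfsg.Agent.FastGrp

/-!
# The blocks of the standard types, root level (project CIT)

* `RT τ cs` : the classical roots of the standard root system of `τ`; `sr_mem_RT`, `RT_trans`;
* `Blk τ τ' θ f` : `f` embeds the diagram of `τ'` as a component of the nodes of `τ` orthogonal to the dominant root `θ`;
* `Step τ τ'` : the types of the blocks;
* `exists_top` : for every type there is a dominant classical root `θ` such that every classical node orthogonal to `θ`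
  is isolated (`Iso`) or lies in a block of type `τ'`, `Step τ τ'`.
-/

set_option autoImplicit false
set_option linter.unusedSectionVars false

namespace Cfsg.Agent.Nodes.BlockRoots

open CoxeterSystem Cfsg.Agent.ChevalleyStructure.CoxeterGeom Cfsg.Agent.Tits.Roots Cfsg.Agent.Tits.Core
  Cfsg.Agent.Nodes.Comb Cfsg.Agent.Nodes.Coroot Cfsg.Agent.Nodes.Chart Cfsg.Agent.Nodes.StabComb

/-! ### Classical roots of a type -/

section RT

variable {W : Type*} [Group W]

/-- The classical roots of the standard root system of `τ`. -/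
def RT (τ : Ty) (cs : CoxeterSystem τ.M W) : Set (Fin τ.rk → ℤ) :=
  {x | ∃ i, τ.long i ∧ ∃ w, x = rep cs τ.isCartan w (sr i)}

end RT

/-! ### Dominant vectors in an orbit -/

section Dom

variable {I W : Type*} [Fintype I] [DecidableEq I] [Group W] {M : CoxeterMatrix I} (cs : CoxeterSystem M W)
  {A : I → I → ℤ} (h : IsCartan M A)

theorem rep_le_of_dom [Finite W] {x : I → ℤ} (hx : Dom A x) : ∀ w : W, rep cs h w x ≤ x := by
  intro w
  induction hn : cs.length w using Nat.strong_induction_on generalizing w with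
  | _ n ih =>
  by_cases hw : w = 1
  · rw [hw, map_one, Module.End.one_apply]
  obtain ⟨i, hi⟩ := cs.exists_rightDescent_of_ne_one hw
  have hi' : cs.length (w * cs.simple i) < cs.length w := hi
  have h1 := ih _ (by omega) (w * cs.simple i) rfl
  have h2 : w = w * cs.simple i * cs.simple i := by rw [mul_assoc, simple_mul_simple_self, mul_one]
  have h3 : 0 ≤ rep cs h (w * cs.simple i) (sr i) := by
    have h4 := nonpos_of_lt cs h w i hi'
    rw [rep_mul_apply, rep_simple_sr, map_neg]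
    exact neg_nonneg.2 h4
  have h5 : rep cs h w x = rep cs h (w * cs.simple i) x - pairing A i x • rep cs h (w * cs.simple i) (sr i) := by
    conv_lhs => rw [h2]
    rw [map_mul, Module.End.mul_apply, rep_simple_eq, map_sub, map_smul]
  rw [h5]
  exact (sub_le_self _ (smul_nonneg (hx i) h3)).trans h1

theorem rep_inv_of_eq {cs : CoxeterSystem M W} {h : IsCartan M A} {w : W} {x y : I → ℤ}
    (e : x = rep cs h w y) : rep cs h w⁻¹ x = y := by
  rw [e, rep_inv_apply]

/-- Dominant vectors in an orbit are unique. -/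
theorem eq_of_dom [Finite W] {x : I → ℤ} (hx : Dom A x) {w : W} (hw : Dom A (rep cs h w x)) :
    rep cs h w x = x := by
  apply le_antisymm (rep_le_of_dom cs h hx w)
  have h1 := rep_le_of_dom cs h hw w⁻¹
  rwa [rep_inv_apply] at h1

end Dom

/-! ### Blocks -/

/-- `f` embeds the diagram of `τ'` as a component of the diagram of the nodes of `τ` orthogonal to `θ`. -/
structure Blk (τ τ' : Ty) (θ : Fin τ.rk → ℤ) (f : Fin τ'.rk ↪ Fin τ.rk) : Prop where
  cart : ∀ i j, τ.cartan (f i) (f j) = τ'.cartan i j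
  long : ∀ i, τ.long (f i) ↔ τ'.long i
  sub : ∀ i, pairing τ.cartan (f i) θ = 0
  sep : ∀ i k, pairing τ.cartan k θ = 0 → (∀ j, f j ≠ k) → τ.cartan (f i) k = 0

/-- The node `i` is isolated among the nodes orthogonal to `θ`, and joined to another classical node by a simple
bond. -/
structure Iso (τ : Ty) (θ : Fin τ.rk → ℤ) (i : Fin τ.rk) : Prop where
  iso : ∀ k, pairing τ.cartan k θ = 0 → k ≠ i → τ.cartan i k = 0
  link : ∃ j, τ.long j ∧ τ.cartan i j = -1 ∧ τ.cartan j i = -1

/-- The types of the blocks. -/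
inductive Step : Ty → Ty → Prop
  | A (n : ℕ) (hn : 2 ≤ n) : Step (.A (n + 2)) (.A n)
  | B (n : ℕ) (hn : 3 ≤ n) : Step (.B (n + 2)) (.B n)
  | B4 : Step (.B 4) (.C 2)
  | C (n : ℕ) (hn : 1 ≤ n) : Step (.C (n + 1)) (.C n)
  | D (n : ℕ) (hn : 4 ≤ n) : Step (.D (n + 2)) (.D n)
  | D5 : Step (.D 5) (.A 3)
  | E6 : Step .E6 (.A 5)
  | E7 : Step .E7 (.D 6)
  | E8 : Step .E8 .E7
  | F4 : Step .F4 (.C 3)

/-- The types of the blocks before normalisation (`B 2` for `C 2`). -/
inductive Step' : Ty → Ty → Prop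
  | A (n : ℕ) (hn : 2 ≤ n) : Step' (.A (n + 2)) (.A n)
  | B (n : ℕ) (hn : 2 ≤ n) : Step' (.B (n + 2)) (.B n)
  | C (n : ℕ) (hn : 1 ≤ n) : Step' (.C (n + 1)) (.C n)
  | D (n : ℕ) (hn : 3 ≤ n) : Step' (.D (n + 2)) (.D n)
  | E6 : Step' .E6 (.A 5)
  | E7 : Step' .E7 (.D 6)
  | E8 : Step' .E8 .E7
  | F4 : Step' .F4 (.C 3)

/-- A dominant classical root with its blocks. -/
structure Top (τ : Ty) (θ : Fin τ.rk → ℤ) : Prop where
  dom : Dom τ.cartan θ
  mem : ∀ {W : Type} [Group W] [Fintype W] (cs : CoxeterSystem τ.M W), θ ∈ RT τ cs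
  blk : ∀ i, τ.long i → pairing τ.cartan i θ = 0 → Iso τ θ i ∨
    ∃ τ' f, Step' τ τ' ∧ Blk τ τ' θ f ∧ ∃ j, f j = i

/-- The types of the charts in THEOREM T. -/
def KOk : Ty → Prop
  | .A n => 2 ≤ n
  | .B n => 3 ≤ n
  | .C n => 1 ≤ n
  | .D n => 4 ≤ n
  | .E6 => True
  | .E7 => True
  | .E8 => True
  | .F4 => True
  | .G2 => False

theorem KOk.ok {τ : Ty} (h : KOk τ) : τ.Ok := by
  cases τ with
  | A n => exact le_trans (by decide) (show 2 ≤ n from h)
  | B n => exact le_trans (by decide) (show 3 ≤ n from h)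
  | C n => exact h
  | D n => exact le_trans (by decide) (show 4 ≤ n from h)
  | E6 => trivial
  | E7 => trivial
  | E8 => trivial
  | F4 => trivial
  | G2 => exact h.elim

theorem Step'.ok {τ τ' : Ty} (h : Step' τ τ') : τ'.Ok := by
  cases h with
  | A n hn => exact le_trans (by decide) hn
  | B n hn => exact hn
  | C n hn => exact hn
  | D n hn => exact hn
  | E6 => show 1 ≤ 5; decide
  | E7 => show 3 ≤ 6; decide
  | E8 => trivial
  | F4 => show 1 ≤ 3; decide

/-! ### The types -/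

theorem AA_eq_neg {n : ℕ} {i j : Fin n} (h : (i : ℕ) + 1 = j ∨ (j : ℕ) + 1 = i) : RootsA.AA n i j = -1 := by
  unfold RootsA.AA
  rw [if_neg (fun e => by rw [e] at h; omega), if_pos h]

theorem A_eq_zero {n : ℕ} {i j : Fin n} (h : (i : ℕ) ≠ j) (h1 : (i : ℕ) + 1 ≠ j) (h2 : (j : ℕ) + 1 ≠ i) :
    TypeC.A n i j = 0 := by
  rw [TypeC.A_apply, if_neg (fun e => h (congrArg Fin.val e)), if_neg h1, if_neg h2]

theorem A_eq_neg {n : ℕ} {i j : Fin n} (h : (i : ℕ) + 1 = j ∧ (j : ℕ) + 1 < n ∨ (j : ℕ) + 1 = i) :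
    TypeC.A n i j = -1 := by
  rw [TypeC.A_apply, if_neg (fun e => by rw [e] at h; omega)]
  rcases h with ⟨h1, h2⟩ | h1
  · rw [if_pos h1, if_pos h2]
  · rw [if_neg (by omega), if_pos h1]

theorem topA (n : ℕ) (hn : 2 ≤ n) : Top (.A n) (KindA.theta n) where
  dom := KindA.theta_dom (RootsA.isCartan n)
  mem {W} _ _ cs := by
    obtain ⟨w, i, e⟩ := KindA.isRoot_theta cs (RootsA.isCartan n) (by omega)
    exact ⟨i, trivial, w, e⟩
  blk i _ hi := by
    obtain ⟨m, rfl⟩ : ∃ m, n = m + 2 := ⟨n - 2, by omega⟩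
    have hi' := (KindA.pairing_theta_zero_iff (RootsA.isCartan (m + 2)) i).1 hi
    have hir := KindA.range_lev (RootsA.isCartan (m + 2))
    obtain ⟨j, hj⟩ : i ∈ Set.range (KindA.lev m) := by rw [hir]; exact hi
    by_cases hm : 2 ≤ m
    · refine Or.inr ⟨.A m, KindA.lev m, .A m hm, ⟨fun i j => KindA.AA_lev i j, fun _ => Iff.rfl, fun i => ?_,
        fun i k hk hk' => ?_⟩, j, hj⟩
      · have : KindA.lev m i ∈ Set.range (KindA.lev m) := ⟨i, rfl⟩
        rw [hir] at this
        exact this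
      · exfalso
        have : k ∈ Set.range (KindA.lev m) := by rw [hir]; exact hk
        obtain ⟨j, hj⟩ := this
        exact hk' j hj
    · left
      have hi2 := i.2
      change (i : ℕ) < m + 2 at hi2
      refine ⟨fun k hk hki => ?_, ⟨0, by change 0 < m + 2; omega⟩, trivial, ?_, ?_⟩
      · exfalso
        have hk' := (KindA.pairing_theta_zero_iff (RootsA.isCartan (m + 2)) k).1 hk
        have hk2 := k.2
        change (k : ℕ) < m + 2 at hk2
        exact hki (Fin.ext (by omega))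
      · exact AA_eq_neg (n := m + 2) (Or.inr (show 0 + 1 = (i : ℕ) by omega))
      · exact AA_eq_neg (n := m + 2) (Or.inl (show 0 + 1 = (i : ℕ) by omega))

theorem topC (n : ℕ) (hn : 1 ≤ n) : Top (.C n) (KindC.fr n ⟨0, hn⟩) where
  dom := KindC.dom_fr rfl
  mem {W} _ _ cs := by
    obtain ⟨w, i, e⟩ := KindC.isRoot_fr (n := n) cs ⟨0, hn⟩
    refine ⟨i, ?_, w, e⟩
    have h1 : rep cs (TypeC.isCartan n) w⁻¹ (KindC.fr n ⟨0, hn⟩) ∈ KindBC.RC n :=
      KindBC.act_RC cs (KindC.fr_mem _) w⁻¹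
    have h2 : rep cs (TypeC.isCartan n) w⁻¹ (KindC.fr n ⟨0, hn⟩) = sr i := rep_inv_of_eq e
    rw [h2] at h1
    exact RKindsBC.sr_mem_RC.1 h1
  blk i hi h0 := by
    right
    obtain ⟨m, rfl⟩ : ∃ m, n = m + 1 := ⟨n - 1, by omega⟩
    have hir := KindC.orth_fr (n := m + 1) (CoxeterMatrix.B (m + 1)).toCoxeterSystem (k := ⟨0, hn⟩) rfl
    have hor : ∀ k : Fin (m + 1), pairing (TypeC.A (m + 1)) k (KindC.fr (m + 1) ⟨0, hn⟩) = 0 ↔
        k ∈ Set.range (KindBC.up (m + 1) 1) := by
      intro k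
      rw [← hir, mem_orth]
    obtain ⟨j, hj⟩ := (hor i).1 h0
    have hm : 1 ≤ m := by
      have := j.2
      omega
    refine ⟨.C m, KindBC.up (m + 1) 1, .C m hm, ⟨fun i j => KindBC.A_up (m + 1) 1 i j, fun i => ?_, fun i => ?_,
      fun i k hk hk' => ?_⟩, j, hj⟩
    · have hv : (KindBC.up (m + 1) 1 i : ℕ) = i + 1 := KindBC.up_val (m + 1) 1 i
      change (KindBC.up (m + 1) 1 i : ℕ) + 1 = m + 1 ↔ (i : ℕ) + 1 = m
      omega
    · exact (hor _).2 ⟨i, rfl⟩
    · obtain ⟨j, hj⟩ := (hor k).1 hk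
      exact absurd hj (hk' j)

theorem topB (n : ℕ) (hn : 3 ≤ n) : Top (.B n) (KindB.fr n ⟨0, by omega⟩) where
  dom := KindB.dom_fr rfl
  mem {W} _ _ cs := by
    obtain ⟨w, i, e⟩ := KindB.isRoot_fr (n := n) cs ⟨0, by omega⟩
    refine ⟨i, ?_, w, e⟩
    have h1 : rep cs (TypeC.isCartan n) w⁻¹ (KindB.fr n ⟨0, by omega⟩) ∈ KindBC.RB n :=
      KindBC.act_RB cs (KindB.fr_mem _) w⁻¹
    have h2 : rep cs (TypeC.isCartan n) w⁻¹ (KindB.fr n ⟨0, by omega⟩) = sr i := rep_inv_of_eq e
    rw [h2] at h1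
    exact RKindsBC.sr_mem_RB.1 h1
  blk i hi h0 := by
    have hor : ∀ k : Fin n, pairing (TypeC.A n) k (KindB.fr n ⟨0, by omega⟩) = 0 ↔ (k : ℕ) ≠ 1 := by
      intro k
      rw [← KindB.mem_orth_fr (n := n) (CoxeterMatrix.B n).toCoxeterSystem (k := ⟨0, by omega⟩) rfl, mem_orth]
    have hi1 := (hor i).1 h0
    have hi' : (i : ℕ) + 1 < n := hi
    by_cases hi0 : (i : ℕ) = 0
    · left
      refine ⟨fun k hk hki => ?_, ⟨1, by change 1 < n; omega⟩, ?_, ?_, ?_⟩
      · have hk1 := (hor k).1 hk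
        have hk0 : (k : ℕ) ≠ 0 := fun e => hki (Fin.ext (by rw [e, hi0]))
        exact A_eq_zero (n := n) (by omega) (by omega) (by omega)
      · change 1 + 1 < n
        omega
      · exact A_eq_neg (n := n) (Or.inl ⟨(show (i : ℕ) + 1 = 1 by omega), (show 1 + 1 < n by omega)⟩)
      · exact A_eq_neg (n := n) (Or.inr (show (i : ℕ) + 1 = 1 by omega))
    · right
      obtain ⟨m, rfl⟩ : ∃ m, n = m + 2 := ⟨n - 2, by omega⟩
      have hm : 2 ≤ m := by omega
      obtain ⟨j, hj⟩ := KindBC.exists_up (n := m + 2) (c := 2) (k := i) (by omega)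
      refine ⟨.B m, KindBC.up (m + 2) 2, .B m hm, ⟨fun i j => KindBC.A_up (m + 2) 2 i j, fun i => ?_, fun i => ?_,
        fun i k hk hk' => ?_⟩, j, hj.symm⟩
      · have hv : (KindBC.up (m + 2) 2 i : ℕ) = i + 2 := KindBC.up_val (m + 2) 2 i
        change (KindBC.up (m + 2) 2 i : ℕ) + 1 < m + 2 ↔ (i : ℕ) + 1 < m
        omega
      · have hv : (KindBC.up (m + 2) 2 i : ℕ) = i + 2 := KindBC.up_val (m + 2) 2 i
        refine (hor _).2 ?_
        omega
      · have hk1 := (hor k).1 hk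
        have hk0 : (k : ℕ) = 0 := by
          by_contra h1
          obtain ⟨j, hj⟩ := KindBC.exists_up (n := m + 2) (c := 2) (k := k) (by omega)
          exact hk' j hj.symm
        have hv : (KindBC.up (m + 2) 2 i : ℕ) = i + 2 := KindBC.up_val (m + 2) 2 i
        exact A_eq_zero (n := m + 2) (by omega) (by omega) (by omega)

/-! ### `D n` -/

/-- The embedding of the nodes `≥ 2` of `D_{m+4}`. -/
def up2 (m : ℕ) : Fin (m + 2) ↪ Fin (m + 2 + 2) :=
  ⟨fun j => ⟨(j : ℕ) + 2, by have := j.2; omega⟩, fun i j h => by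
    have := congrArg Fin.val h
    exact Fin.ext (by simpa using this)⟩

theorem up2_val (m : ℕ) (j : Fin (m + 2)) : (up2 m j : ℕ) = j + 2 := rfl

theorem D_up2 (m : ℕ) (i j : Fin (m + 2)) : TypeD.A (m + 2) (up2 m i) (up2 m j) = TypeD.A m i j := by
  have h1 : ∀ i j : Fin (m + 2), TypeD.Adj (up2 m i) (up2 m j) ↔ TypeD.Adj i j := by
    intro i j
    unfold TypeD.Adj
    rw [up2_val, up2_val]
    omega
  rw [TypeD.A_apply, TypeD.A_apply]
  by_cases hij : i = j
  · rw [hij]; simp
  · rw [if_neg hij, if_neg (fun e => hij ((up2 m).injective e))]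
    simp only [h1]

theorem exists_topD (m : ℕ) : ∃ θ, Top (.D (m + 4)) θ := by
  classical
  have hok : TypeD.Ok (n := m + 2) ((⟨0, by omega⟩ : Fin (m + 2 + 2)), true) (⟨1, by omega⟩, true) :=
    fun e => by have := congrArg Fin.val e; simp at this
  obtain ⟨θ, hθ, he⟩ : TypeD.Rt (n := m + 2) (TypeD.M (m + 2)).toCoxeterSystem (⟨0, by omega⟩, true)
      (⟨1, by omega⟩, true) := TypeD.rt_of_ok hok
  have heA : ∀ k : Fin (m + 2 + 2), TypeD.ee θ k = if (k : ℕ) < 2 then 1 else 0 := by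
    intro k
    rw [he, Pi.add_apply, TypeC.wt_apply, TypeC.wt_apply]
    simp only [Fin.ext_iff]
    split_ifs <;> omega
  have hp : ∀ k : Fin (m + 2 + 2), pairing (TypeD.A (m + 2)) k θ = if (k : ℕ) = 1 then 1 else 0 := by
    intro k
    rw [← TypeD.Cf_ee]
    unfold TypeD.Cf
    split_ifs with h1 h2 h2
    · rw [heA, heA]
      simp only
      rw [if_pos (by omega), if_neg (by omega)]
      rfl
    · rw [heA, heA]
      simp only
      split_ifs <;> omega
    · omega
    · rw [heA, heA]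
      have h3 : ((TypeD.pd (m + 2) : Fin (m + 2 + 2)) : ℕ) = m + 2 := rfl
      have := k.2
      rw [h3, if_neg (by omega), if_neg (by omega)]
      rfl
  have hor : ∀ k : Fin (m + 2 + 2), pairing (TypeD.A (m + 2)) k θ = 0 ↔ (k : ℕ) ≠ 1 := by
    intro k
    rw [hp]
    split_ifs with h1 <;> simp [h1]
  refine ⟨θ, ?_, ?_, ?_⟩
  · intro (k : Fin (m + 2 + 2))
    have h1 := hp k
    change 0 ≤ pairing (TypeD.A (m + 2)) k θ
    rw [h1]
    split_ifs <;> norm_num
  · intro W _ _ cs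
    have h1 : IsRoot cs (TypeD.isCartan (m + 2)) θ := by
      obtain ⟨x, hx, hx'⟩ : TypeD.Rt (n := m + 2) cs (⟨0, by omega⟩, true) (⟨1, by omega⟩, true) :=
        TypeD.rt_of_ok hok
      rw [← he] at hx'
      rwa [← TypeD.ee_injective hx']
    obtain ⟨w, i, e⟩ := h1
    exact ⟨i, trivial, w, e⟩
  · intro i _ hi
    change Fin (m + 2 + 2) at i
    have hi1 := (hor i).1 hi
    have hi2 := i.2
    have hA : ∀ a b : Fin (m + 2 + 2), a ≠ b → ¬ TypeD.Adj a b → ¬ TypeD.Adj b a →
        TypeD.A (m + 2) a b = 0 := by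
      intro a b h1 h2 h3
      rw [TypeD.A_apply, if_neg h1, if_neg (by tauto)]
    have hA1 : ∀ a b : Fin (m + 2 + 2), a ≠ b → TypeD.Adj a b ∨ TypeD.Adj b a → TypeD.A (m + 2) a b = -1 := by
      intro a b h1 h2
      rw [TypeD.A_apply, if_neg h1, if_pos h2]
    have key : (i : ℕ) = 0 ∨ m = 0 → Iso (.D (m + 4)) θ i := by
      intro h0
      refine ⟨fun k hk hki => ?_, (⟨1, by omega⟩ : Fin (m + 2 + 2)), trivial, ?_, ?_⟩
      · change Fin (m + 2 + 2) at k
        have hk1 := (hor k).1 hk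
        have hk2 := k.2
        have hki' : (k : ℕ) ≠ i := fun e => hki (Fin.ext e)
        refine hA i k (fun e => hki e.symm) ?_ ?_
        · unfold TypeD.Adj; omega
        · unfold TypeD.Adj; omega
      · refine hA1 i _ (fun e => hi1 (congrArg Fin.val e)) ?_
        unfold TypeD.Adj
        simp only
        omega
      · refine hA1 _ i (fun e => hi1 (congrArg Fin.val e).symm) ?_
        unfold TypeD.Adj
        simp only
        omega
    by_cases h0 : (i : ℕ) = 0 ∨ m = 0
    · exact Or.inl (key h0)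
    · right
      push Not at h0
      have hm : 1 ≤ m := by omega
      refine ⟨.D (m + 2), up2 m, .D (m + 2) (by omega), ⟨fun i j => D_up2 m i j, fun _ => Iff.rfl,
        fun i => ?_, fun i k hk hk' => ?_⟩, (⟨(i : ℕ) - 2, by omega⟩ : Fin (m + 2)), ?_⟩
      · have hv := up2_val m i
        refine (hor _).2 ?_
        omega
      · change Fin (m + 2 + 2) at k
        have hk1 := (hor k).1 hk
        have hk2 := k.2
        have hk0 : (k : ℕ) = 0 := by
          by_contra h1
          exact hk' (⟨(k : ℕ) - 2, by omega⟩ : Fin (m + 2)) (Fin.ext (by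
            change (k : ℕ) - 2 + 2 = k
            omega))
        have hv := up2_val m i
        refine hA _ k (fun e => by have := congrArg Fin.val e; omega) ?_ ?_
        · unfold TypeD.Adj; omega
        · unfold TypeD.Adj; omega
      · refine Fin.ext ?_
        change (i : ℕ) - 2 + 2 = i
        omega

/-! ### Exceptional types -/

section Exc

open Cfsg.Lie Cfsg.Agent.ChevalleyStructure.CoxeterGeomTypes

theorem Blk.of_all {τ τ' : Ty} {θ : Fin τ.rk → ℤ} (f : Fin τ'.rk ↪ Fin τ.rk)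
    (cart : ∀ i j, τ.cartan (f i) (f j) = τ'.cartan i j) (long : ∀ i, τ.long (f i) ↔ τ'.long i)
    (hor : ∀ k, pairing τ.cartan k θ = 0 ↔ ∃ j, f j = k) : Blk τ τ' θ f :=
  ⟨cart, long, fun i => (hor _).2 ⟨i, rfl⟩, fun _ k hk hk' => by
    obtain ⟨j, hj⟩ := (hor k).1 hk
    exact absurd hj (hk' j)⟩

set_option backward.isDefEq.respectTransparency false in
theorem hor6 : ∀ k : Fin 6, pairing (cartanOf chevE6 6) k (KindE.fr6 0) = 0 ↔ ∃ j, KindE.lev6 j = k := by
  decide +kernel

set_option backward.isDefEq.respectTransparency false in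
theorem hor7 : ∀ k : Fin 7, pairing (cartanOf chevE7 7) k (KindE.fr7 0) = 0 ↔ ∃ j, KindE.lev7 j = k := by
  decide +kernel

set_option backward.isDefEq.respectTransparency false in
theorem hor8 : ∀ k : Fin 8, pairing (cartanOf chevE8 8) k (KindE.fr8 0) = 0 ↔ ∃ j, KindE.lev8 j = k := by
  decide +kernel

set_option backward.isDefEq.respectTransparency false in
theorem hor4 : ∀ k : Fin 4, pairing (cartanOf chevF4 4) k (KindF.fr 0) = 0 ↔ ∃ j, KindF.lev j = k := by
  decide +kernel

set_option backward.isDefEq.respectTransparency false in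
theorem long4 : ∀ i : Fin 3, (2 ≤ (KindF.lev i : ℕ) ↔ (i : ℕ) + 1 = 3) := by
  decide +kernel

theorem topE6 : Top .E6 (KindE.fr6 0) where
  dom := KindE.dom_theta6
  mem {W} _ _ cs := by
    obtain ⟨w, i, e⟩ := KindE.isRoot_fr6 cs isCartan_E6 0
    exact ⟨i, trivial, w, e⟩
  blk i _ hi := Or.inr ⟨.A 5, ⟨KindE.lev6, KindE.lev6_injective⟩, .E6,
    Blk.of_all (τ := .E6) (τ' := .A 5) _ KindE.cartan_lev6 (fun _ => Iff.rfl) hor6, (hor6 i).1 hi⟩

theorem topE7 : Top .E7 (KindE.fr7 0) where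
  dom := KindE.dom_theta7
  mem {W} _ _ cs := by
    obtain ⟨w, i, e⟩ := KindE.isRoot_fr7 cs isCartan_E7 0
    exact ⟨i, trivial, w, e⟩
  blk i _ hi := Or.inr ⟨.D 6, ⟨KindE.lev7, KindE.lev7_injective⟩, .E7,
    Blk.of_all (τ := .E7) (τ' := .D 6) _ KindE.cartan_lev7 (fun _ => Iff.rfl) hor7, (hor7 i).1 hi⟩

theorem topE8 : Top .E8 (KindE.fr8 0) where
  dom := KindE.dom_theta8
  mem {W} _ _ cs := by
    obtain ⟨w, i, e⟩ := KindE.isRoot_fr8 cs isCartan_E8 0
    exact ⟨i, trivial, w, e⟩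
  blk i _ hi := Or.inr ⟨.E7, ⟨KindE.lev8, KindE.lev8_injective⟩, .E8,
    Blk.of_all (τ := .E8) (τ' := .E7) _ KindE.cartan_lev8 (fun _ => Iff.rfl) hor8, (hor8 i).1 hi⟩

theorem topF4 : Top .F4 (KindF.fr 0) where
  dom := KindF.dom_theta
  mem {W} _ _ cs := by
    have h1 := (KindF.mem_R_iff cs isCartan_F4 (KindF.fr 0)).1 ((KindF.frameSys cs isCartan_F4).mem 0)
    obtain ⟨w, e⟩ := h1
    exact ⟨(3 : Fin 4), (by decide : 2 ≤ (3 : ℕ)), w, e⟩
  blk i _ hi := Or.inr ⟨.C 3, ⟨KindF.lev, KindF.lev_injective⟩, .F4,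
    Blk.of_all (τ := .F4) (τ' := .C 3) _ KindF.cartan_lev long4 hor4, (hor4 i).1 hi⟩

end Exc

/-- **The dominant classical root of a type and its blocks.** -/
theorem exists_top {τ : Ty} (h : KOk τ) : ∃ θ, Top τ θ := by
  cases τ with
  | A n => exact ⟨_, topA n h⟩
  | B n => exact ⟨_, topB n h⟩
  | C n => exact ⟨_, topC n h⟩
  | D n =>
    have h' : 4 ≤ n := h
    obtain ⟨m, rfl⟩ : ∃ m, n = m + 4 := ⟨n - 4, by omega⟩
    exact exists_topD m
  | E6 => exact ⟨_, topE6⟩
  | E7 => exact ⟨_, topE7⟩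
  | E8 => exact ⟨_, topE8⟩
  | F4 => exact ⟨_, topF4⟩
  | G2 => exact h.elim

end Cfsg.Agent.Nodes.BlockRoots
end

-- part: H897/T5Lat
section
set_option linter.all false
open scoped Cfsg.Agent.FastGrp

/-!
# Stabilisers of classes modulo `p` of the root lattice, simply laced case (T5)

`mem_VV_of_rep` : if `w μ ≡ μ` modulo `p` then `w` is a product of reflections in roots `β` with `p ∣ (μ, β)`.
`exists_fix` : an isometry `θ` with `θ μ ≡ μ` modulo `p` fixes, up to such reflections, a vector of the class.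
-/

set_option autoImplicit false
set_option linter.unusedSectionVars false

namespace Cfsg.Agent.H897.T5Lat

open CoxeterSystem Cfsg.Agent.ChevalleyStructure.CoxeterGeom Cfsg.Agent.Tits.Roots Cfsg.Agent.Tits.Core
  Cfsg.Agent.Tits.RootComb Cfsg.Agent.Nodes.Comb Cfsg.Agent.Nodes.Reps Cfsg.Agent.Nodes.SubComb
  Cfsg.Agent.Nodes.Coroot Cfsg.Agent.Nodes.SimplyLaced Cfsg.Agent.Nodes.StabComb

variable {I W : Type*} [Fintype I] [DecidableEq I] [Group W] {M : CoxeterMatrix I}
  (cs : CoxeterSystem M W) {A : I → I → ℤ} (h : IsCartan M A)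

/-- The symmetric form of a simply laced root system. -/
structure Frm (B : LinearMap.BilinForm ℤ (I → ℤ)) : Prop where
  symm : ∀ x y, B x y = B y x
  pos : ∀ x, x ≠ 0 → 0 < B x x
  inv : ∀ (w : W) x y, B (rep cs h w x) (rep cs h w y) = B x y
  cpr : ∀ x y, IsRoot cs h y → B x y = cpr cs h x y
  sl : ∀ x y, IsRoot cs h x → IsRoot cs h y → x ≠ y → x ≠ -y → |Cfsg.Agent.Nodes.Coroot.cpr cs h x y| ≤ 1

variable {cs h} {B : LinearMap.BilinForm ℤ (I → ℤ)}

namespace Frm

variable [Finite W] (F : Frm cs h B)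
include F

theorem self {x : I → ℤ} (hx : IsRoot cs h x) : B x x = 2 := by
  rw [F.cpr x x hx, cpr_self cs h hx]

theorem nonneg (x : I → ℤ) : 0 ≤ B x x := by
  by_cases hx : x = 0
  · rw [hx, map_zero]
  · exact (F.pos x hx).le

theorem eq_zero {x : I → ℤ} (hx : B x x ≤ 0) : x = 0 := by
  by_contra hcon
  exact absurd (F.pos x hcon) (not_lt.2 hx)

/-- the norm of a sum -/
theorem norm_add (x y : I → ℤ) : B (x + y) (x + y) = B x x + 2 * B x y + B y y := by
  simp only [map_add, LinearMap.add_apply]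
  rw [F.symm y x]
  ring

theorem norm_sub_smul (x y : I → ℤ) (m : ℤ) : B (x - m • y) (x - m • y) = B x x - 2 * m * B x y + m * m * B y y := by
  rw [sub_eq_add_neg, F.norm_add]
  simp only [map_neg, LinearMap.neg_apply, map_smul, LinearMap.smul_apply, smul_eq_mul]
  ring

theorem sum_nonneg (x : I → ℤ) : ∀ L : List (I → ℤ), (∀ y ∈ L, 0 ≤ B x y) → 0 ≤ B x L.sum
  | [], _ => by rw [List.sum_nil, map_zero]
  | y :: L, hL => by
    rw [List.sum_cons, map_add]
    exact add_nonneg (hL y List.mem_cons_self) (sum_nonneg x L fun z hz => hL z (List.mem_cons_of_mem _ hz))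

theorem sum_le (x : I → ℤ) (c : ℤ) : ∀ L : List (I → ℤ), (∀ y ∈ L, B x y ≤ c) → B x L.sum ≤ c * L.length
  | [], _ => by rw [List.sum_nil, map_zero]; simp
  | y :: L, hL => by
    rw [List.sum_cons, map_add, List.length_cons]
    have h1 := hL y List.mem_cons_self
    have h2 := sum_le x c L fun z hz => hL z (List.mem_cons_of_mem _ hz)
    push_cast
    linarith

/-- Sums of roots without obtuse pairs are long. -/
theorem norm_sum : ∀ L : List (I → ℤ), (∀ x ∈ L, IsRoot cs h x) → L.Pairwise (fun x y => 0 ≤ B x y) →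
    2 * (L.length : ℤ) ≤ B L.sum L.sum
  | [], _, _ => by rw [List.sum_nil, map_zero]; simp
  | x :: L, hL, hP => by
    rw [List.pairwise_cons] at hP
    rw [List.sum_cons, F.norm_add, F.self (hL x List.mem_cons_self), List.length_cons]
    have h1 := norm_sum L (fun z hz => hL z (List.mem_cons_of_mem _ hz)) hP.2
    have h2 := F.sum_nonneg x L hP.1
    push_cast
    linarith

/-- Every sum of roots is a sum of at most as many roots without obtuse pairs. -/
theorem exists_pairwise : ∀ (n : ℕ) (L : List (I → ℤ)), L.length ≤ n → (∀ x ∈ L, IsRoot cs h x) →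
    ∃ L' : List (I → ℤ), L'.length ≤ L.length ∧ (∀ x ∈ L', IsRoot cs h x) ∧ L'.sum = L.sum ∧
      L'.Pairwise (fun x y => 0 ≤ B x y) := by
  intro n
  induction n with
  | zero =>
    intro L hL _
    have h0 : L = [] := List.length_eq_zero_iff.1 (Nat.le_zero.1 hL)
    subst h0
    exact ⟨[], le_refl _, by simp, rfl, List.Pairwise.nil⟩
  | succ n ih =>
    intro L hL hR
    rcases L with _ | ⟨x, L1⟩
    · exact ⟨[], le_refl _, by simp, rfl, List.Pairwise.nil⟩
    rw [List.length_cons] at hL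
    obtain ⟨L2, hl, hr, hs, hp⟩ := ih L1 (by omega) fun z hz => hR z (List.mem_cons_of_mem _ hz)
    have hx := hR x List.mem_cons_self
    by_cases hall : ∀ y ∈ L2, 0 ≤ B x y
    · refine ⟨x :: L2, ?_, ?_, ?_, List.pairwise_cons.2 ⟨hall, hp⟩⟩
      · rw [List.length_cons, List.length_cons]; omega
      · intro z hz
        rcases List.mem_cons.1 hz with rfl | hz
        · exact hx
        · exact hr z hz
      · rw [List.sum_cons, List.sum_cons, hs]
    · push Not at hall
      obtain ⟨y, hy, hxy⟩ := hall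
      have hyr := hr y hy
      obtain ⟨L3, hL3⟩ : ∃ L3, L2.Perm (y :: L3) := ⟨_, List.perm_cons_erase hy⟩
      have hlen : L2.length = L3.length + 1 := by rw [hL3.length_eq, List.length_cons]
      have hsum : L2.sum = y + L3.sum := by rw [hL3.sum_eq, List.sum_cons]
      have hr3 : ∀ z ∈ L3, IsRoot cs h z := fun z hz => hr z (hL3.mem_iff.2 (List.mem_cons_of_mem _ hz))
      by_cases hxy' : x = -y
      · -- cancel
        obtain ⟨L4, h1, h2, h3, h4⟩ := ih L3 (by omega) hr3
        refine ⟨L4, ?_, h2, ?_, h4⟩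
        · rw [List.length_cons]; omega
        · rw [h3, List.sum_cons, ← hs, hsum, hxy']; abel
      · have hne : x ≠ y := by
          rintro rfl
          rw [F.self hx] at hxy
          omega
        have hc := F.sl x y hx hyr hne hxy'
        rw [F.cpr x y hyr] at hxy
        have hc1 : Cfsg.Agent.Nodes.Coroot.cpr cs h x y = -1 := by
          rw [abs_le] at hc
          omega
        have h1 := isRoot_refl cs h hx hyr
        rw [hc1] at h1
        have h2 : x - (-1 : ℤ) • y = x + y := by rw [neg_smul, one_smul, sub_neg_eq_add]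
        rw [h2] at h1
        obtain ⟨L4, h3, h4, h5, h6⟩ := ih ((x + y) :: L3) (by rw [List.length_cons]; omega) (by
          intro z hz
          rcases List.mem_cons.1 hz with rfl | hz
          · exact h1
          · exact hr3 z hz)
        refine ⟨L4, ?_, h4, ?_, h6⟩
        · rw [List.length_cons] at h3 ⊢; omega
        · rw [h5, List.sum_cons, List.sum_cons, ← hs, hsum, add_assoc]

omit F in
theorem sum_sr_list : ∀ (s : List I) (x : I → ℤ), ∃ L : List (I → ℤ), (∀ y ∈ L, IsRoot cs h y) ∧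
    L.sum = (s.map fun i => x i • sr i).sum
  | [], _ => ⟨[], by simp, rfl⟩
  | i :: s, x => by
    obtain ⟨L, h1, h2⟩ := sum_sr_list s x
    have key : ∀ n : ℕ, ∀ c : I → ℤ, IsRoot cs h c → ∃ L : List (I → ℤ), (∀ y ∈ L, IsRoot cs h y) ∧
        L.sum = (n : ℤ) • c := by
      intro n c hc
      refine ⟨List.replicate n c, fun y hy => by rw [List.eq_of_mem_replicate hy]; exact hc, ?_⟩
      rw [List.sum_replicate, natCast_zsmul]
    obtain ⟨L', h3, h4⟩ : ∃ L' : List (I → ℤ), (∀ y ∈ L', IsRoot cs h y) ∧ L'.sum = x i • sr i := by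
      rcases Int.eq_nat_or_neg (x i) with ⟨n, hn | hn⟩
      · rw [hn]; exact key n _ (isRoot_sr cs h i)
      · rw [hn, neg_smul, ← smul_neg]; exact key n _ (isRoot_sr cs h i).neg
    refine ⟨L' ++ L, fun y hy => ?_, ?_⟩
    · rcases List.mem_append.1 hy with hy | hy
      · exact h3 y hy
      · exact h1 y hy
    · rw [List.sum_append, h4, h2, List.map_cons, List.sum_cons]

omit F in
/-- Every vector is a sum of roots. -/
theorem exists_list (x : I → ℤ) : ∃ L : List (I → ℤ), (∀ y ∈ L, IsRoot cs h y) ∧ L.sum = x := by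
  obtain ⟨L, h1, h2⟩ := sum_sr_list (cs := cs) (h := h) (Finset.univ : Finset I).toList x
  refine ⟨L, h1, ?_⟩
  rw [h2, Finset.sum_map_toList]
  exact (eq_sum_sr x).symm

end Frm

/-- `μ` has minimal norm in its class modulo `p`. -/
def Min (B : LinearMap.BilinForm ℤ (I → ℤ)) (p : ℕ) (μ : I → ℤ) : Prop :=
  ∀ l : I → ℤ, B μ μ ≤ B (μ - (p : ℤ) • l) (μ - (p : ℤ) • l)

variable (cs h) in
/-- the group generated by the reflections in roots `β` with `p ∣ (μ, β)` -/
def VV (p : ℕ) (μ : I → ℤ) : Subgroup W :=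
  Subgroup.closure {r | ∃ w i, (p : ℤ) ∣ cpr cs h μ (rep cs h w (sr i)) ∧ r = rfl' cs w i}

theorem VV_congr [Finite W] {p : ℕ} {μ l : I → ℤ} : VV cs h p (μ - (p : ℤ) • l) = VV cs h p μ := by
  have key : ∀ w i, (p : ℤ) ∣ cpr cs h (μ - (p : ℤ) • l) (rep cs h w (sr i)) ↔
      (p : ℤ) ∣ cpr cs h μ (rep cs h w (sr i)) := by
    intro w i
    have hr : IsRoot cs h (rep cs h w (sr i)) := ⟨w, i, rfl⟩
    rw [sub_eq_add_neg, ← smul_neg, cpr_add cs h _ _ hr, cpr_smul cs h _ _ hr]
    exact (Int.dvd_add_left (Dvd.intro _ rfl))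
  unfold VV
  congr 1
  ext r
  constructor
  · rintro ⟨w, i, h1, h2⟩
    exact ⟨w, i, (key w i).1 h1, h2⟩
  · rintro ⟨w, i, h1, h2⟩
    exact ⟨w, i, (key w i).2 h1, h2⟩

section Main

variable [Finite W] (F : Frm cs h B) {p : ℕ}
include F

theorem Min.le {μ : I → ℤ} (hp : 0 < p) (hμ : Min B p μ) {β : I → ℤ} (hβ : IsRoot cs h β) : B μ β ≤ p := by
  have h1 := hμ β
  rw [F.norm_sub_smul, F.self hβ] at h1
  have hp' : (0 : ℤ) < p := by exact_mod_cast hp
  by_contra hcon
  push Not at hcon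
  nlinarith

/-- The step towards another minimal vector. -/
theorem exists_step (hp : 0 < p) {μ ν : I → ℤ} (hμ : Min B p μ) (hμν : Min B p (μ - (p : ℤ) • ν)) (hν : ν ≠ 0) :
    ∃ β, IsRoot cs h β ∧ B μ β = p ∧ B ν β = 2 := by
  have hp' : (0 : ℤ) < p := by exact_mod_cast hp
  obtain ⟨L0, hR0, hs0⟩ := Frm.exists_list (cs := cs) (h := h) ν
  obtain ⟨L, -, hR, hs, hP⟩ := F.exists_pairwise L0.length L0 (le_refl _) hR0
  rw [hs0] at hs
  rcases L with _ | ⟨β, L⟩
  · exact absurd hs.symm hν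
  rw [List.pairwise_cons] at hP
  have hβ := hR β List.mem_cons_self
  have hR' : ∀ x ∈ L, IsRoot cs h x := fun z hz => hR z (List.mem_cons_of_mem _ hz)
  rw [List.sum_cons] at hs
  -- the norms
  have h1 : (p : ℤ) * B ν ν = 2 * B μ ν := by
    have h2 := hμ ν
    have h3 := hμν (-ν)
    have h4 : μ - (p : ℤ) • ν - (p : ℤ) • (-ν) = μ := by rw [smul_neg]; abel
    rw [h4] at h3
    have h5 := le_antisymm h2 h3
    rw [F.norm_sub_smul] at h5
    have h6 : (p : ℤ) * ((p : ℤ) * B ν ν - 2 * B μ ν) = 0 := by linarith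
    rcases mul_eq_zero.1 h6 with h7 | h7
    · omega
    · linarith
  have h2 := F.norm_sum L hR' hP.2
  have h3 : B ν ν = 2 + 2 * B β L.sum + B L.sum L.sum := by rw [← hs, F.norm_add, F.self hβ]
  have h4 : B μ ν = B μ β + B μ L.sum := by rw [← hs, map_add]
  have h5 := F.sum_le μ p L fun y hy => hμ.le F hp (hR' y hy)
  have h6 := hμ.le F hp hβ
  have h7 := F.sum_nonneg β L hP.1
  have h8 : (p : ℤ) * B β L.sum ≤ 0 := by nlinarith
  have h9 : B β L.sum = 0 := by
    by_contra hcon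
    have : 0 < B β L.sum := lt_of_le_of_ne h7 (Ne.symm hcon)
    nlinarith
  refine ⟨β, hβ, ?_, ?_⟩
  · rw [h9] at h3
    nlinarith
  · rw [← hs, F.symm, map_add, F.self hβ, h9, add_zero]

/-- **Minimal vectors of a class are conjugate.** -/
theorem trans (hp : 0 < p) : ∀ (n : ℕ) {μ ν : I → ℤ}, Min B p μ → Min B p (μ - (p : ℤ) • ν) → B ν ν ≤ n →
    ∃ v ∈ VV cs h p μ, rep cs h v μ = μ - (p : ℤ) • ν := by
  intro n
  induction n with
  | zero =>
    intro μ ν _ _ hn
    have h0 := F.eq_zero hn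
    refine ⟨1, one_mem _, ?_⟩
    rw [map_one, Module.End.one_apply, h0, smul_zero, sub_zero]
  | succ n ih =>
    intro μ ν hμ hμν hn
    by_cases hν : ν = 0
    · refine ⟨1, one_mem _, ?_⟩
      rw [map_one, Module.End.one_apply, hν, smul_zero, sub_zero]
    obtain ⟨β, hβ, h1, h2⟩ := exists_step F hp hμ hμν hν
    obtain ⟨w, i, rfl⟩ := hβ
    have hβ : IsRoot cs h (rep cs h w (sr i)) := ⟨w, i, rfl⟩
    obtain ⟨β, hβe⟩ : ∃ β, β = rep cs h w (sr i) := ⟨_, rfl⟩
    have h3 : rep cs h (rfl' cs w i) μ = μ - (p : ℤ) • β := by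
      rw [rep_rfl'_eq, ← F.cpr _ _ hβ, h1, hβe]
    have hmem : rfl' cs w i ∈ VV cs h p μ := by
      refine Subgroup.subset_closure ⟨w, i, ?_, rfl⟩
      rw [← F.cpr _ _ hβ, h1]
    have hmin : Min B p (μ - (p : ℤ) • β) := by
      intro l
      have h4 : B (μ - (p : ℤ) • β) (μ - (p : ℤ) • β) = B μ μ := by rw [← h3, F.inv]
      rw [h4, sub_sub, ← smul_add]
      exact hμ _
    have h5 : μ - (p : ℤ) • β - (p : ℤ) • (ν - β) = μ - (p : ℤ) • ν := by rw [smul_sub]; abel
    obtain ⟨v, hv, hv1⟩ := ih (μ := μ - (p : ℤ) • β) (ν := ν - β) hmin (by rw [h5]; exact hμν) (by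
      have h6 := F.norm_sub_smul ν β 1
      rw [one_smul] at h6
      rw [h6, hβe, h2, F.self hβ]
      push_cast at hn
      linarith)
    rw [VV_congr] at hv
    refine ⟨v * rfl' cs w i, mul_mem hv hmem, ?_⟩
    rw [rep_mul_apply, h3, hv1, h5]

omit F in
/-- The stabiliser of a vector is generated by reflections. -/
theorem mem_VV_of_fix {μ : I → ℤ} {u : W} (hu : rep cs h u μ = μ) : u ∈ VV cs h p μ := by
  obtain ⟨w, hw⟩ := exists_dom_rep cs h μ
  have h1 : rep cs h (w * u * w⁻¹) (rep cs h w μ) = rep cs h w μ := by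
    rw [rep_mul_apply, rep_mul_apply, rep_inv_apply, hu]
  have h2 := mem_WJ_of_rep hw h1
  have h3 : ∀ v ∈ WJ cs (orth cs h (rep cs h w μ)), w⁻¹ * v * w ∈ VV cs h p μ := by
    intro v hv
    induction hv using Subgroup.closure_induction with
    | mem v hv =>
      obtain ⟨i, hi, rfl⟩ := hv
      refine Subgroup.subset_closure ⟨w⁻¹, i, ?_, ?_⟩
      · rw [cpr_rep_sr, inv_inv, mem_orth.1 hi]
        exact dvd_zero _
      · rw [rfl', inv_inv]
    | one => rw [mul_one, inv_mul_cancel]; exact one_mem _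
    | mul a b _ _ ha hb =>
      have : w⁻¹ * (a * b) * w = (w⁻¹ * a * w) * (w⁻¹ * b * w) := by group
      rw [this]; exact mul_mem ha hb
    | inv a _ ha =>
      have : w⁻¹ * a⁻¹ * w = (w⁻¹ * a * w)⁻¹ := by group
      rw [this]; exact inv_mem ha
  have h4 := h3 _ h2
  have h5 : w⁻¹ * (w * u * w⁻¹) * w = u := by group
  rwa [h5] at h4

/-- every class has a minimal vector -/
theorem exists_min (p : ℕ) (μ : I → ℤ) : ∃ l, Min B p (μ - (p : ℤ) • l) := by
  obtain ⟨l, hl⟩ : ∃ l : I → ℤ, ∀ l' : I → ℤ, (B (μ - (p : ℤ) • l) (μ - (p : ℤ) • l)).toNat ≤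
      (B (μ - (p : ℤ) • l') (μ - (p : ℤ) • l')).toNat :=
    ⟨_, fun l' => Function.argmin_le (fun l : I → ℤ => (B (μ - (p : ℤ) • l) (μ - (p : ℤ) • l)).toNat) l'⟩
  refine ⟨l, fun l' => ?_⟩
  have h1 := hl (l + l')
  have h2 : μ - (p : ℤ) • l - (p : ℤ) • l' = μ - (p : ℤ) • (l + l') := by rw [smul_add]; abel
  rw [h2]
  have h3 := F.nonneg (μ - (p : ℤ) • l)
  have h4 := F.nonneg (μ - (p : ℤ) • (l + l'))
  omega

/-- **An isometry fixing the class of `μ` fixes a minimal vector of the class, up to reflections.** -/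
theorem exists_fix (hp : 0 < p) {θ : (I → ℤ) → I → ℤ} (hθ : ∀ x, B (θ x) (θ x) = B x x)
    (hsub : ∀ x l, ∃ l', θ (x - (p : ℤ) • l) = θ x - (p : ℤ) • l')
    (hsub' : ∀ x l, ∃ l', θ l' = l ∧ θ (x - (p : ℤ) • l') = θ x - (p : ℤ) • l)
    {μ l0 : I → ℤ} (hμ : θ μ = μ - (p : ℤ) • l0) :
    ∃ l, Min B p (μ - (p : ℤ) • l) ∧ ∃ v ∈ VV cs h p μ, rep cs h v (θ (μ - (p : ℤ) • l)) = μ - (p : ℤ) • l := by
  obtain ⟨l, hl⟩ := exists_min F p μ
  refine ⟨l, hl, ?_⟩
  obtain ⟨l1, h1⟩ := hsub μ l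
  -- `θ` of the minimal vector is minimal
  have hmin : Min B p (θ (μ - (p : ℤ) • l)) := by
    intro l2
    obtain ⟨l3, -, h3⟩ := hsub' (μ - (p : ℤ) • l) l2
    rw [← h3, hθ, hθ]
    exact hl l3
  have h2 : μ - (p : ℤ) • l = θ (μ - (p : ℤ) • l) - (p : ℤ) • (l - l0 - l1) := by
    rw [h1, hμ, smul_sub, smul_sub]; abel
  have hn : B (l - l0 - l1) (l - l0 - l1) ≤ ((B (l - l0 - l1) (l - l0 - l1)).toNat : ℤ) := by
    rw [Int.toNat_of_nonneg (F.nonneg _)]
  obtain ⟨v, hv, hv1⟩ := trans F hp _ hmin (by rw [← h2]; exact hl) hn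
  refine ⟨v, ?_, ?_⟩
  · have h3 : VV cs h p (θ (μ - (p : ℤ) • l)) = VV cs h p μ := by
      have h4 : θ (μ - (p : ℤ) • l) = μ - (p : ℤ) • (l0 + l1) := by rw [h1, hμ, smul_add]; abel
      rw [h4, VV_congr]
    rwa [h3] at hv
  · rw [hv1, ← h2]

/-- **The stabiliser of a class modulo `p` is generated by reflections.** -/
theorem mem_VV_of_rep (hp : 0 < p) {w : W} {μ l0 : I → ℤ} (hw : rep cs h w μ = μ - (p : ℤ) • l0) :
    w ∈ VV cs h p μ := by
  obtain ⟨l, hl, v, hv, hv1⟩ := exists_fix F hp (θ := fun x => rep cs h w x) (fun x => F.inv w x x)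
    (fun x l => ⟨rep cs h w l, by rw [map_sub, map_smul]⟩)
    (fun x l => ⟨rep cs h w⁻¹ l, rep_apply_inv cs h w l, by
      show rep cs h w (x - (p : ℤ) • rep cs h w⁻¹ l) = _
      rw [map_sub, map_smul, rep_apply_inv]⟩) hw
  have h1 : v * w ∈ VV cs h p (μ - (p : ℤ) • l) := mem_VV_of_fix (by rw [rep_mul_apply]; exact hv1)
  rw [VV_congr] at h1
  have h2 : w = v⁻¹ * (v * w) := by group
  rw [h2]
  exact mul_mem (inv_mem hv) h1

end Main

/-! ### The form from the Cartan matrix -/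

section Form

variable [Finite W]

/-- the bilinear form of the Cartan matrix -/
noncomputable def bf (A : I → I → ℤ) : LinearMap.BilinForm ℤ (I → ℤ) := Matrix.toBilin' (Matrix.of A)

theorem bf_apply (x y : I → ℤ) : bf A x y = ∑ i, ∑ j, x i * A i j * y j := by
  rw [bf, Matrix.toBilin'_apply]
  rfl

variable (cs h) in
theorem frm (h4 : ∀ i j, M i j ≠ 4) (h6 : ∀ i j, M i j ≠ 6)
    (hlen : ∀ [Fintype W], ∀ i j, form cs h (sr i) (sr i) = form cs h (sr j) (sr j)) : Frm cs h (bf A) := by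
  have := Fintype.ofFinite W
  have hAs : ∀ i j, A i j = A j i := by
    intro i j
    rw [cart_eq h4 h6 h, cart_eq h4 h6 h, M.symmetric i j]
    by_cases hij : i = j
    · subst hij; rfl
    · rw [if_neg hij, if_neg (Ne.symm hij)]
  have hsymm : ∀ x y, bf A x y = bf A y x := by
    intro x y
    rw [bf_apply, bf_apply, Finset.sum_comm]
    refine Finset.sum_congr rfl fun i _ => Finset.sum_congr rfl fun j _ => ?_
    rw [hAs j i]; ring
  have hcpr : ∀ x y, IsRoot cs h y → bf A x y = cpr cs h x y := by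
    intro x y hy
    rw [cpr_eq_sum cs h h4 h6 x hy, bf_apply]
    refine Finset.sum_congr rfl fun i _ => ?_
    rw [pairing, Finset.mul_sum]
    refine Finset.sum_congr rfl fun j _ => ?_
    ring
  by_cases hI : Nonempty I
  swap
  · rw [not_nonempty_iff] at hI
    have he : ∀ x y : I → ℤ, x = y := fun x y => funext fun i => (IsEmpty.false i).elim
    refine ⟨hsymm, fun x hx => (hx (he _ _)).elim, fun w x y => by rw [he (rep cs h w x) x, he (rep cs h w y) y],
      hcpr, fun x y hx hy h1 h2 => abs_cpr_le_one cs h h4 h6 hx hy h1 h2⟩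
  obtain ⟨i0⟩ := hI
  obtain ⟨c0, hc0⟩ : ∃ c0, c0 = form cs h (sr i0) (sr i0) := ⟨_, rfl⟩
  have hc0p : 0 < c0 := by
    rw [hc0]
    exact form_pos cs h (fun h0 => by
      have h1 := congrFun h0 i0
      rw [sr_self] at h1
      exact one_ne_zero h1)
  have hform : ∀ x y, 2 * form cs h x y = bf A x y * c0 := by
    intro x y
    have h1 : ∀ i, 2 * form cs h x (sr i) = bf A x (sr i) * c0 := by
      intro i
      rw [two_form_cpr cs h x (isRoot_sr cs h i), hcpr _ _ (isRoot_sr cs h i), hc0, hlen i i0]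
    have h2 : ∀ s : Finset I, 2 * form cs h x (∑ k ∈ s, y k • sr k) = bf A x (∑ k ∈ s, y k • sr k) * c0 := by
      classical
      intro s
      induction s using Finset.induction_on with
      | empty => rw [Finset.sum_empty, form_zero_right, map_zero, mul_zero, zero_mul]
      | insert a s ha ih =>
        rw [Finset.sum_insert ha, form_add_right, form_smul_right, map_add, map_smul, smul_eq_mul, mul_add, ih, add_mul]
        have := h1 a
        linear_combination (y a) * this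
    have h3 := h2 Finset.univ
    rwa [← eq_sum_sr y] at h3
  refine ⟨hsymm, fun x hx => ?_, fun w x y => ?_, hcpr,
    fun x y hx hy h1 h2 => abs_cpr_le_one cs h h4 h6 hx hy h1 h2⟩
  · have h1 := hform x x
    have h2 := form_pos cs h hx
    by_contra hcon
    push Not at hcon
    nlinarith
  · have h1 := hform x y
    have h2 := hform (rep cs h w x) (rep cs h w y)
    rw [form_rep, h1] at h2
    exact (mul_right_cancel₀ hc0p.ne' h2).symm

end Form

end Cfsg.Agent.H897.T5Lat

private theorem dce_ed680ea22d51 : _root_.True := by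
  try have : _root_.True := by simp only [_root_.Cfsg.Agent.H897.T5Lat.bf.eq_1]
  exact _root_.True.intro
end

-- part: H897/T5Conn
section
set_option linter.all false
open scoped Cfsg.Agent.FastGrp

/-!
# Connected simply laced diagrams: the simple roots are conjugate (T5)
-/

set_option autoImplicit false
set_option linter.unusedSectionVars false

namespace Cfsg.Agent.H897.T5Conn

open CoxeterSystem Cfsg.Agent.ChevalleyStructure.CoxeterGeom Cfsg.Agent.Tits.Roots Cfsg.Agent.Tits.Core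
  Cfsg.Agent.Tits.RootComb Cfsg.Agent.Nodes.Comb Cfsg.Agent.Nodes.Reps Cfsg.Agent.Nodes.SubComb
  Cfsg.Agent.Nodes.Coroot Cfsg.Agent.H897.T5Lat

variable {I W : Type*} [Fintype I] [DecidableEq I] [Group W] {M : CoxeterMatrix I}
  (cs : CoxeterSystem M W) {A : I → I → ℤ} (h : IsCartan M A)

/-- two simple roots joined by a simple edge are conjugate -/
theorem exists_act_of_three {i j : I} (hij : M i j = 3) : ∃ w : W, rep cs h w (sr i) = sr j := by
  have hne : i ≠ j := by
    rintro rfl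
    rw [M.diagonal] at hij
    norm_num at hij
  have hA : A i j = -1 ∧ A j i = -1 := by
    rcases h.rel i j hne with h1 | h1 | h1 | h1
    · omega
    · exact h1.2
    · omega
    · omega
  refine ⟨cs.simple i * cs.simple j, ?_⟩
  have e1 : rep cs h (cs.simple j) (sr i) = sr i + sr j := by
    rw [rep_simple_eq, sr, sr, pairing_single, hA.2]
    simp only [mul_one, neg_smul, one_smul, sub_neg_eq_add]
  have e2 : rep cs h (cs.simple i) (sr j) = sr j + sr i := by
    rw [rep_simple_eq, sr, sr, pairing_single, hA.1]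
    simp only [mul_one, neg_smul, one_smul, sub_neg_eq_add]
  rw [rep_mul_apply, e1, map_add, e2, rep_simple_sr]
  abel

/-- `par` leads to `i0` along edges -/
def Par (M : CoxeterMatrix I) (i0 : I) (par : I → I) (n : ℕ) : Prop :=
  (∀ j, j = i0 ∨ M j (par j) = 3) ∧ par i0 = i0 ∧ ∀ j, par^[n] j = i0

variable {cs h} in
theorem Par.conj {i0 : I} {par : I → I} {n : ℕ} (hP : Par M i0 par n) (j : I) :
    ∃ w : W, rep cs h w (sr j) = sr i0 := by
  have key : ∀ (m : ℕ) (j : I), par^[m] j = i0 → ∃ w : W, rep cs h w (sr j) = sr i0 := by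
    intro m
    induction m with
    | zero =>
      intro j hj
      have hj' : j = i0 := hj
      exact ⟨1, by rw [hj', map_one, Module.End.one_apply]⟩
    | succ m ih =>
      intro j hj
      rw [Function.iterate_succ_apply] at hj
      obtain ⟨w, hw⟩ := ih _ hj
      rcases hP.1 j with h1 | h1
      · exact ⟨1, by rw [h1, map_one, Module.End.one_apply]⟩
      · obtain ⟨w', hw'⟩ := exists_act_of_three cs h h1
        exact ⟨w * w', by rw [rep_mul_apply, hw', hw]⟩
  exact key n j (hP.2.2 j)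

variable {cs h} in
/-- **All roots are conjugate to `α_{i0}`.** -/
theorem Par.trans {i0 : I} {par : I → I} {n : ℕ} (hP : Par M i0 par n) {a : I → ℤ} (ha : IsRoot cs h a) :
    ∃ w : W, rep cs h w a = sr i0 := by
  obtain ⟨w, j, rfl⟩ := ha
  obtain ⟨w', hw'⟩ := hP.conj (cs := cs) (h := h) j
  exact ⟨w' * w⁻¹, by rw [rep_mul_apply, rep_inv_apply, hw']⟩

theorem Par.len {i0 : I} {par : I → I} {n : ℕ} (hP : Par M i0 par n) [Fintype W] (i j : I) :
    form cs h (sr i) (sr i) = form cs h (sr j) (sr j) := by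
  obtain ⟨w, hw⟩ := hP.conj (cs := cs) (h := h) i
  obtain ⟨w', hw'⟩ := hP.conj (cs := cs) (h := h) j
  rw [← form_rep cs h w, hw, ← form_rep cs h w' (sr j), hw']

/-- the form of a connected simply laced diagram -/
theorem Par.frm [Finite W] {i0 : I} {par : I → I} {n : ℕ} (hP : Par M i0 par n) (h4 : ∀ i j, M i j ≠ 4)
    (h6 : ∀ i j, M i j ≠ 6) : Frm cs h (bf A) := T5Lat.frm cs h h4 h6 fun {_} i j => hP.len cs h i j

end Cfsg.Agent.H897.T5Conn
end
end
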