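import Mathlib
import Cfsg.Agent.H533.T5.SporDefs_m3
import Cfsg.Agent.H897.T5Cent
import Cfsg.Agent.H609.PairExc
import Cfsg.Agent.BpExc.AsmN_m3
import Cfsg.Agent.H596.OneCtx
import Cfsg.Agent.H897.Cen
import Cfsg.Agent.H378.SmallTor_m3
import Cfsg.Agent.H897.T5Conn
import Cfsg.Agent.H129.TorusUntw
import Cfsg.Agent.H28.OutUntw
import Cfsg.Agent.ChevFast.E7
import Cfsg.Agent.ChevFast.E8
import Cfsg.Agent.ChevFast.Lin
import Cfsg.Agent.FastGrp
import Cfsg.Agent.Prune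
set_option linter.all false

section
prune_inst 0x7ffdfcfbfff8ffffdfff7e7ffed9dffc39d39fffe6dffb4b7fe0e7ff1bdf030839e5fbad9de0d8ff1fd762b410b87853fb7eeabfea6fdc7ffffdfff45ffbee1ff5f7bd08519f8cb40fbc0ff703f07f8e7f3fffffffffffffffffffffffffffbeffffffffffff

-- part: H897/T5Untw
section
prune_inst 0x20000000000000000000000000000000000000000000000000000000000000000000000000000000000000000000000000000000000000000000000000
set_option linter.all false
open scoped Cfsg.Agent.FastGrp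

-- part: H897/T5Box
section
/-!
# The reduction to a subgroup `K = [A^σ, A^σ]`, abstract form (T5)

`Y` is the ambient group with the automorphism `σ`, `S` is embedded in the fixed points by `ι`, `A` is a subgroup of
`Y` and `K ≤ S` a perfect subgroup with `ι K = [A^σ, A^σ]`.
`red_of` : if all elements of order `p` of `Y^σ` have a conjugate in `Y^σ` normalising `A` and not centralising `ι K`,
then `Red p K` for the group `S`.
-/

set_option autoImplicit false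
set_option linter.unusedSectionVars false

namespace Cfsg.Agent.H897.T5Box

open Subgroup Cfsg.Agent.H897.T5Sub
open scoped commutatorElement

variable {Y S : Type*} [Group Y] [Group S] (ι : S →* Y) (σ : MulAut Y) (A : Subgroup Y) (K : Subgroup S)

/-- `ι K` is the commutator subgroup of the fixed points in `A`. -/
structure Box : Prop where
  inj : Function.Injective ι
  fix : ∀ s, σ (ι s) = ι s
  sub : ∀ s ∈ K, ι s ∈ A
  perf : ⁅K, K⁆ = K
  comm : ∀ a ∈ A, ∀ b ∈ A, σ a = a → σ b = b → ∃ s ∈ K, ι s = ⁅a, b⁆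

/-- `α` preserves the fixed points and `A`. -/
structure Pres (α : MulAut Y) : Prop where
  fix : ∀ y, σ y = y → σ (α y) = α y
  A : ∀ y, y ∈ A → α y ∈ A

variable {ι σ A K}

theorem Pres.mul {α β : MulAut Y} (h : Pres σ A α) (h' : Pres σ A β) : Pres σ A (α * β) :=
  ⟨fun y hy => h.fix _ (h'.fix y hy), fun y hy => h.A _ (h'.A y hy)⟩

theorem Pres.conj {x : Y} (hx : σ x = x) (hA : ∀ y ∈ A, x * y * x⁻¹ ∈ A) : Pres σ A (MulAut.conj x) :=
  ⟨fun y hy => by rw [MulAut.conj_apply, map_mul, map_mul, map_inv, hx, hy], hA⟩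

/-- `α` maps `ι K` to itself. -/
theorem Box.img (B : Box ι σ A K) {α : MulAut Y} (P : Pres σ A α) {s : S} (hs : s ∈ K) :
    ∃ s' ∈ K, ι s' = α (ι s) := by
  have h1 : K ≤ ((K.map ι).comap α.toMonoidHom).comap ι := by
    rw [← B.perf, commutator_le]
    intro a ha b hb
    rw [mem_comap, mem_comap]
    have h2 : α.toMonoidHom (ι ⁅a, b⁆) = ⁅α (ι a), α (ι b)⁆ := by
      rw [map_commutatorElement]
      exact map_commutatorElement α _ _
    rw [h2]
    obtain ⟨s', hs', h3⟩ := B.comm _ (P.A _ (B.sub a ha)) _ (P.A _ (B.sub b hb)) (P.fix _ (B.fix a))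
      (P.fix _ (B.fix b))
    rw [B.perf]
    exact ⟨s', hs', h3⟩
  obtain ⟨s', hs', h⟩ := h1 hs
  exact ⟨s', hs', h⟩

theorem Box.mem_of_mem (B : Box ι σ A K) {α : MulAut Y} (P : Pres σ A α) {c : MulAut S}
    (h : ∀ s, ι (c s) = α (ι s)) {s : S} (hs : s ∈ K) : c s ∈ K := by
  obtain ⟨s', hs', h1⟩ := B.img P hs
  rw [← h] at h1
  rwa [← B.inj h1]

/-- an automorphism of finite order preserving `K` in one direction -/
theorem iff_of_pow {c : MulAut S} {n : ℕ} (hn : 0 < n) (hc : c ^ n = 1) (h : ∀ s ∈ K, c s ∈ K) (s : S) :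
    c s ∈ K ↔ s ∈ K := by
  refine ⟨fun hs => ?_, h s⟩
  have h1 : ∀ m : ℕ, ∀ s ∈ K, (c ^ m) s ∈ K := by
    intro m
    induction m with
    | zero => intro s hs; rw [pow_zero]; exact hs
    | succ m ih => intro s hs; rw [pow_succ', MulAut.mul_apply]; exact h _ (ih s hs)
  have h2 := h1 (n - 1) _ hs
  have h3 : (c ^ (n - 1)) (c s) = s := by
    rw [← MulAut.mul_apply, ← pow_succ, Nat.sub_add_cancel hn, hc, MulAut.one_apply]
  rwa [h3] at h2

/-- Standard outer automorphisms. -/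
structure Std (ι : S →* Y) (σ : MulAut Y) (A T : Subgroup Y) (K : Subgroup S) (p : ℕ) (φ : MulAut Y) : Prop where
  pow : φ ^ p = σ
  A : ∀ y, y ∈ A → φ y ∈ A
  lang : ∀ y : Y, ∃ z, y = z⁻¹ * φ z
  ne : ∀ t ∈ T, σ t = t → ∃ s ∈ K, t⁻¹ * φ (t * ι s * t⁻¹) * t ≠ ι s

theorem comm_pow {φ σ : MulAut Y} {p : ℕ} (h : φ ^ p = σ) (y : Y) : σ (φ y) = φ (σ y) := by
  rw [← h, ← MulAut.mul_apply, ← MulAut.mul_apply, ← pow_succ, ← pow_succ']

/-- **The reduction.** -/
theorem red_of (B : Box ι σ A K) {T : Subgroup Y} (hT : ∀ t ∈ T, ∀ y ∈ A, t * y * t⁻¹ ∈ A)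
    (hsplit : ∀ y, σ y = y → ∃ g : S, ∃ t ∈ T, y = t * ι g) (hZ : center Y = ⊥) {p : ℕ} (hp : p.Prime)
    (hinner : ∀ x, σ x = x → x ^ p = 1 → x ≠ 1 → ∃ y, σ y = y ∧ (∀ u ∈ A, (y * x * y⁻¹) * u * (y * x * y⁻¹)⁻¹ ∈ A) ∧
      ∃ s ∈ K, (y * x * y⁻¹) * ι s ≠ ι s * (y * x * y⁻¹))
    (hcases : ∀ c : MulAut S, orderOf c = p →
      (∃ y, y ^ p = 1 ∧ σ y = y ∧ ∀ s, ι (c s) = y * ι s * y⁻¹) ∨
      ∃ (i : ℕ) (φ : MulAut Y) (y : Y), i.Coprime p ∧ Std ι σ A T K p φ ∧ (MulAut.conj y * φ) ^ p = σ ∧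
        ∀ s, ι ((c ^ i) s) = (MulAut.conj y * φ) (ι s)) : Red p K := by
  intro c hc
  have hcp : c ^ p = 1 := by rw [← hc, pow_orderOf_eq_one]
  have hc1 : c ≠ 1 := by
    rintro rfl
    rw [orderOf_one] at hc
    exact hp.one_lt.ne hc
  rcases hcases c hc with ⟨x, hxp, hσx, hx⟩ | ⟨i, φ, y, hi, hstd, hyp, hy⟩
  · -- inner-diagonal
    have hx1 : x ≠ 1 := by
      rintro rfl
      apply hc1
      ext s
      apply B.inj
      rw [hx, one_mul, inv_one, mul_one, MulAut.one_apply]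
    obtain ⟨y, hσy, h1, s0, hs0, h2⟩ := hinner x hσx hxp hx1
    obtain ⟨g, t, ht, hyt⟩ := hsplit y hσy
    have hσt : σ t = t := by
      have h3 : t = y * (ι g)⁻¹ := by rw [hyt]; group
      rw [h3, map_mul, map_inv, hσy, B.fix]
    have hPt : Pres σ A (MulAut.conj t) := Pres.conj hσt (hT t ht)
    have hPt' : Pres σ A (MulAut.conj t⁻¹) := Pres.conj (by rw [map_inv, hσt]) (hT _ (inv_mem ht))
    have hPx : Pres σ A (MulAut.conj (y * x * y⁻¹)) := Pres.conj (by rw [map_mul, map_mul, map_inv, hσy, hσx]) h1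
    have hP := hPt'.mul (hPx.mul hPt)
    have hact : ∀ s, ι ((MulAut.conj g * c * (MulAut.conj g)⁻¹) s) =
        (MulAut.conj t⁻¹ * (MulAut.conj (y * x * y⁻¹) * MulAut.conj t)) (ι s) := by
      intro s
      have e1 : (MulAut.conj g)⁻¹ s = g⁻¹ * s * g := by
        rw [← map_inv, MulAut.conj_apply, inv_inv]
      show ι (g * c ((MulAut.conj g)⁻¹ s) * g⁻¹) = t⁻¹ * ((y * x * y⁻¹) * (t * ι s * t⁻¹) * (y * x * y⁻¹)⁻¹) * t⁻¹⁻¹
      rw [e1, map_mul, map_mul, hx, map_mul, map_mul, map_inv, hyt]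
      group
    refine ⟨MulAut.conj g, ⟨g, rfl⟩, iff_of_pow hp.pos (by rw [conj_pow, hcp, mul_one, mul_inv_cancel])
      (fun s hs => B.mem_of_mem hP hact hs), ?_⟩
    by_contra hcon
    push Not at hcon
    apply h2
    obtain ⟨s', hs', h3⟩ := B.img hPt' hs0
    have h4 := congrArg ι (hcon s' hs')
    rw [hact, h3] at h4
    have h5 : t⁻¹ * ((y * x * y⁻¹) * (t * (t⁻¹ * ι s0 * t⁻¹⁻¹) * t⁻¹) * (y * x * y⁻¹)⁻¹) * t⁻¹⁻¹ =
        t⁻¹ * ι s0 * t⁻¹⁻¹ := h4
    have h6 : (y * x * y⁻¹) * ι s0 * (y * x * y⁻¹)⁻¹ = ι s0 := by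
      have h7 : t * (t⁻¹ * ((y * x * y⁻¹) * (t * (t⁻¹ * ι s0 * t⁻¹⁻¹) * t⁻¹) * (y * x * y⁻¹)⁻¹) * t⁻¹⁻¹) * t⁻¹ =
          t * (t⁻¹ * ι s0 * t⁻¹⁻¹) * t⁻¹ := by rw [h5]
      have h8 : t * (t⁻¹ * ((y * x * y⁻¹) * (t * (t⁻¹ * ι s0 * t⁻¹⁻¹) * t⁻¹) * (y * x * y⁻¹)⁻¹) * t⁻¹⁻¹) * t⁻¹ =
          (y * x * y⁻¹) * ι s0 * (y * x * y⁻¹)⁻¹ := by group
      have h9 : t * (t⁻¹ * ι s0 * t⁻¹⁻¹) * t⁻¹ = ι s0 := by group
      rw [h8, h9] at h7
      exact h7
    rw [← mul_inv_eq_iff_eq_mul]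
    exact h6
  · -- field type
    obtain ⟨z, hz⟩ := hstd.lang y
    have hconj : MulAut.conj y * φ = (MulAut.conj z)⁻¹ * φ * MulAut.conj z := by
      apply MulEquiv.ext
      intro u
      have e1 : (MulAut.conj z)⁻¹ = MulAut.conj z⁻¹ := (map_inv MulAut.conj z).symm
      rw [e1]
      show y * φ u * y⁻¹ = z⁻¹ * φ (z * u * z⁻¹) * z⁻¹⁻¹
      rw [hz, map_mul, map_mul, map_inv]
      group
    have hσz : σ z = z := by
      have h1 : (MulAut.conj z)⁻¹ * σ * MulAut.conj z = σ := by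
        have h2 : ((MulAut.conj z)⁻¹ * φ * MulAut.conj z) ^ p = (MulAut.conj z)⁻¹ * φ ^ p * MulAut.conj z := by
          have h3 := conj_pow (i := p) (a := (MulAut.conj z)⁻¹) (b := φ)
          rwa [inv_inv] at h3
        rw [← hconj, hyp, hstd.pow] at h2
        exact h2.symm
      have h2 : σ * MulAut.conj z = MulAut.conj z * σ := by
        calc σ * MulAut.conj z = MulAut.conj z * ((MulAut.conj z)⁻¹ * σ * MulAut.conj z) := by group
          _ = MulAut.conj z * σ := by rw [h1]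
      have h3 : z⁻¹ * σ z ∈ center Y := by
        rw [mem_center_iff]
        intro u
        have h4 := congrArg (fun f : MulAut Y => f (σ⁻¹ u)) h2
        have h5 : σ (z * σ⁻¹ u * z⁻¹) = z * σ (σ⁻¹ u) * z⁻¹ := h4
        rw [map_mul, map_mul, map_inv, MulAut.apply_inv_self] at h5
        calc u * (z⁻¹ * σ z) = z⁻¹ * (z * u * z⁻¹) * σ z := by group
          _ = z⁻¹ * (σ z * u * (σ z)⁻¹) * σ z := by rw [h5]
          _ = z⁻¹ * σ z * u := by group
      rw [hZ, mem_bot, inv_mul_eq_one] at h3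
      exact h3.symm
    obtain ⟨g, t, ht, hzt⟩ := hsplit z hσz
    have hσt : σ t = t := by
      have h3 : t = z * (ι g)⁻¹ := by rw [hzt]; group
      rw [h3, map_mul, map_inv, hσz, B.fix]
    have hPt : Pres σ A (MulAut.conj t) := Pres.conj hσt (hT t ht)
    have hPt' : Pres σ A (MulAut.conj t⁻¹) := Pres.conj (by rw [map_inv, hσt]) (hT _ (inv_mem ht))
    have hPφ : Pres σ A φ := ⟨fun u hu => by rw [comm_pow hstd.pow, hu], hstd.A⟩
    have hP := hPt'.mul (hPφ.mul hPt)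
    have hact : ∀ s, ι ((MulAut.conj g * c ^ i * (MulAut.conj g)⁻¹) s) =
        (MulAut.conj t⁻¹ * (φ * MulAut.conj t)) (ι s) := by
      intro s
      have e1 : (MulAut.conj g)⁻¹ s = g⁻¹ * s * g := by
        rw [← map_inv, MulAut.conj_apply, inv_inv]
      show ι (g * (c ^ i) ((MulAut.conj g)⁻¹ s) * g⁻¹) = t⁻¹ * (φ (t * ι s * t⁻¹)) * t⁻¹⁻¹
      rw [e1, map_mul, map_mul, hy]
      show ι g * (y * φ (ι (g⁻¹ * s * g)) * y⁻¹) * ι g⁻¹ = _
      rw [hz, hzt, map_mul, map_mul, map_mul, map_mul, map_mul, map_mul, map_mul, map_inv, map_inv, map_inv]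
      group
    have hpow : MulAut.conj g * c ^ i * (MulAut.conj g)⁻¹ = (MulAut.conj g * c * (MulAut.conj g)⁻¹) ^ i :=
      (conj_pow).symm
    have hc'p : (MulAut.conj g * c * (MulAut.conj g)⁻¹) ^ p = 1 := by
      rw [conj_pow, hcp, mul_one, mul_inv_cancel]
    refine ⟨MulAut.conj g, ⟨g, rfl⟩, iff_of_pow hp.pos hc'p ?_, ?_⟩
    · -- a power of the power
      obtain ⟨j, -, hj⟩ := Nat.exists_mul_mod_eq_one_of_coprime hi hp.one_lt
      have h1 : MulAut.conj g * c * (MulAut.conj g)⁻¹ = (MulAut.conj g * c ^ i * (MulAut.conj g)⁻¹) ^ j := by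
        rw [hpow, ← pow_mul, ← Nat.div_add_mod (i * j) p, pow_add, pow_mul, hc'p, one_pow, one_mul, hj, pow_one]
      rw [h1]
      have h2 : ∀ m : ℕ, ∀ s ∈ K, ((MulAut.conj g * c ^ i * (MulAut.conj g)⁻¹) ^ m) s ∈ K := by
        intro m
        induction m with
        | zero => intro s hs; rw [pow_zero]; exact hs
        | succ m ih => intro s hs; rw [pow_succ', MulAut.mul_apply]; exact B.mem_of_mem hP hact (ih s hs)
      exact h2 j
    · obtain ⟨s, hs, h1⟩ := hstd.ne t ht hσt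
      refine ⟨s, hs, fun h2 => h1 ?_⟩
      have h3 : ∀ m : ℕ, ((MulAut.conj g * c * (MulAut.conj g)⁻¹) ^ m) s = s := by
        intro m
        induction m with
        | zero => rw [pow_zero, MulAut.one_apply]
        | succ m ih => rw [pow_succ, MulAut.mul_apply, h2, ih]
      have h4 := hact s
      rw [hpow, h3] at h4
      have h5 : ι s = t⁻¹ * φ (t * ι s * t⁻¹) * t⁻¹⁻¹ := h4
      rw [inv_inv] at h5
      exact h5.symm

end Cfsg.Agent.H897.T5Box
end

-- part: H897/T5Root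
section
/-!
# Elements of order `p ∣ q² - 1` act on a root `SL₂(q)` (T5)

`inner_root` : every element `x ≠ 1` of order `p` of `Y^σ` has a conjugate in `Y^σ` normalising `⟨X_β, X_{-β}⟩`, `β` the
fundamental root `i₀`, and not commuting with `x_β(1)`.
-/

set_option autoImplicit false
set_option linter.unusedSectionVars false

namespace Cfsg.Agent.H897.T5Root

open CoxeterSystem Cfsg Cfsg.Lie Cfsg.Lie.ChevalleyDatum
open Cfsg.Agent.ChevalleyStructure Cfsg.Agent.ChevalleyStructure.Elts Cfsg.Agent.ChevalleyStructure.CoxeterGeom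
  Cfsg.Agent.ChevalleyStructure.CoxeterGeomTypes Cfsg.Agent.ChevalleyStructure.NPerm
open Cfsg.Agent.Tits.Roots Cfsg.Agent.Tits.Core Cfsg.Agent.Nodes Cfsg.Agent.Nodes.Reps Cfsg.Agent.Nodes.BNOf
  Cfsg.Agent.Nodes.RGDChev Cfsg.Agent.Nodes.Bruhat Cfsg.Agent.Nodes.SubComb Cfsg.Agent.Nodes.Coroot
open Cfsg.Agent.KFacts.RgdField Cfsg.Agent.KFacts.RgdChevCoord Cfsg.Agent.BpExc.TorCent Cfsg.Agent.BpExc.TorChev
open Cfsg.Agent.GpExc.Field Cfsg.Agent.BpExc.Tow Cfsg.Agent.BpExc.TowChev Cfsg.Agent.BpExc.Fr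
  Cfsg.Agent.BpExc.LangFr Cfsg.Agent.LangThm Cfsg.Agent.BpExc Cfsg.Agent.H129.TorusChar Cfsg.Agent.H129.TorusMain
open Cfsg.Agent.H720.TorusReal Cfsg.Agent.H897.T5Cent
open Cfsg.Agent.ChevalleyStructure.SL2Hom (up lo mem_closure_SL2)
open Cfsg.Agent.OddHalf.LongSL.Chev (phi phi_up phi_lo)

/-! ### `SL₂` -/

section SL

variable {k : Type} [Field k]

/-- conjugation by `diag (c, 1)` -/
def dc (c : k) (hc : c ≠ 0) : Matrix.SpecialLinearGroup (Fin 2) k →* Matrix.SpecialLinearGroup (Fin 2) k :=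
  MonoidHom.mk' (fun A => ⟨!![A.1 0 0, c * A.1 0 1; c⁻¹ * A.1 1 0, A.1 1 1], by
    have h1 : A.1 0 0 * A.1 1 1 - A.1 0 1 * A.1 1 0 = 1 := by rw [← Matrix.det_fin_two]; exact A.2
    rw [Matrix.det_fin_two_of]
    have h2 : c * A.1 0 1 * (c⁻¹ * A.1 1 0) = A.1 0 1 * A.1 1 0 := by field_simp
    rw [h2, h1]⟩) (by
    intro A B
    apply Subtype.ext
    show !![(A * B).1 0 0, c * (A * B).1 0 1; c⁻¹ * (A * B).1 1 0, (A * B).1 1 1] =
      !![A.1 0 0, c * A.1 0 1; c⁻¹ * A.1 1 0, A.1 1 1] * !![B.1 0 0, c * B.1 0 1; c⁻¹ * B.1 1 0, B.1 1 1]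
    rw [Matrix.SpecialLinearGroup.coe_mul]
    ext i j
    (revert i j; simp only [Matrix.mul_apply, Fin.sum_univ_two, _root_.Fin.forall_fin_succ, Fin.isValue, _root_.Matrix.of_apply, _root_.Matrix.cons_val', _root_.Matrix.cons_val_fin_one, _root_.Matrix.cons_val_zero, _root_.Matrix.cons_val_one, _root_.Matrix.cons_val_succ, _root_.forall_const, _root_.add_right_inj, _root_.add_left_inj]) <;> (repeat' with_reducible apply And.intro) <;> field_simp)

theorem dc_apply (c : k) (hc : c ≠ 0) (A : Matrix.SpecialLinearGroup (Fin 2) k) :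
    (dc c hc A).1 = !![A.1 0 0, c * A.1 0 1; c⁻¹ * A.1 1 0, A.1 1 1] := rfl

theorem dc_up (c : k) (hc : c ≠ 0) (a : k) : dc c hc (up a) = up (c * a) := by
  apply Subtype.ext
  rw [dc_apply]
  show !![(!![1, a; 0, 1] : Matrix (Fin 2) (Fin 2) k) 0 0, c * (!![1, a; 0, 1] : Matrix (Fin 2) (Fin 2) k) 0 1;
    c⁻¹ * (!![1, a; 0, 1] : Matrix (Fin 2) (Fin 2) k) 1 0, (!![1, a; 0, 1] : Matrix (Fin 2) (Fin 2) k) 1 1] =
    !![1, c * a; 0, 1]
  simp

theorem dc_lo (c : k) (hc : c ≠ 0) (a : k) : dc c hc (lo a) = lo (c⁻¹ * a) := by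
  apply Subtype.ext
  rw [dc_apply]
  show !![(!![1, 0; a, 1] : Matrix (Fin 2) (Fin 2) k) 0 0, c * (!![1, 0; a, 1] : Matrix (Fin 2) (Fin 2) k) 0 1;
    c⁻¹ * (!![1, 0; a, 1] : Matrix (Fin 2) (Fin 2) k) 1 0, (!![1, 0; a, 1] : Matrix (Fin 2) (Fin 2) k) 1 1] =
    !![1, 0; c⁻¹ * a, 1]
  simp

/-- a conjugate of `up 1` is moved by `diag (c, 1)`, also modulo `± 1` -/
theorem dc_ne {c : k} (hc : c ≠ 0) (hc1 : c ≠ 1) (Z : Matrix.SpecialLinearGroup (Fin 2) k) :
    dc c hc (Z⁻¹ * up 1 * Z) ≠ Z⁻¹ * up 1 * Z ∧ dc c hc (Z⁻¹ * up 1 * Z) ≠ -(Z⁻¹ * up 1 * Z) := by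
  obtain ⟨B, hB⟩ : ∃ B, B = Z⁻¹ * up 1 * Z := ⟨_, rfl⟩
  have hdet : B.1 0 0 * B.1 1 1 - B.1 0 1 * B.1 1 0 = 1 := by rw [← Matrix.det_fin_two]; exact B.2
  have htr : B.1 0 0 + B.1 1 1 = 2 := by
    have h1 : Matrix.trace B.1 = 2 := by
      rw [hB, Matrix.SpecialLinearGroup.coe_mul, Matrix.SpecialLinearGroup.coe_mul, Matrix.trace_mul_cycle,
        ← Matrix.SpecialLinearGroup.coe_mul, mul_inv_cancel, Matrix.SpecialLinearGroup.coe_one, Matrix.one_mul]
      show Matrix.trace !![(1 : k), 1; 0, 1] = 2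
      rw [Matrix.trace_fin_two_of]
      norm_num
    rwa [Matrix.trace_fin_two] at h1
  have hB1 : B ≠ 1 := by
    intro h0
    rw [hB] at h0
    have h1 : up (1 : k) = 1 := by
      have h2 : up (1 : k) = Z * (Z⁻¹ * up 1 * Z) * Z⁻¹ := by group
      rw [h2, h0]; group
    have h2 := congrArg (fun A : Matrix.SpecialLinearGroup (Fin 2) k => A.1 0 1) h1
    have h3 : (1 : k) = 0 := by simpa [up] using h2
    exact one_ne_zero h3
  have key : dc c hc B ≠ B := by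
    intro h0
    have h1 := congrArg (fun A : Matrix.SpecialLinearGroup (Fin 2) k => A.1 0 1) h0
    have h2 := congrArg (fun A : Matrix.SpecialLinearGroup (Fin 2) k => A.1 1 0) h0
    have h1' : c * B.1 0 1 = B.1 0 1 := by simpa only [dc_apply, _root_.Fin.isValue, _root_.Matrix.of_apply, _root_.Matrix.cons_val', _root_.Matrix.cons_val_one, _root_.Matrix.cons_val_fin_one, _root_.Matrix.cons_val_zero] using h1
    have h2' : c⁻¹ * B.1 1 0 = B.1 1 0 := by simpa only [dc_apply, _root_.Fin.isValue, _root_.Matrix.of_apply, _root_.Matrix.cons_val', _root_.Matrix.cons_val_zero, _root_.Matrix.cons_val_fin_one, _root_.Matrix.cons_val_one] using h2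
    have h3 : B.1 0 1 = 0 := by
      have : (c - 1) * B.1 0 1 = 0 := by linear_combination h1'
      exact (mul_eq_zero.1 this).resolve_left (sub_ne_zero.2 hc1)
    have h4 : B.1 1 0 = 0 := by
      have h5 : c * B.1 1 0 = B.1 1 0 := by
        have h6 : c * (c⁻¹ * B.1 1 0) = c * B.1 1 0 := by rw [h2']
        rw [← mul_assoc, mul_inv_cancel₀ hc, one_mul] at h6
        exact h6.symm
      have : (c - 1) * B.1 1 0 = 0 := by linear_combination h5
      exact (mul_eq_zero.1 this).resolve_left (sub_ne_zero.2 hc1)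
    rw [h3, zero_mul, sub_zero] at hdet
    have h5 : B.1 1 1 = 2 - B.1 0 0 := by linear_combination htr
    have h6 : (B.1 0 0 - 1) ^ 2 = 0 := by
      rw [h5] at hdet
      linear_combination -hdet
    have h7 : B.1 0 0 = 1 := by
      have := (pow_eq_zero_iff two_ne_zero).1 h6
      exact sub_eq_zero.1 this
    have h8 : B.1 1 1 = 1 := by rw [h5, h7]; ring
    apply hB1
    apply Subtype.ext
    ext i j
    (revert i j; simp only [h3, h4, h7, h8, _root_.Fin.forall_fin_succ, _root_.Matrix.SpecialLinearGroup.coe_one, Fin.isValue, _root_.Fin.succ_zero_eq_one, _root_.IsEmpty.forall_iff, _root_.and_true, _root_.Matrix.one_apply_eq, Nat.reduceAdd, _root_.ne_eq, _root_.zero_ne_one, _root_.not_false_eq_true, _root_.Matrix.one_apply_ne, _root_.and_self, _root_.Fin.succ_ne_zero])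
  rw [← hB]
  refine ⟨key, fun h0 => ?_⟩
  have h1 := congrArg (fun A : Matrix.SpecialLinearGroup (Fin 2) k => A.1 0 0) h0
  have h2 := congrArg (fun A : Matrix.SpecialLinearGroup (Fin 2) k => A.1 1 1) h0
  have h1' : B.1 0 0 = -B.1 0 0 := by simpa only [dc_apply, _root_.Fin.isValue, _root_.Matrix.of_apply, _root_.Matrix.cons_val', _root_.Matrix.cons_val_zero, _root_.Matrix.cons_val_fin_one, _root_.Matrix.SpecialLinearGroup.coe_neg, _root_.Matrix.neg_apply] using h1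
  have h2' : B.1 1 1 = -B.1 1 1 := by simpa only [dc_apply, _root_.Fin.isValue, _root_.Matrix.of_apply, _root_.Matrix.cons_val', _root_.Matrix.cons_val_one, _root_.Matrix.cons_val_fin_one, _root_.Matrix.SpecialLinearGroup.coe_neg, _root_.Matrix.neg_apply] using h2
  have h3 : (2 : k) * 2 = 0 := by linear_combination h1' + h2' - 2 * htr
  have h4 : (2 : k) = 0 := by simpa only [_root_.mul_eq_zero, _root_.or_self] using h3
  have h5 : -B = B := by
    apply Subtype.ext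
    rw [Matrix.SpecialLinearGroup.coe_neg]
    ext i j
    rw [Matrix.neg_apply]
    linear_combination (-B.1 i j) * h4
  rw [h5] at h0
  exact key h0

end SL

/-! ### the root group -/

section Chev

variable {D : ChevalleyDatum} {l : ℕ} {M : CoxeterMatrix (Fin l)} (hp : IsType D l M) {k : Type} [Field k]
  [IsAlgClosed k] {W : Type} [Group W] [Finite W] (cs : CoxeterSystem M W) (hk : LocFin k) (r : ℕ) [Fact r.Prime]
  [CharP k r] (i0 : Fin l)

theorem phi_up' (a : k) : phi hp k i0 (up a) = xc hp (sr i0) a := by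
  apply Subtype.ext
  rw [phi_up]
  have h1 := coe_xc (K := k) hp (simple_lt hp.inList (lt_rank hp i0)) a
  rw [vec_simple hp] at h1
  exact h1.symm

theorem phi_lo' (a : k) : phi hp k i0 (lo a) = xc hp (-sr i0) a := by
  apply Subtype.ext
  rw [phi_lo]
  have h0 := simple_lt hp.inList (lt_rank hp i0)
  have h1 := coe_xc (K := k) hp (neg_lt hp.inList h0) a
  rw [vec_neg hp h0, vec_simple hp] at h1
  exact h1.symm

/-- two homomorphisms of `SL₂` agreeing on the unitriangular elements -/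
theorem hom_ext {Y : Type*} [Group Y] {f g : Matrix.SpecialLinearGroup (Fin 2) k →* Y} (h1 : ∀ a, f (up a) = g (up a))
    (h2 : ∀ a, f (lo a) = g (lo a)) : f = g := by
  ext A
  have h3 : Subgroup.closure (Set.range (up (F := k)) ∪ Set.range (lo (F := k))) ≤ f.eqLocus g := by
    rw [Subgroup.closure_le]
    rintro _ (⟨a, rfl⟩ | ⟨a, rfl⟩)
    · exact h1 a
    · exact h2 a
  exact h3 (mem_closure_SL2 A)

include hk r cs in
/-- the torus acts on the root `SL₂` by diagonal matrices -/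
theorem conj_phi {t : ↥(D.group k)} (ht : t ∈ TT D k) (hc : ch hp (sr i0) t ≠ 0)
    (A : Matrix.SpecialLinearGroup (Fin 2) k) :
    t * phi hp k i0 A * t⁻¹ = phi hp k i0 (dc (ch hp (sr i0) t) hc A) := by
  have C := coordsL hp cs hk r
  have hr := isRoot_sr cs hp.isCartan i0
  have h1 : (MulAut.conj t).toMonoidHom.comp (phi hp k i0) = (phi hp k i0).comp (dc (ch hp (sr i0) t) hc) := by
    refine hom_ext (fun a => ?_) (fun a => ?_)
    · show t * phi hp k i0 (up a) * t⁻¹ = phi hp k i0 (dc _ hc (up a))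
      rw [dc_up, phi_up', phi_up']
      exact (C.coord _ hr).act t ht a
    · show t * phi hp k i0 (lo a) * t⁻¹ = phi hp k i0 (dc _ hc (lo a))
      rw [dc_lo, phi_lo', phi_lo', (C.coord _ hr.neg).act t ht a]
      congr 2
      rw [← cX_root hp cs ht hr.neg, ← cX_root hp cs ht hr, (isMC_cX hp ht).neg]
  exact DFunLike.congr_fun h1 A

include hk r cs in
theorem conj_mem {t : ↥(D.group k)} (ht : t ∈ TT D k) {y : ↥(D.group k)} (hy : y ∈ (phi hp k i0).range) :
    t * y * t⁻¹ ∈ (phi hp k i0).range := by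
  have C := coordsL hp cs hk r
  obtain ⟨A, rfl⟩ := hy
  have hc := (C.coord _ (isRoot_sr cs hp.isCartan i0)).chi_ne_zero ht
  exact ⟨_, (conj_phi hp cs hk r i0 ht hc A).symm⟩

include hk r cs in
/-- **Elements of the torus with `β(t) ≠ 1` do not commute with the conjugates of `x_β(1)`.** -/
theorem ne_comm {t : ↥(D.group k)} (ht : t ∈ TT D k) (h1 : ch hp (sr i0) t ≠ 1) {z : ↥(D.group k)}
    (hz : z ∈ (phi hp k i0).range) : t * (z⁻¹ * phi hp k i0 (up 1) * z) ≠ (z⁻¹ * phi hp k i0 (up 1) * z) * t := by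
  have C := coordsL hp cs hk r
  obtain ⟨Z, rfl⟩ := hz
  have hc := (C.coord _ (isRoot_sr cs hp.isCartan i0)).chi_ne_zero ht
  intro h
  have h2 : t * phi hp k i0 (Z⁻¹ * up 1 * Z) * t⁻¹ = phi hp k i0 (Z⁻¹ * up 1 * Z) := by
    rw [map_mul, map_mul, map_inv, h]
    group
  rw [conj_phi hp cs hk r i0 ht hc] at h2
  have h3 : phi hp k i0 (dc (ch hp (sr i0) t) hc (Z⁻¹ * up 1 * Z) * (Z⁻¹ * up 1 * Z)⁻¹) = 1 := by
    rw [map_mul, h2, ← map_mul, mul_inv_cancel, map_one]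
  obtain ⟨h4, h5⟩ := dc_ne hc h1 Z
  rcases Cfsg.Agent.H609.PairExc.phi_ker hp k i0 _ h3 with h6 | h6
  · exact h4 (mul_inv_eq_one.1 h6)
  · rw [mul_inv_eq_iff_eq_mul, neg_one_mul] at h6
    exact h5 h6

variable {p : ℕ} (hC : _root_.Cfsg.Agent.H897.T5Cent.Con hp cs hk r p) (hpp : p.Prime) (hpr : p ≠ r)
  {e : ℕ} (he : 0 < e) {σ : MulAut ↥(D.group k)} {g : (Fin l → ℤ) ≃+ (Fin l → ℤ)} (hσ : IsFrob r e σ)
  (F : Fr cs hp.isCartan (TT D k) (XX D l k) σ g) {d : ℕ} {B : Fin l → Fin l → ℤ} (hB : InvC D l d B) (hd : d ≠ 0)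
  (hZ : Subgroup.center ↥(D.group k) = ⊥) (hA : Cfsg.Agent.BpExc.TorAll.HAlg r k)

/-- representatives at the two descriptions of the torus -/
theorem rp_cast {T : Subgroup ↥(D.group k)} (h1 : NSys M T (nc hp k)) (hT : T = TT D k)
    (hN : NSys M (TT D k) (nc hp k)) {w : W} {n : ↥(D.group k)} (h : Rp cs h1 w n) : Rp cs hN w n := by
  subst hT
  exact h

include hC hpp hpr he hσ F hB hd hZ hA in
/-- **Elements of order `p ∣ q - ε`.** -/
theorem inner_root (hN : NSys M (TT D k) (nc hp k)) {za zb : ↥(D.group k)} (hza : za ∈ (phi hp k i0).range)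
    (hzb : ∀ y ∈ (phi hp k i0).range, zb * y = y * zb) {w1 : W}
    (hn1 : Rp cs hN w1 ((za * zb)⁻¹ * σ (za * zb))) {ε : ℤ}
    (hθ : ∀ x, rep cs hp.isCartan w1 (g x) = ε • x) (hpe : (p : ℤ) ∣ (r : ℤ) ^ e - ε)
    (htr : ∀ a, IsRoot cs hp.isCartan a → ∃ w, rep cs hp.isCartan w a = sr i0)
    {x : ↥(D.group k)} (hσx : σ x = x) (hxp : x ^ p = 1) (hx1 : x ≠ 1) :
    ∃ y, σ y = y ∧ (∀ u ∈ (phi hp k i0).range, (y * x * y⁻¹) * u * (y * x * y⁻¹)⁻¹ ∈ (phi hp k i0).range) ∧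
      (y * x * y⁻¹) * phi hp k i0 (up 1) ≠ phi hp k i0 (up 1) * (y * x * y⁻¹) := by
  obtain ⟨z, hz⟩ := TorAll.exists_toral hp r hA hpp hpr hxp
  obtain ⟨t, htz⟩ : ∃ t, t = z⁻¹ * x * z := ⟨_, rfl⟩
  rw [← htz] at hz
  have htp : t ^ p = 1 := by
    have h1 : t = z⁻¹ * x * z⁻¹⁻¹ := by rw [htz, inv_inv]
    rw [h1, conj_pow, hxp, mul_one, mul_inv_cancel]
  have ht1 : t ≠ 1 := by
    intro h0
    apply hx1
    have h1 : x = z * t * z⁻¹ := by rw [htz]; group
    rw [h1, h0]; group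
  obtain ⟨z1, hz1⟩ : ∃ z1, z1 = za * zb := ⟨_, rfl⟩
  rw [← hz1] at hn1
  obtain ⟨n1, hn⟩ : ∃ n1, n1 = z1⁻¹ * σ z1 := ⟨_, rfl⟩
  rw [← hn] at hn1
  -- `t` is fixed
  have hnt : n1 * σ t * n1⁻¹ = t := by
    rw [tau_iff hp cs hk hσ F hn1 hz]
    intro a
    rw [theta_apply, hθ, (isMC_cX hp hz).zsmul]
    have h1 : cX hp t a ^ p = 1 := by rw [← cX_pow hp hz, htp, cX_one]
    have h0 := (isMC_cX hp hz).ne_zero a
    obtain ⟨c, hc⟩ := hpe
    have h2 : ((r ^ e : ℕ) : ℤ) = ε + p * c := by push_cast; linarith only [hc]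
    rw [← zpow_natCast, h2, zpow_add₀ h0, zpow_mul, zpow_natCast (cX hp t a) p, h1, one_zpow, mul_one]
  obtain ⟨z', hz'1, hz'2⟩ := star hp cs hk r hC he hσ F hB hd hn1 hσx htz.symm hz htp hnt
  have hy0 : σ (z1 * z'⁻¹) = z1 * z'⁻¹ := conj_fix hz'1 hn.symm
  -- the root
  obtain ⟨a, ha, hta⟩ : ∃ a, IsRoot cs hp.isCartan a ∧ cX hp t a ≠ 1 := by
    by_contra hcon
    push Not at hcon
    apply ht1
    refine cX_inj hp hz (one_mem _) fun i => ?_
    rw [hcon _ (isRoot_sr cs hp.isCartan i), cX_one]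
  obtain ⟨w, hw⟩ := htr a ha
  have F1 : Fr cs hp.isCartan (TT D k) (XX D l k) (MulAut.conj n1 * σ) (g.trans (repAut cs hp.isCartan w1)) :=
    (fr_conj hp cs hk r hn1).mul F
  obtain ⟨m, hm0, hm⟩ := Cfsg.Agent.H696.GmnToral.exists_fixed_rp hp cs hk (r := r) hZ he (hσ.conj_mul n1) F1
    (w := w) (fun b _ => by
      show rep cs hp.isCartan w (rep cs hp.isCartan w1 (g b)) = rep cs hp.isCartan w1 (g (rep cs hp.isCartan w b))
      rw [hθ, hθ, map_smul])
  have hmN : Rp cs hN w m := rp_cast hp cs _ (TL_eq hp hk) hN hm0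
  have hm' : n1 * σ m * n1⁻¹ = m := hm
  have ht' : m * t * m⁻¹ ∈ TT D k := (Subgroup.mem_normalizer_iff.1 hmN.mem_normalizer t).1 hz
  have hta' : ch hp (sr i0) (m * t * m⁻¹) ≠ 1 := by
    rw [← cX_root hp cs ht' (isRoot_sr cs hp.isCartan i0), ← hw, cX_rp hp cs hk r hmN hz]
    exact hta
  have hσz1 : σ z1 = z1 * n1 := by rw [hn]; group
  have hy1 : σ (z1 * m * z1⁻¹) = z1 * m * z1⁻¹ := by
    rw [map_mul, map_mul, map_inv, hσz1]
    calc z1 * n1 * σ m * (z1 * n1)⁻¹ = z1 * (n1 * σ m * n1⁻¹) * z1⁻¹ := by group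
      _ = z1 * m * z1⁻¹ := by rw [hm']
  have hx : (z1 * m * z1⁻¹ * (z1 * z'⁻¹)) * x * (z1 * m * z1⁻¹ * (z1 * z'⁻¹))⁻¹ = z1 * (m * t * m⁻¹) * z1⁻¹ := by
    rw [← hz'2]; group
  obtain ⟨t', ht'e⟩ : ∃ t', t' = m * t * m⁻¹ := ⟨_, rfl⟩
  rw [← ht'e] at ht' hta' hx
  refine ⟨z1 * m * z1⁻¹ * (z1 * z'⁻¹), by rw [map_mul, hy0, hy1], ?_, ?_⟩
  · intro u hu
    rw [hx]
    have h1 : za⁻¹ * u * za ∈ (phi hp k i0).range := mul_mem (mul_mem (inv_mem hza) hu) hza
    have h2 := conj_mem hp cs hk r i0 ht' h1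
    have h3 := mul_mem (mul_mem hza h2) (inv_mem hza)
    have e1 : zb⁻¹ * (za⁻¹ * u * za) * zb = za⁻¹ * u * za := by
      rw [mul_assoc, ← hzb _ h1]; group
    have e2 : zb * (t' * (za⁻¹ * u * za) * t'⁻¹) * zb⁻¹ = t' * (za⁻¹ * u * za) * t'⁻¹ := by
      rw [hzb _ h2]; group
    have e3 : z1 * t' * z1⁻¹ * u * (z1 * t' * z1⁻¹)⁻¹ = za * (t' * (za⁻¹ * u * za) * t'⁻¹) * za⁻¹ := by
      calc z1 * t' * z1⁻¹ * u * (z1 * t' * z1⁻¹)⁻¹
          = za * (zb * (t' * (zb⁻¹ * (za⁻¹ * u * za) * zb) * t'⁻¹) * zb⁻¹) * za⁻¹ := by rw [hz1]; group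
        _ = _ := by rw [e1, e2]
    rw [e3]
    exact h3
  · rw [hx]
    intro h
    have hu : phi hp k i0 (up 1) ∈ (phi hp k i0).range := ⟨_, rfl⟩
    have h1 : za⁻¹ * phi hp k i0 (up 1) * za ∈ (phi hp k i0).range := mul_mem (mul_mem (inv_mem hza) hu) hza
    apply ne_comm hp cs hk r i0 ht' hta' hza
    have e1 : zb⁻¹ * (za⁻¹ * phi hp k i0 (up 1) * za) * zb = za⁻¹ * phi hp k i0 (up 1) * za := by
      rw [mul_assoc, ← hzb _ h1]; group
    have e2 : z1⁻¹ * phi hp k i0 (up 1) * z1 = za⁻¹ * phi hp k i0 (up 1) * za := by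
      rw [← e1, hz1]; group
    rw [← e2]
    calc t' * (z1⁻¹ * phi hp k i0 (up 1) * z1) = z1⁻¹ * (z1 * t' * z1⁻¹ * phi hp k i0 (up 1)) * z1 := by group
      _ = z1⁻¹ * (phi hp k i0 (up 1) * (z1 * t' * z1⁻¹)) * z1 := by rw [h]
      _ = z1⁻¹ * phi hp k i0 (up 1) * z1 * t' := by group

end Chev

end Cfsg.Agent.H897.T5Root
end

-- part: H897/T5Frame
section
/-!
# Twisting by products of orthogonal reflections (T5)

`comm_XX` : root groups of orthogonal roots commute (simply laced).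
`exists_frame` : the element `za zb` with `(za zb)⁻¹ σ(za zb)` representing a product of orthogonal reflections.
-/

set_option autoImplicit false
set_option linter.unusedSectionVars false

namespace Cfsg.Agent.H897.T5Frame

open CoxeterSystem Cfsg Cfsg.Lie Cfsg.Lie.ChevalleyDatum
open Cfsg.Agent.ChevalleyStructure Cfsg.Agent.ChevalleyStructure.Elts Cfsg.Agent.ChevalleyStructure.CoxeterGeom
  Cfsg.Agent.ChevalleyStructure.CoxeterGeomTypes Cfsg.Agent.ChevalleyStructure.NPerm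
open Cfsg.Agent.Tits.Roots Cfsg.Agent.Tits.Core Cfsg.Agent.Nodes Cfsg.Agent.Nodes.Reps Cfsg.Agent.Nodes.BNOf
  Cfsg.Agent.Nodes.RGDChev Cfsg.Agent.Nodes.Bruhat Cfsg.Agent.Nodes.SubComb Cfsg.Agent.Nodes.Coroot
open Cfsg.Agent.KFacts.RgdField Cfsg.Agent.KFacts.RgdChevCoord Cfsg.Agent.BpExc.TorCent Cfsg.Agent.BpExc.TorChev
open Cfsg.Agent.GpExc.Field Cfsg.Agent.BpExc.Tow Cfsg.Agent.BpExc.TowChev Cfsg.Agent.BpExc.Fr
  Cfsg.Agent.BpExc.LangFr Cfsg.Agent.LangThm Cfsg.Agent.BpExc Cfsg.Agent.H129.TorusChar Cfsg.Agent.H129.TorusMain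
open Cfsg.Agent.H720.TorusReal Cfsg.Agent.H897.T5Cent Cfsg.Agent.H897.T5Root
open Cfsg.Agent.ChevalleyStructure.SL2Hom (up lo mem_closure_SL2)
open Cfsg.Agent.OddHalf.LongSL.Chev (phi phi_up phi_lo)
open Cfsg.Agent.H897.T5Lat (Frm bf bf_apply)
open scoped commutatorElement

/-! ### orthogonal roots -/

section Orth

variable {I W : Type*} [Fintype I] [DecidableEq I] [Group W] [Finite W] {M : CoxeterMatrix I}
  {cs : CoxeterSystem M W} {A : I → I → ℤ} {h : IsCartan M A} {B : LinearMap.BilinForm ℤ (I → ℤ)}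

theorem not_btwn (F : Frm cs h B) {x y z : I → ℤ} (hx : IsRoot cs h x) (hy : IsRoot cs h y) (hxy : B x y = 0) :
    ¬ Btwn cs h x y z := by
  rintro ⟨hz, m, a, b, hm, ha, hb, he⟩
  have hzx : m * B z x = 2 * a := by
    have h1 : B (m • z) x = B (a • x + b • y) x := by rw [he]
    simp only [map_add, map_smul, LinearMap.add_apply, LinearMap.smul_apply, smul_eq_mul] at h1
    rw [F.self hx, F.symm y x, hxy] at h1
    linarith
  have hzy : m * B z y = 2 * b := by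
    have h1 : B (m • z) y = B (a • x + b • y) y := by rw [he]
    simp only [map_add, map_smul, LinearMap.add_apply, LinearMap.smul_apply, smul_eq_mul] at h1
    rw [F.self hy, hxy] at h1
    linarith
  have hzz : m * 2 = a * B z x + b * B z y := by
    have h1 : B z (m • z) = B z (a • x + b • y) := by rw [he]
    simp only [map_add, map_smul, smul_eq_mul] at h1
    rw [F.self hz] at h1
    linarith
  have hpx : 0 < B z x := by
    by_contra hcon
    have := mul_nonpos_of_nonneg_of_nonpos hm.le (not_lt.1 hcon)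
    linarith
  have hpy : 0 < B z y := by
    by_contra hcon
    have := mul_nonpos_of_nonneg_of_nonpos hm.le (not_lt.1 hcon)
    linarith
  have hne : ∀ {x y : I → ℤ}, IsRoot cs h x → IsRoot cs h y → B x y = 0 → 0 < B z x → 0 < B z y → B z x = 1 := by
    intro x y hx hy hxy h1 h2
    have e1 : z ≠ x := by
      rintro rfl
      rw [hxy] at h2
      exact absurd h2 (lt_irrefl _)
    have e2 : z ≠ -x := by
      rintro rfl
      rw [map_neg, LinearMap.neg_apply, F.self hx] at h1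
      omega
    have h3 := F.sl z x hz hx e1 e2
    rw [← F.cpr z x hx, abs_le] at h3
    omega
  have h1 := hne hx hy hxy hpx hpy
  have h2 := hne hy hx (by rw [F.symm, hxy]) hpy hpx
  rw [h1] at hzx hzz
  rw [h2] at hzy hzz
  omega

variable {Y : Type*} [Group Y]

theorem btw_eq_bot (F : Frm cs h B) {x y : I → ℤ} (hx : IsRoot cs h x) (hy : IsRoot cs h y) (hxy : B x y = 0)
    (X : (I → ℤ) → Subgroup Y) : _root_.Cfsg.Agent.Nodes.Reps.btw cs h X x y = ⊥ := by
  rw [Reps.btw, eq_bot_iff]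
  exact iSup_le fun z => absurd z.2 (not_btwn F hx hy hxy)

theorem comm_XL (F : Frm cs h B) {r : ℕ} {J : Type*} [Preorder J] {T : J → Subgroup Y} {n : I → Y}
    {X : J → (I → ℤ) → Subgroup Y} (H : Tow cs h r T n X) {x y : I → ℤ} (hx : IsRoot cs h x) (hy : IsRoot cs h y)
    (hxy : B x y = 0) {a b : Y} (ha : a ∈ XL X x) (hb : b ∈ XL X y) : a * b = b * a := by
  obtain ⟨j1, h1⟩ := H.mem_XL.1 ha
  obtain ⟨j2, h2⟩ := H.mem_XL.1 hb
  obtain ⟨j, h3, h4⟩ := H.dir j1 j2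
  have e1 : x ≠ y := by
    rintro rfl
    rw [F.self hx] at hxy
    omega
  have e2 : x ≠ -y := by
    rintro rfl
    rw [map_neg, LinearMap.neg_apply, F.self hy] at hxy
    omega
  have h5 := (H.rgd j).comm x y hx hy e1 e2 a (H.monoX x h3 h1) b (H.monoX y h4 h2)
  rw [btw_eq_bot F hx hy hxy, Subgroup.mem_bot, commutatorElement_eq_one_iff_mul_comm] at h5
  exact h5

end Orth

/-! ### the frame -/

section Chev

variable {D : ChevalleyDatum} {l : ℕ} {M : CoxeterMatrix (Fin l)} (hp : IsType D l M) {k : Type} [Field k]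
  [IsAlgClosed k] {W : Type} [Group W] [Finite W] (cs : CoxeterSystem M W) (hk : LocFin k) (r : ℕ) [Fact r.Prime]
  [CharP k r] (i0 : Fin l)

include hk r in
theorem comm_XX (F : _root_.Cfsg.Agent.H897.T5Lat.Frm cs hp.isCartan (bf (cartanOf D l))) {x y : Fin l → ℤ} (hx : IsRoot cs hp.isCartan x)
    (hy : IsRoot cs hp.isCartan y) (hxy : bf (cartanOf D l) x y = 0) {a b : ↥(D.group k)} (ha : a ∈ XX D l k x)
    (hb : b ∈ XX D l k y) : a * b = b * a := by
  rw [← XL_eq hp hk] at ha hb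
  exact comm_XL F (tow hp cs hk r) hx hy hxy ha hb

/-- a computable version of the form -/
def bc (A : Fin l → Fin l → ℤ) (x y : Fin l → ℤ) : ℤ := ∑ i, ∑ j, x i * A i j * y j

/-- a computable version of the reflections -/
def rc (A : Fin l → Fin l → ℤ) (β x : Fin l → ℤ) : Fin l → ℤ := x - bc A x β • β

theorem bf_eq {A : Fin l → Fin l → ℤ} (hA : ∀ i j, cartanOf D l i j = A i j) (x y : Fin l → ℤ) :
    bf (cartanOf D l) x y = bc A x y := by
  rw [bf_apply, bc]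
  simp_rw [hA]

/-- the set `± L` -/
def pm (L : List (Fin l → ℤ)) : Set (Fin l → ℤ) := {a | a ∈ L ∨ -a ∈ L}

include cs hk r in
theorem Sup_le_range : RGD.Sup (XX D l k) {a | a = sr i0 ∨ a = -sr i0} ≤ (phi hp k i0).range := by
  have C := coordsL hp cs hk r
  refine RGD.Sup_le fun a ha => ?_
  intro y hy
  rcases ha with rfl | rfl
  · obtain ⟨s, rfl⟩ := ((C.coord _ (isRoot_sr cs hp.isCartan i0)).mem y).1 hy
    exact ⟨up s, phi_up' hp i0 s⟩
  · obtain ⟨s, rfl⟩ := ((C.coord _ (isRoot_sr cs hp.isCartan i0).neg).mem y).1 hy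
    exact ⟨lo s, phi_lo' hp i0 s⟩

include cs hk r in
theorem comm_range (F : _root_.Cfsg.Agent.H897.T5Lat.Frm cs hp.isCartan (bf (cartanOf D l))) {S : Set (Fin l → ℤ)}
    (hS : ∀ a ∈ S, IsRoot cs hp.isCartan a) (h0 : ∀ a ∈ S, bf (cartanOf D l) a (sr i0) = 0) {z : ↥(D.group k)}
    (hz : z ∈ RGD.Sup (XX D l k) S) : ∀ y ∈ (phi hp k i0).range, z * y = y * z := by
  have C := coordsL hp cs hk r
  have hr := isRoot_sr cs hp.isCartan i0
  have key : ∀ b, (b = sr i0 ∨ b = -sr i0) → ∀ y ∈ XX D l k b, z * y = y * z := by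
    intro b hb y hy
    have h1 : RGD.Sup (XX D l k) S ≤ Subgroup.centralizer {y} := by
      refine RGD.Sup_le fun a ha => ?_
      intro u hu
      rw [Subgroup.mem_centralizer_singleton_iff]
      rcases hb with rfl | rfl
      · exact comm_XX hp cs hk r F (hS a ha) hr (h0 a ha) hu hy
      · exact comm_XX hp cs hk r F (hS a ha) hr.neg (by rw [map_neg, h0 a ha, neg_zero]) hu hy
    exact Subgroup.mem_centralizer_singleton_iff.1 (h1 hz)
  refine Cfsg.Agent.OddHalf.LongSL.commute_range _ (fun s => ?_) (fun s => ?_)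
  · rw [phi_up']
    exact key _ (Or.inl rfl) _ (((C.coord _ hr).mem _).2 ⟨s, rfl⟩)
  · rw [phi_lo']
    exact key _ (Or.inr rfl) _ (((C.coord _ hr.neg).mem _).2 ⟨s, rfl⟩)

include hk r in
/-- a reflection in a root of `S` -/
theorem exists_rfl (F : _root_.Cfsg.Agent.H897.T5Lat.Frm cs hp.isCartan (bf (cartanOf D l))) (hN : NSys M (TT D k) (nc hp k))
    {S : Set (Fin l → ℤ)} {a : Fin l → ℤ} (hr : IsRoot cs hp.isCartan a) (ha : a ∈ S) (hna : -a ∈ S) :
    ∃ w, ∃ m ∈ RGD.Sup (XX D l k) S, Rp cs hN w m ∧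
      ∀ x, rep cs hp.isCartan w x = x - bf (cartanOf D l) x a • a := by
  obtain ⟨w, i, h1, m, hm, hm'⟩ := Cfsg.Agent.H897.Cen.exists_rfl_Sup (tow hp cs hk r (k := k)) (coL hp cs hk r)
    hr ha hna
  rw [XL_eq hp hk] at hm
  refine ⟨_, m, hm, rp_cast hp cs _ (TL_eq hp hk) hN hm', fun x => ?_⟩
  rw [rep_rfl'_eq, ← h1, ← F.cpr x a hr]

include hk r in
/-- a product of reflections in the roots of the list `L` -/
theorem exists_prod (F : _root_.Cfsg.Agent.H897.T5Lat.Frm cs hp.isCartan (bf (cartanOf D l))) {A : Fin l → Fin l → ℤ}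
    (hA : ∀ i j, cartanOf D l i j = A i j) (hN : NSys M (TT D k) (nc hp k)) {S : Set (Fin l → ℤ)} :
    ∀ L : List (Fin l → ℤ), (∀ a ∈ L, IsRoot cs hp.isCartan a ∧ a ∈ S ∧ -a ∈ S) →
      ∃ w, ∃ m ∈ RGD.Sup (XX D l k) S, Rp cs hN w m ∧ ∀ x, rep cs hp.isCartan w x = L.foldr (rc A) x
  | [], _ => ⟨1, 1, one_mem _, rp_one, fun x => by rw [map_one, Module.End.one_apply]; rfl⟩
  | a :: L, hL => by
    obtain ⟨w, m, hm, hm', h1⟩ := exists_prod F hA hN L fun b hb => hL b (List.mem_cons_of_mem _ hb)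
    obtain ⟨h2, h3, h4⟩ := hL a List.mem_cons_self
    obtain ⟨w', m', hm1, hm2, h5⟩ := exists_rfl hp cs hk r F hN h2 h3 h4
    refine ⟨w' * w, m' * m, mul_mem hm1 hm, hm2.mul hm', fun x => ?_⟩
    rw [rep_mul_apply, h1, h5, List.foldr_cons, rc, bf_eq hA]

variable {e : ℕ} (he : 0 < e) {σ : MulAut ↥(D.group k)} {g : (Fin l → ℤ) ≃+ (Fin l → ℤ)} (hσ : IsFrob r e σ)
  (Fσ : Fr cs hp.isCartan (TT D k) (XX D l k) σ g)

include hk he hσ Fσ in
/-- **The frame.** -/
theorem exists_frame' (F : _root_.Cfsg.Agent.H897.T5Lat.Frm cs hp.isCartan (bf (cartanOf D l))) {A : Fin l → Fin l → ℤ}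
    (hA : ∀ i j, cartanOf D l i j = A i j) (hN : NSys M (TT D k) (nc hp k)) (L : List (Fin l → ℤ))
    (hL : ∀ a ∈ L, ∃ q < D.nroots, vec D l q = a) (h0 : ∀ a ∈ L, bc A a (sr i0) = 0) (hgL : ∀ a ∈ L, g a = a)
    (hgi : g (sr i0) = sr i0) {π : Fin l → Fin l} (hg : ∀ j, g (sr j) = sr (π j))
    {η : (Fin l → ℤ) ≃+ (Fin l → ℤ)} {π' : Fin l → Fin l} (hη : ∀ j, η (sr j) = sr (π' j))
    (hcheck : ∀ j, rc A (sr i0) (L.foldr (rc A) (sr (π j))) = -sr (π' j)) :
    ∃ za zb w1, za ∈ (phi hp k i0).range ∧ (∀ y ∈ (phi hp k i0).range, zb * y = y * zb) ∧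
      Rp cs hN w1 ((za * zb)⁻¹ * σ (za * zb)) ∧ ∀ x, rep cs hp.isCartan w1 (g x) = (-1 : ℤ) • η x := by
  have hr := isRoot_sr cs hp.isCartan i0
  obtain ⟨wa, na, hna, hna', ha1⟩ := exists_rfl hp cs hk r F hN (S := {a | a = sr i0 ∨ a = -sr i0}) hr
    (Or.inl rfl) (Or.inr rfl)
  obtain ⟨za, hza, hza'⟩ := lang_fr hp cs he hσ Fσ (S := {a | a = sr i0 ∨ a = -sr i0}) (by
    rintro a (rfl | rfl)
    · exact hr
    · exact hr.neg) (by
    rintro a (rfl | rfl)
    · exact Or.inl hgi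
    · exact Or.inr (by rw [map_neg, hgi])) hna
  have hLr : ∀ a ∈ L, IsRoot cs hp.isCartan a := fun a ha => (isRoot_iff hp cs a).2 (hL a ha)
  have hpm : ∀ a ∈ pm L, IsRoot cs hp.isCartan a := by
    rintro a (ha | ha)
    · exact hLr a ha
    · have := (hLr _ ha).neg
      rwa [neg_neg] at this
  obtain ⟨wb, nb, hnb, hnb', hb1⟩ := exists_prod hp cs hk r F hA hN (S := pm L) L fun a ha =>
    ⟨hLr a ha, Or.inl ha, Or.inr (by rw [neg_neg]; exact ha)⟩
  obtain ⟨zb, hzb, hzb'⟩ := lang_fr hp cs he hσ Fσ (S := pm L) hpm (by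
    rintro a (ha | ha)
    · left; rw [hgL a ha]; exact ha
    · right
      rw [← map_neg, hgL _ ha]
      exact ha) hnb
  have hcomm := comm_range hp cs hk r i0 F (S := pm L) hpm (by
    rintro a (ha | ha)
    · rw [bf_eq hA, h0 a ha]
    · have := h0 _ ha
      rw [← bf_eq hA, map_neg, LinearMap.neg_apply, neg_eq_zero] at this
      exact this) hzb
  refine ⟨za, zb, wa * wb, Sup_le_range hp cs hk r i0 hza, hcomm, ?_, ?_⟩
  · have h1 : (za * zb)⁻¹ * σ (za * zb) = na * nb := by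
      have h2 : na ∈ (phi hp k i0).range := Sup_le_range hp cs hk r i0 hna
      rw [map_mul, hzb']
      calc (za * zb)⁻¹ * (σ za * σ zb) = zb⁻¹ * (za⁻¹ * σ za) * σ zb := by group
        _ = zb⁻¹ * (na * zb) * (zb⁻¹ * σ zb) := by rw [← hza']; group
        _ = zb⁻¹ * (zb * na) * (zb⁻¹ * σ zb) := by rw [hcomm _ h2]
        _ = na * (zb⁻¹ * σ zb) := by group
    rw [h1]
    exact hna'.mul hnb'
  · have key : ((repAut cs hp.isCartan (wa * wb)).toAddMonoidHom).comp g.toAddMonoidHom =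
        (-1 : ℤ) • η.toAddMonoidHom := by
      refine AddMonoidHom.functions_ext' _ _ _ fun j => ?_
      ext i
      have h1 : rep cs hp.isCartan (wa * wb) (g (sr j)) = (-1 : ℤ) • η (sr j) := by
        rw [hg, hη, rep_mul_apply, hb1, ha1, bf_eq hA, neg_one_zsmul, ← hcheck j, rc]
      exact congrFun h1 i
    exact fun x => DFunLike.congr_fun key x

include hk he hσ Fσ in
/-- **The frame.** -/
theorem exists_frame (F : _root_.Cfsg.Agent.H897.T5Lat.Frm cs hp.isCartan (bf (cartanOf D l))) {A : Fin l → Fin l → ℤ}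
    (hA : ∀ i j, cartanOf D l i j = A i j) (hN : NSys M (TT D k) (nc hp k)) (L : List (Fin l → ℤ))
    (hL : ∀ a ∈ L, ∃ q < D.nroots, vec D l q = a) (h0 : ∀ a ∈ L, bc A a (sr i0) = 0) (hgL : ∀ a ∈ L, g a = a)
    (hgi : g (sr i0) = sr i0) {π : Fin l → Fin l} (hg : ∀ j, g (sr j) = sr (π j))
    (hcheck : ∀ j, rc A (sr i0) (L.foldr (rc A) (sr (π j))) = -sr j) :
    ∃ za zb w1, za ∈ (phi hp k i0).range ∧ (∀ y ∈ (phi hp k i0).range, zb * y = y * zb) ∧
      Rp cs hN w1 ((za * zb)⁻¹ * σ (za * zb)) ∧ ∀ x, rep cs hp.isCartan w1 (g x) = (-1 : ℤ) • x :=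
  exists_frame' hp cs hk r i0 he hσ Fσ F hA hN L hL h0 hgL hgi hg (η := AddEquiv.refl _) (π' := fun j => j)
    (fun _ => rfl) hcheck

end Chev

end Cfsg.Agent.H897.T5Frame
end

-- part: H897/T5Fam
section
/-!
# The reduction to a root `SL₂(q)` (T5)

`red_root` : `Red p κ.range` for a root `SL₂(F₀)`, given the torality statement (`inner_root`), the splitting
`Y^σ = T^σ S` and the list of automorphisms of order `p`.
-/

set_option autoImplicit false
set_option linter.unusedSectionVars false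

namespace Cfsg.Agent.H897.T5Fam

open CoxeterSystem Cfsg Cfsg.Lie Cfsg.Lie.ChevalleyDatum
open Cfsg.Agent.ChevalleyStructure Cfsg.Agent.ChevalleyStructure.Elts Cfsg.Agent.ChevalleyStructure.CoxeterGeom
  Cfsg.Agent.ChevalleyStructure.CoxeterGeomTypes Cfsg.Agent.ChevalleyStructure.NPerm
open Cfsg.Agent.Tits.Roots Cfsg.Agent.Tits.Core Cfsg.Agent.Nodes Cfsg.Agent.Nodes.Reps Cfsg.Agent.Nodes.BNOf
  Cfsg.Agent.Nodes.RGDChev Cfsg.Agent.Nodes.Bruhat Cfsg.Agent.Nodes.SubComb Cfsg.Agent.Nodes.Coroot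
open Cfsg.Agent.KFacts.RgdField Cfsg.Agent.KFacts.RgdChevCoord Cfsg.Agent.BpExc.TorCent Cfsg.Agent.BpExc.TorChev
open Cfsg.Agent.GpExc.Field Cfsg.Agent.BpExc.Tow Cfsg.Agent.BpExc.TowChev Cfsg.Agent.BpExc.Fr
  Cfsg.Agent.BpExc.LangFr Cfsg.Agent.LangThm Cfsg.Agent.BpExc Cfsg.Agent.H129.TorusChar Cfsg.Agent.H129.TorusMain
open Cfsg.Agent.H720.TorusReal Cfsg.Agent.H897.T5Cent Cfsg.Agent.H897.T5Root Cfsg.Agent.H897.T5Box
  Cfsg.Agent.H897.T5Sub
open Cfsg.Agent.ChevalleyStructure.SL2Hom (up lo mem_closure_SL2)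
open Cfsg.Agent.OddHalf.LongSL.Chev (phi phi_up phi_lo)
open Cfsg.Agent.H378.TorFin (frobHom frobHom_apply)
open Matrix (SpecialLinearGroup)
open scoped commutatorElement

theorem map_up {F K : Type*} [Field F] [Field K] (j : F →+* K) (a : F) :
    SpecialLinearGroup.map j (up a : _root_.Matrix.SpecialLinearGroup (Fin 2) F) = up (j a) := by
  apply Subtype.ext
  ext i i'
  show j ((!![1, a; 0, 1] : Matrix (Fin 2) (Fin 2) F) i i') = (!![1, j a; 0, 1] : Matrix (Fin 2) (Fin 2) K) i i'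
  (revert i i'; simp only [_root_.Fin.forall_fin_succ, _root_.Matrix.of_apply, _root_.Matrix.cons_val', _root_.Matrix.cons_val_fin_one, Fin.isValue, _root_.Matrix.cons_val_zero, _root_.Matrix.cons_val_succ, _root_.forall_const, _root_.map_one, _root_.and_self, _root_.map_zero, _root_.implies_true])

theorem map_lo {F K : Type*} [Field F] [Field K] (j : F →+* K) (a : F) :
    SpecialLinearGroup.map j (lo a : _root_.Matrix.SpecialLinearGroup (Fin 2) F) = lo (j a) := by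
  apply Subtype.ext
  ext i i'
  show j ((!![1, 0; a, 1] : Matrix (Fin 2) (Fin 2) F) i i') = (!![1, 0; j a, 1] : Matrix (Fin 2) (Fin 2) K) i i'
  (revert i i'; simp only [_root_.Fin.forall_fin_succ, _root_.Matrix.of_apply, _root_.Matrix.cons_val', _root_.Matrix.cons_val_fin_one, Fin.isValue, _root_.Matrix.cons_val_zero, _root_.Matrix.cons_val_succ, _root_.forall_const, _root_.map_one, _root_.map_zero, _root_.and_self, _root_.implies_true])

section Chev

variable {D : ChevalleyDatum} {l : ℕ} {M : CoxeterMatrix (Fin l)} (hp : IsType D l M) {k : Type} [Field k]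
  [IsAlgClosed k] {W : Type} [Group W] [Finite W] (cs : CoxeterSystem M W) (hk : LocFin k) (r : ℕ) [Fact r.Prime]
  [CharP k r] (i0 : Fin l)

/-- an automorphism acting on the root group as the `r ^ m`-power map -/
structure Act (σ : MulAut ↥(D.group k)) (m : ℕ) : Prop where
  up : ∀ a, σ (phi hp k i0 (up a)) = phi hp k i0 (SL2Hom.up (a ^ r ^ m))
  lo : ∀ a, σ (phi hp k i0 (lo a)) = phi hp k i0 (SL2Hom.lo (a ^ r ^ m))

variable {hp r i0}

theorem Act.apply {σ : MulAut ↥(D.group k)} {m : ℕ} (h : Act hp r i0 σ m) (A : _root_.Matrix.SpecialLinearGroup (Fin 2) k) :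
    σ (phi hp k i0 A) = phi hp k i0 (SpecialLinearGroup.map (frobHom k r m) A) := by
  have h1 : (σ.toMonoidHom).comp (phi hp k i0) =
      (phi hp k i0).comp (SpecialLinearGroup.map (frobHom k r m)) := by
    refine hom_ext (fun a => ?_) (fun a => ?_)
    · show σ (phi hp k i0 (SL2Hom.up a)) = phi hp k i0 (SpecialLinearGroup.map (frobHom k r m) (SL2Hom.up a))
      rw [h.up, map_up, frobHom_apply]
    · show σ (phi hp k i0 (SL2Hom.lo a)) = phi hp k i0 (SpecialLinearGroup.map (frobHom k r m) (SL2Hom.lo a))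
      rw [h.lo, map_lo, frobHom_apply]
  exact DFunLike.congr_fun h1 A

theorem Act.mem {σ : MulAut ↥(D.group k)} {m : ℕ} (h : Act hp r i0 σ m) {y : ↥(D.group k)}
    (hy : y ∈ (phi hp k i0).range) : σ y ∈ (phi hp k i0).range := by
  obtain ⟨A, rfl⟩ := hy
  exact ⟨_, (h.apply A).symm⟩

variable {S : Type*} [Group S] {ι : S →* ↥(D.group k)} {σ : MulAut ↥(D.group k)} {e : ℕ}
  {F0 : Type} [Field F0] [Fintype F0] [CharP F0 r] {j : F0 →+* k}
  {κ : _root_.Matrix.SpecialLinearGroup (Fin 2) F0 →* S}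

/-- **The fixed points of the root `SL₂`.** -/
theorem box (hι : Function.Injective ι) (hfix : ∀ s, σ (ι s) = ι s) (h4 : 4 ≤ Fintype.card F0)
    (hj : ∀ x : k, x ^ r ^ e = x → ∃ y, j y = x)
    (hκ : ∀ C, ι (κ C) = phi hp k i0 (SpecialLinearGroup.map j C)) (hσ : Act hp r i0 σ e) :
    Box ι σ (phi hp k i0).range κ.range where
  inj := hι
  fix := hfix
  sub s hs := by
    obtain ⟨C, rfl⟩ := hs
    exact ⟨_, (hκ C).symm⟩
  perf := by
    have h1 : κ.range = (⊤ : Subgroup (_root_.Matrix.SpecialLinearGroup (Fin 2) F0)).map κ := by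
      rw [MonoidHom.range_eq_map]
    rw [h1, ← Subgroup.map_commutator, ← commutator_def, H596.OneCtx.perfect_SL h4]
  comm := by
    rintro _ ⟨A, rfl⟩ _ ⟨B, rfl⟩ hA hB
    rw [hσ.apply] at hA hB
    have key : ∀ A : _root_.Matrix.SpecialLinearGroup (Fin 2) k, phi hp k i0 (SpecialLinearGroup.map (frobHom k r e) A) =
        phi hp k i0 A → SpecialLinearGroup.map (frobHom k r e) A = A ∨
          SpecialLinearGroup.map (frobHom k r e) A = -A := by
      intro A hA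
      have h1 : phi hp k i0 (SpecialLinearGroup.map (frobHom k r e) A * A⁻¹) = 1 := by
        rw [map_mul, hA, ← map_mul, mul_inv_cancel, map_one]
      rcases Cfsg.Agent.H609.PairExc.phi_ker hp k i0 _ h1 with h2 | h2
      · exact Or.inl (mul_inv_eq_one.1 h2)
      · right
        rw [mul_inv_eq_iff_eq_mul, neg_one_mul] at h2
        exact h2
    have h1 : SpecialLinearGroup.map (frobHom k r e) ⁅A, B⁆ = ⁅A, B⁆ := by
      have hnegl : ∀ X Y : _root_.Matrix.SpecialLinearGroup (Fin 2) k, ⁅-X, Y⁆ = ⁅X, Y⁆ := by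
        intro X Y
        rw [commutatorElement_def, commutatorElement_def, inv_neg, neg_mul, neg_mul, mul_neg, neg_mul, neg_mul,
          neg_neg]
      have hnegr : ∀ X Y : _root_.Matrix.SpecialLinearGroup (Fin 2) k, ⁅X, -Y⁆ = ⁅X, Y⁆ := by
        intro X Y
        rw [← inv_inj, commutatorElement_inv, commutatorElement_inv, hnegl]
      rw [map_commutatorElement]
      rcases key A hA with h1 | h1 <;> rcases key B hB with h2 | h2 <;> rw [h1, h2]
      · rw [hnegr]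
      · rw [hnegl]
      · rw [hnegl, hnegr]
    obtain ⟨C, hC⟩ : ∃ C : _root_.Matrix.SpecialLinearGroup (Fin 2) F0, SpecialLinearGroup.map j C = ⁅A, B⁆ := by
      obtain ⟨Z, hZ⟩ : ∃ Z, Z = ⁅A, B⁆ := ⟨_, rfl⟩
      rw [← hZ] at h1 ⊢
      have h2 : ∀ a b, ∃ y, j y = Z.1 a b := by
        intro a b
        apply hj
        have h3 := congrArg (fun X : _root_.Matrix.SpecialLinearGroup (Fin 2) k => X.1 a b) h1
        have h4 : frobHom k r e (Z.1 a b) = Z.1 a b := h3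
        rwa [frobHom_apply] at h4
      choose y hy using h2
      refine ⟨⟨Matrix.of y, ?_⟩, ?_⟩
      · apply j.injective
        rw [map_one, RingHom.map_det]
        have h3 : j.mapMatrix (Matrix.of y) = Z.1 := by
          ext a b
          exact hy a b
        rw [h3]
        exact Z.2
      · apply Subtype.ext
        ext a b
        exact hy a b
    exact ⟨κ C, ⟨C, rfl⟩, by rw [hκ, hC, map_commutatorElement]⟩

include cs hk in
/-- **Standard field automorphisms.** -/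
theorem std {m p : ℕ} (hm : 0 < m) (hp1 : 1 < p) (hmp : m * p = e) (hcard : Nat.card F0 = r ^ e)
    (hκ : ∀ C, ι (κ C) = phi hp k i0 (SpecialLinearGroup.map j C))
    {φ : MulAut ↥(D.group k)} (hφ : IsFrob r m φ) {g' : (Fin l → ℤ) ≃+ (Fin l → ℤ)}
    (hF : Fr cs hp.isCartan (TT D k) (XX D l k) φ g') (hpow : φ ^ p = σ) (hA : Act hp r i0 φ m) :
    Std ι σ (phi hp k i0).range (TT D k) κ.range p φ where
  pow := hpow
  A _ hy := hA.mem hy
  lang y := by
    obtain ⟨z, hz⟩ := lang_all hp cs hm hφ hF 1 y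
    refine ⟨z, ?_⟩
    rw [map_one, one_mul] at hz
    exact hz
  ne t ht _ := by
    have C := coordsL hp cs hk r
    have hr := isRoot_sr cs hp.isCartan i0
    obtain ⟨u, hu⟩ : ∃ u, u = ch hp (sr i0) t := ⟨_, rfl⟩
    have hu0 : u ≠ 0 := by rw [hu]; exact (C.coord _ hr).chi_ne_zero ht
    by_contra hcon
    push Not at hcon
    have h1 : ∀ c : F0, u⁻¹ * (u * j c) ^ r ^ m = j c := by
      intro c
      have h2 := hcon _ ⟨up c, rfl⟩
      rw [hκ, map_up, phi_up', (C.coord _ hr).act t ht, ← phi_up', hA.up, phi_up', ← hu] at h2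
      have h3 : t⁻¹ * xc hp (sr i0) ((u * j c) ^ r ^ m) * t = xc hp (sr i0) (u⁻¹ * (u * j c) ^ r ^ m) := by
        have h4 := (C.coord _ hr).act t ht (u⁻¹ * (u * j c) ^ r ^ m)
        rw [← hu, mul_inv_cancel_left₀ hu0] at h4
        rw [← h4]; group
      rw [h3] at h2
      exact (C.coord _ hr).inj h2
    have h2 : u⁻¹ * u ^ r ^ m = 1 := by
      have := h1 1
      rwa [map_one, mul_one] at this
    have h3 : ∀ c : F0, c ^ r ^ m = c := by
      intro c
      apply j.injective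
      rw [map_pow]
      have h4 := h1 c
      rw [mul_pow, ← mul_assoc, h2, one_mul] at h4
      exact h4
    have h4 := (Cfsg.Agent.BpExc.FamField.forall_pow_iff r hcard m).1 h3
    have h5 := Nat.le_of_dvd hm h4
    rw [← hmp] at h5
    nlinarith only [hm, hp1, h5]

include cs hk in
/-- **The reduction to the root `SL₂`.** -/
theorem red_root (hι : Function.Injective ι) (hfix : ∀ s, σ (ι s) = ι s) (h4 : 4 ≤ Fintype.card F0)
    (hcard : Nat.card F0 = r ^ e) (hj : ∀ x : k, x ^ r ^ e = x → ∃ y, j y = x)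
    (hκ : ∀ C, ι (κ C) = phi hp k i0 (SpecialLinearGroup.map j C)) (hσ : Act hp r i0 σ e)
    (hsplit : ∀ y, σ y = y → ∃ g : S, ∃ t ∈ TT D k, y = t * ι g) (hZ : Subgroup.center ↥(D.group k) = ⊥)
    {p : ℕ} (hpp : p.Prime)
    (hinner : ∀ x, σ x = x → x ^ p = 1 → x ≠ 1 → ∃ y, σ y = y ∧
      (∀ u ∈ (phi hp k i0).range, (y * x * y⁻¹) * u * (y * x * y⁻¹)⁻¹ ∈ (phi hp k i0).range) ∧
      (y * x * y⁻¹) * phi hp k i0 (up 1) ≠ phi hp k i0 (up 1) * (y * x * y⁻¹))
    (hcases : ∀ c : MulAut S, orderOf c = p →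
      (∃ y, y ^ p = 1 ∧ σ y = y ∧ ∀ s, ι (c s) = y * ι s * y⁻¹) ∨
      ∃ (i m : ℕ) (φ : MulAut ↥(D.group k)) (y : ↥(D.group k)), i.Coprime p ∧ 0 < m ∧ m * p = e ∧ IsFrob r m φ ∧
        (∃ g', Fr cs hp.isCartan (TT D k) (XX D l k) φ g') ∧ φ ^ p = σ ∧ Act hp r i0 φ m ∧
        (MulAut.conj y * φ) ^ p = σ ∧ ∀ s, ι ((c ^ i) s) = (MulAut.conj y * φ) (ι s)) :
    Red p κ.range := by
  refine red_of (box hι hfix h4 hj hκ hσ) (T := TT D k) (fun t ht y hy => conj_mem hp cs hk r i0 ht hy) hsplit hZ hpp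
    (fun x h1 h2 h3 => ?_) (fun c hc => ?_)
  · obtain ⟨y, h5, h6, h7⟩ := hinner x h1 h2 h3
    refine ⟨y, h5, h6, κ (up 1), ⟨_, rfl⟩, ?_⟩
    rw [hκ, map_up, map_one]
    exact h7
  · rcases hcases c hc with h | ⟨i, m, φ, y, h1, h2, h3, h5, ⟨g', h6⟩, h7, h8, h9, h10⟩
    · exact Or.inl h
    · exact Or.inr ⟨i, φ, y, h1, std cs hk h2 hpp.one_lt h3 hcard hκ h5 h6 h7 h8, h9, h10⟩

end Chev

end Cfsg.Agent.H897.T5Fam
end

-- part: H897/T5Untw
section
/-!
# `E₆`, `E₇`, `E₈`, `p ∣ q² - 1`: reduction to the root `SL₂(q)` (T5)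
-/

set_option autoImplicit false
set_option linter.unusedSectionVars false

namespace Cfsg.Agent.H897.T5Untw

open CoxeterSystem Cfsg Cfsg.Lie Cfsg.Lie.ChevalleyDatum
open Cfsg.Agent.ChevalleyStructure Cfsg.Agent.ChevalleyStructure.Elts Cfsg.Agent.ChevalleyStructure.CoxeterGeom
  Cfsg.Agent.ChevalleyStructure.CoxeterGeomTypes Cfsg.Agent.ChevalleyStructure.NPerm
open Cfsg.Agent.Tits.Roots Cfsg.Agent.Tits.Core Cfsg.Agent.Nodes Cfsg.Agent.Nodes.Reps Cfsg.Agent.Nodes.BNOf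
  Cfsg.Agent.Nodes.RGDChev Cfsg.Agent.Nodes.Bruhat Cfsg.Agent.Nodes.SubComb Cfsg.Agent.Nodes.Coroot
open Cfsg.Agent.KFacts.RgdField Cfsg.Agent.KFacts.RgdChevCoord Cfsg.Agent.BpExc.TorCent Cfsg.Agent.BpExc.TorChev
open Cfsg.Agent.GpExc.Field Cfsg.Agent.BpExc.Tow Cfsg.Agent.BpExc.TowChev Cfsg.Agent.BpExc.Fr
  Cfsg.Agent.BpExc.LangFr Cfsg.Agent.LangThm Cfsg.Agent.BpExc Cfsg.Agent.H129.TorusChar Cfsg.Agent.H129.TorusMain
open Cfsg.Agent.BpExc.FamUntw Cfsg.Agent.BpExc.FamInst Cfsg.Agent.BpExc.FamField Cfsg.Agent.BpExc.FamExt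
  Cfsg.Agent.CpAut.RgdUntw
open Cfsg.Agent.H897.T5Cent Cfsg.Agent.H897.T5Root Cfsg.Agent.H897.T5Box Cfsg.Agent.H897.T5Sub
  Cfsg.Agent.H897.T5Fam Cfsg.Agent.H897.T5Frame Cfsg.Agent.H897.T5Conn
open Cfsg.Agent.ChevalleyStructure.SL2Hom (up lo mem_closure_SL2)
open Cfsg.Agent.OddHalf.LongSL.Chev (phi_up phi_lo)
open Cfsg.Agent.H378.TorFin (frobHom frobHom_apply exists_closure phi_emb')
open Cfsg.Agent.H533.T5 Cfsg.Agent.H957.T5M
open Matrix (SpecialLinearGroup)

/-- the root homomorphism -/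
noncomputable abbrev ph {D : ChevalleyDatum} {l : ℕ} {M : CoxeterMatrix (Fin l)} (hp : IsType D l M) (k : Type) [Field k]
    (i0 : Fin l) := Cfsg.Agent.OddHalf.LongSL.Chev.phi hp k i0

/-- two homomorphisms of `SL₂` agreeing on the unitriangular elements -/
theorem hom_ext' {K Y : Type*} [Field K] [Group Y] {f g : _root_.Matrix.SpecialLinearGroup (Fin 2) K →* Y}
    (h1 : ∀ a, f (up a) = g (up a)) (h2 : ∀ a, f (lo a) = g (lo a)) : f = g := by
  ext A
  have h3 : Subgroup.closure (Set.range (up (F := K)) ∪ Set.range (lo (F := K))) ≤ f.eqLocus g := by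
    rw [Subgroup.closure_le]
    rintro _ (⟨a, rfl⟩ | ⟨a, rfl⟩)
    · exact h1 a
    · exact h2 a
  exact h3 (mem_closure_SL2 A)

/-! ### rows from `Red` -/

section Row

variable {S : Type*} [Group S] {F0 : Type} [Field F0] [Fintype F0] {κ : _root_.Matrix.SpecialLinearGroup (Fin 2) F0 →* S} {p : ℕ}

theorem comm_range (h4 : 4 ≤ Fintype.card F0) : commutator ↥κ.range = ⊤ :=
  commutator_of_surjective (H596.OneCtx.perfect_SL h4) (f := κ.rangeRestrict) κ.rangeRestrict_surjective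

variable (hpp : p.Prime) (h4 : 4 ≤ Fintype.card F0)
  (hker : ∀ C, κ C = 1 → C ∈ Subgroup.center (_root_.Matrix.SpecialLinearGroup (Fin 2) F0)) (h : Red p κ.range)

include h4 hker in
theorem exists_equiv : Nonempty ((_root_.Matrix.SpecialLinearGroup (Fin 2) F0 ⧸ Subgroup.center (_root_.Matrix.SpecialLinearGroup (Fin 2) F0)) ≃*
    (↥κ.range ⧸ Subgroup.center ↥κ.range)) :=
  exists_quoEquiv (H596.OneCtx.perfect_SL h4) (f := κ.rangeRestrict) κ.rangeRestrict_surjective (by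
    intro C hC
    refine hker C ?_
    have h1 : κ.rangeRestrict C = 1 := hC
    exact congrArg Subtype.val h1)

include hpp h4 hker h

theorem srow (hrow : SRow p (Matrix.ProjectiveSpecialLinearGroup (Fin 2) F0)) : SRow p S := by
  obtain ⟨e⟩ := exists_equiv h4 hker
  exact srow_of_red hpp (comm_range h4) (SRow.congr e hrow) h

theorem mrow (hrow : MRow p (Matrix.ProjectiveSpecialLinearGroup (Fin 2) F0)) : MRow p S := by
  obtain ⟨e⟩ := exists_equiv h4 hker
  exact mrow_of_red hpp (comm_range h4) (MRow.congr e hrow) h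

end Row

/-- the decidable data of a frame -/
structure FrOK (D : ChevalleyDatum) (l : ℕ) (i0 : Fin l) (π : Fin l → Fin l) (A : Fin l → Fin l → ℤ)
    (L : List (Fin l → ℤ)) : Prop where
  hA : ∀ i j, cartanOf D l i j = A i j
  hL : ∀ a ∈ L, ∃ q < D.nroots, vec D l q = a
  orth : ∀ a ∈ L, bc A a (sr i0) = 0
  check : ∀ j, rc A (sr i0) (L.foldr (rc A) (sr (π j))) = -sr j

section Main

variable {D : ChevalleyDatum} {l : ℕ} {M : CoxeterMatrix (Fin l)} (hp : IsType D l M)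

/-- the kernel of the root homomorphism is central -/
theorem phi_ker' {K : Type} [Field K] (i0 : Fin l) (C : _root_.Matrix.SpecialLinearGroup (Fin 2) K) (h : ph hp K i0 C = 1) :
    C ∈ Subgroup.center (_root_.Matrix.SpecialLinearGroup (Fin 2) K) := by
  rcases Cfsg.Agent.H609.PairExc.phi_ker hp K i0 C h with rfl | rfl
  · exact one_mem _
  · rw [Subgroup.mem_center_iff]
    intro g
    rw [mul_neg, neg_mul, mul_one, one_mul]

theorem card_ge {q p : ℕ} (hpp : p.Prime) (hp5 : 5 ≤ p) (h : p ∣ q ^ 2 - 1) (hq : 2 ≤ q) : 4 ≤ q := by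
  by_contra hcon
  push Not at hcon
  interval_cases q
  · have := Nat.le_of_dvd (by norm_num) h; omega
  · have h1 : p ∣ 2 ^ 3 := h
    have := Nat.le_of_dvd (by norm_num) (hpp.dvd_of_dvd_pow h1)
    omega

/-- the torality statement -/
def Inner (k : Type) [Field k] (i0 : Fin l) (p : ℕ) (σ : MulAut ↥(D.group k)) : Prop :=
  ∀ x, σ x = x → x ^ p = 1 → x ≠ 1 → ∃ y, σ y = y ∧
    (∀ u ∈ (ph hp k i0).range, (y * x * y⁻¹) * u * (y * x * y⁻¹)⁻¹ ∈ (ph hp k i0).range) ∧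
      (y * x * y⁻¹) * ph hp k i0 (up 1) ≠ ph hp k i0 (up 1) * (y * x * y⁻¹)

/-- **The reduction**, given the torality statement. -/
theorem red_gen {F : Type} [Field F] [Fintype F] {d : ℕ} {B : Fin l → Fin l → ℤ} (hB : FamExt.InvC D l d B)
    (hd : d ≠ 0) (hM : SymTwo M)
    (hk1 : ∀ (k : Type) [Field k] [IsAlgClosed k], IsSimpleGroup ↥(D.group k) ∧ ¬ IsMulCommutative ↥(D.group k))
    (hF1 : IsSimpleGroup ↥(D.group F) ∧ ¬ IsMulCommutative ↥(D.group F))
    {p : ℕ} (hpp : p.Prime) (hp5 : 5 ≤ p) (hpF : ¬ p ∣ Fintype.card F) (h2d : 4 ≤ Fintype.card F) {i0 : Fin l}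
    (hinner : ∀ (k : Type) [Field k] [IsAlgClosed k] (_ : LocFin k) (r : ℕ) [Fact r.Prime] [CharP k r] (n : ℕ),
      BpExc.TorAll.HAlg r k → 0 < n → Fintype.card F = r ^ n → p ≠ r → Subgroup.center ↥(D.group k) = ⊥ →
      Inner hp k i0 p (phi D k r n)) :
    Red p (ph hp F i0).range := by
  have hi1 := hF1.1
  obtain ⟨k, _, _, f, r, _, _, n, hk, hka, hn0, hn⟩ := _root_.Cfsg.Agent.H378.TorFin.exists_closure F
  have hrF : CharP F r := f.charP f.injective r
  have hperf : PerfectRing k r := inferInstance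
  have hW : Finite M.Group := finite_W hp M.toCoxeterSystem
  have hcent : ∀ {G : Type} [Group G], IsSimpleGroup G → ¬ IsMulCommutative G → Subgroup.center G = ⊥ := by
    intro G _ h1 h2
    refine KFacts.RgdLieCharP.center_eq_bot ?_
    by_contra hcon
    push Not at hcon
    exact h2 ⟨⟨hcon⟩⟩
  have hZ := hcent (hk1 k).1 (hk1 k).2
  have hZF := hcent hF1.1 hF1.2
  have R := rgd (K := F) hp M.toCoxeterSystem r
  have hG1 : RGD.Sup (XX D l F) {x | IsRoot M.toCoxeterSystem hp.isCartan x} = ⊤ := G1_eq_top hp M.toCoxeterSystem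
  have hconn := KFacts.RgdLieCharP.conn_of_simple R hG1 hZF
  have hl : Nonempty (Fin l) := ⟨i0⟩
  have hn' : Fintype.card F = r ^ n := by rw [← Nat.card_eq_fintype_card, hn]
  have hpr : p ≠ r := by
    rintro rfl
    exact hpF (by rw [hn']; exact dvd_pow_self _ hn0.ne')
  have hroots : ∀ c : F, c ≠ 0 → ∃ b : k, b ^ d = f c := fun c _ =>
    IsAlgClosed.exists_pow_nat_eq (f c) (Nat.pos_of_ne_zero hd)
  have hact : ∀ m, Act hp r i0 (phi D k r m) m := by
    intro m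
    have h1 : ∀ (a : Fin l → ℤ), IsRoot M.toCoxeterSystem hp.isCartan a → ∀ t : k,
        phi D k r m (xc hp a t) = xc hp a (t ^ r ^ m) := by
      intro a ha t
      obtain ⟨s, hs, rfl⟩ := (isRoot_iff hp M.toCoxeterSystem a).1 ha
      rw [phi, fld_eq_emb hp, _root_.Cfsg.Agent.BpExc.FamExt.emb_xc hp _ hs]
      congr 1
      exact frb_apply k r m t
    have hr := isRoot_sr M.toCoxeterSystem hp.isCartan i0
    exact ⟨fun a => by rw [phi_up', phi_up', h1 _ hr], fun a => by rw [phi_lo', phi_lo', h1 _ hr.neg]⟩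
  have hκ : ∀ C : _root_.Matrix.SpecialLinearGroup (Fin 2) F, emb hp.inList f (ph hp F i0 C) =
      ph hp k i0 (SpecialLinearGroup.map f C) := by
    intro C
    have h1 : (emb hp.inList f).comp (ph hp F i0) = (ph hp k i0).comp (SpecialLinearGroup.map f) := by
      have hs := simple_lt hp.inList (lt_rank hp i0)
      have e0 : ∀ (K : Type) [Field K] (t : K), ph hp K i0 (up t) = xc hp (vec D l (D.simple i0)) t := by
        intro K _ t
        apply Subtype.ext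
        rw [ph, phi_up]
        exact (coe_xc (K := K) hp hs t).symm
      have e1 : ∀ (K : Type) [Field K] (t : K), ph hp K i0 (lo t) = xc hp (vec D l (D.neg (D.simple i0))) t := by
        intro K _ t
        apply Subtype.ext
        rw [ph, phi_lo]
        exact (coe_xc (K := K) hp (neg_lt hp.inList hs) t).symm
      refine hom_ext' (fun a => ?_) (fun a => ?_)
      · show emb hp.inList f (ph hp F i0 (up a)) = ph hp k i0 (SpecialLinearGroup.map f (up a))
        rw [map_up, e0, e0, _root_.Cfsg.Agent.BpExc.FamExt.emb_xc hp f hs]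
      · show emb hp.inList f (ph hp F i0 (lo a)) = ph hp k i0 (SpecialLinearGroup.map f (lo a))
        rw [map_lo, e1, e1, _root_.Cfsg.Agent.BpExc.FamExt.emb_xc hp f (neg_lt hp.inList hs)]
    exact DFunLike.congr_fun h1 C
  refine red_root M.toCoxeterSystem hk (σ := phi D k r n) (ι := emb hp.inList f) (j := f) (e := n)
    (emb_injective hp.inList f) (fun s => phi_emb hp r f hn s) h2d (by rw [hn]) ?_ hκ (hact n) ?_ hZ hpp
    (hinner k hk r n hka hn0 hn' hpr hZ) ?_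
  · -- roots of `x ^ q = x`
    intro x hx
    exact (Cfsg.Agent.H129.TorusUntw.frob_fix_iff f hn' x).1 (by rw [iterateFrobenius_def]; exact hx)
  · -- split
    intro y hy
    obtain ⟨a, ⟨g, rfl⟩, t, ht, -, h1⟩ := Cfsg.Agent.H378.TorFin.exists_split hp f r hn (y := y⁻¹) (by
      rw [map_inv, hy])
    refine ⟨g⁻¹, t⁻¹, inv_mem ht, ?_⟩
    rw [map_inv, ← mul_inv_rev, ← h1, inv_inv]
  · -- automorphisms
    intro c hc
    have hcp : c ^ p = 1 := by rw [← hc, pow_orderOf_eq_one]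
    rcases BpExc.FamUntw.cases hp hk r f hB hd hroots hl hconn hZ hpp
      (hM.eq_one hpp (by omega)) hn hcp with h | ⟨i, m, hi, hm0, hmn, y, hy, h⟩
    · exact Or.inl h
    · exact Or.inr ⟨i, m, phi D k r m, y, hi, hm0, hmn, phi_isFrob r m,
        ⟨_, phi_fr hp M.toCoxeterSystem r hk m⟩, by rw [phi_pow, hmn], hact m, hy, h⟩

/-- `p` does not divide `q` -/
theorem not_dvd_card {q p : ℕ} (hpp : p.Prime) (hq1 : 1 < q) (hq : p ∣ q - 1 ∨ p ∣ q + 1) : ¬ p ∣ q := by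
  intro h1
  rcases hq with h2 | h2
  · have h3 := Nat.dvd_sub h1 h2
    rw [Nat.sub_sub_self hq1.le] at h3
    exact hpp.one_lt.ne' (Nat.dvd_one.1 h3)
  · have h3 := (Nat.dvd_add_right h1).1 h2
    exact hpp.one_lt.ne' (Nat.dvd_one.1 h3)

theorem card_ge' {q p : ℕ} (hpp : p.Prime) (hp5 : 5 ≤ p) (hq1 : 1 < q) (hq : p ∣ q - 1 ∨ p ∣ q + 1) : 4 ≤ q := by
  refine card_ge hpp hp5 ?_ hq1
  have e1 : q ^ 2 - 1 = (q + 1) * (q - 1) := by
    rw [← Nat.sq_sub_sq, one_pow]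
  rw [e1]
  rcases hq with h2 | h2
  · exact Dvd.dvd.mul_left h2 _
  · exact Dvd.dvd.mul_right h2 _

theorem int_dvd {q p r n : ℕ} (hn' : q = r ^ n) (hq1 : 1 < q) (hq : p ∣ q - 1) : (p : ℤ) ∣ (r : ℤ) ^ n - 1 := by
  have h1 : (p : ℤ) ∣ ((q - 1 : ℕ) : ℤ) := Int.natCast_dvd_natCast.2 hq
  rw [Nat.cast_sub hq1.le, hn'] at h1
  push_cast at h1
  exact h1

theorem int_dvd' {q p r n : ℕ} (hn' : q = r ^ n) (hq : p ∣ q + 1) : (p : ℤ) ∣ (r : ℤ) ^ n - -1 := by
  have h1 : (p : ℤ) ∣ ((q + 1 : ℕ) : ℤ) := Int.natCast_dvd_natCast.2 hq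
  rw [hn'] at h1
  push_cast at h1
  rw [sub_neg_eq_add]
  exact h1

/-- **The reduction.** -/
theorem red_untw {F : Type} [Field F] [Fintype F] {d : ℕ} {B : Fin l → Fin l → ℤ} (hB : FamExt.InvC D l d B) (hd : d ≠ 0)
    (hM : SymTwo M) (h4 : ∀ i j, M i j ≠ 4) (h6 : ∀ i j, M i j ≠ 6)
    (hk1 : ∀ (k : Type) [Field k] [IsAlgClosed k], IsSimpleGroup ↥(D.group k) ∧ ¬ IsMulCommutative ↥(D.group k))
    (hF1 : IsSimpleGroup ↥(D.group F) ∧ ¬ IsMulCommutative ↥(D.group F))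
    {p : ℕ} (hpp : p.Prime) (hp5 : 5 ≤ p) (hpd : d.Coprime p) {i0 : Fin l} {par : Fin l → Fin l} {m : ℕ}
    (hP : Par M i0 par m)
    (hq : p ∣ Fintype.card F - 1 ∨ (p ∣ Fintype.card F + 1 ∧ ∃ A L, FrOK D l i0 (fun j => j) A L)) :
    Red p (ph hp F i0).range := by
  have hB' : H129.TorusChar.InvC D l d B := hB
  have hq1 : 1 < Fintype.card F := Fintype.one_lt_card
  have hq' : p ∣ Fintype.card F - 1 ∨ p ∣ Fintype.card F + 1 := hq.imp id And.left
  refine red_gen hp hB hd hM hk1 hF1 hpp hp5 (not_dvd_card hpp hq1 hq') (card_ge' hpp hp5 hq1 hq') ?_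
  intro k _ _ hk r _ _ n hka hn0 hn' hpr hZ x hσx hxp hx1
  have hW : Finite M.Group := finite_W hp M.toCoxeterSystem
  have hFrm := hP.frm (M.toCoxeterSystem) hp.isCartan h4 h6
  have hC : _root_.Cfsg.Agent.H897.T5Cent.Con hp M.toCoxeterSystem hk r p := con_of_frm hp M.toCoxeterSystem hk r hpp hpr hB' hpd hFrm
  have hN : NSys M (TT D k) (nc hp k) := by
    have := (tow hp M.toCoxeterSystem hk r (k := k)).nsys
    rwa [TL_eq hp hk] at this
  have hσf := phi_isFrob (D := D) (k := k) r n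
  have hσF := phi_fr hp M.toCoxeterSystem r hk n
  rcases hq with hq | ⟨hq, A, L, hAL⟩
  · refine inner_root hp M.toCoxeterSystem hk r i0 hC hpp hpr hn0 hσf hσF hB' hd hZ hka hN
      (za := 1) (zb := 1) (one_mem _) (fun y _ => by rw [one_mul, mul_one]) (w1 := 1) (ε := 1) ?_
      (fun x => by rw [map_one]; show x = (1 : ℤ) • x; rw [one_smul]) (int_dvd hn' hq1 hq)
      (fun a ha => hP.trans ha) hσx hxp hx1
    rw [mul_one, inv_one, one_mul, map_one]
    exact rp_one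
  · obtain ⟨za, zb, w1, h1, h2, h3, h5⟩ := exists_frame hp M.toCoxeterSystem hk r i0 hn0 hσf hσF hFrm hAL.hA hN L
      hAL.hL hAL.orth (fun a _ => rfl) rfl (π := fun j => j) (fun j => rfl) hAL.check
    exact inner_root hp M.toCoxeterSystem hk r i0 hC hpp hpr hn0 hσf hσF hB' hd hZ hka hN
      h1 h2 h3 h5 (int_dvd' hn' hq) (fun a ha => hP.trans ha) hσx hxp hx1

end Main

end Cfsg.Agent.H897.T5Untw
end

private theorem dce_2b79cab7e274 : _root_.True := by
  try have : _root_.True := by simp only [_root_.Cfsg.Agent.H897.T5Frame.bc.eq_1]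
  try have : _root_.True := by simp only [_root_.Cfsg.Agent.H897.T5Root.dc.congr_simp]
  try have : _root_.True := by simp only [_root_.Cfsg.Agent.H129.TorusChar.cX.congr_simp]
  try have : _root_.True := by simp only [_root_.Cfsg.Agent.H897.T5Untw.ph.eq_1]
  try have : _root_.True := by simp only [_root_.Cfsg.Agent.OddHalf.LongSL.Chev.phi.congr_simp]
  try have : _root_.True := by simp only [_root_.Cfsg.Agent.Nodes.Reps.btw.eq_1]
  try have : _root_.True := by simp only [_root_.Cfsg.Agent.BpExc.FamUntw.phi.eq_1]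
  try have : _root_.True := by simp only [_root_.Cfsg.Agent.H897.T5Frame.rc.eq_1]
  exact _root_.True.intro
end

-- part: H897/T5UntwRow
section
set_option linter.all false
open scoped Cfsg.Agent.FastGrp

/-!
# Rows `E₆` (`p ∣ q - 1`), `E₇`, `E₈` (`p ∣ q² - 1`), `p ≥ 5`, from the row `PSL₂(q)` (T5)
-/

set_option autoImplicit false
set_option linter.unusedSectionVars false

namespace Cfsg.Agent.H897.T5UntwRow

open CoxeterSystem Cfsg Cfsg.Lie Cfsg.Lie.ChevalleyDatum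
open Cfsg.Agent.ChevalleyStructure Cfsg.Agent.ChevalleyStructure.Elts Cfsg.Agent.ChevalleyStructure.CoxeterGeom
  Cfsg.Agent.ChevalleyStructure.CoxeterGeomTypes Cfsg.Agent.ChevalleyStructure.NPerm
open Cfsg.Agent.Tits.Roots Cfsg.Agent.Nodes.RGDChev Cfsg.Agent.BpExc Cfsg.Agent.BpExc.FamInst
  Cfsg.Agent.CpAut.RgdUntw
open Cfsg.Agent.H897.T5Untw Cfsg.Agent.H897.T5Frame Cfsg.Agent.H897.T5Conn Cfsg.Agent.H897.T5Sub
open Cfsg.Agent.H533.T5 Cfsg.Agent.H957.T5M
open Matrix (SpecialLinearGroup)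

/-! ### the data -/

/-- Cartan matrix of `E₇` -/
def A7 : Fin 7 → Fin 7 → ℤ := ![![2, 0, -1, 0, 0, 0, 0], ![0, 2, 0, -1, 0, 0, 0], ![-1, 0, 2, -1, 0, 0, 0],
  ![0, -1, -1, 2, -1, 0, 0], ![0, 0, 0, -1, 2, -1, 0], ![0, 0, 0, 0, -1, 2, -1], ![0, 0, 0, 0, 0, -1, 2]]

/-- Cartan matrix of `E₈` -/
def A8 : Fin 8 → Fin 8 → ℤ := ![![2, 0, -1, 0, 0, 0, 0, 0], ![0, 2, 0, -1, 0, 0, 0, 0], ![-1, 0, 2, -1, 0, 0, 0, 0],
  ![0, -1, -1, 2, -1, 0, 0, 0], ![0, 0, 0, -1, 2, -1, 0, 0], ![0, 0, 0, 0, -1, 2, -1, 0],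
  ![0, 0, 0, 0, 0, -1, 2, -1], ![0, 0, 0, 0, 0, 0, -1, 2]]

def L7 : List (Fin 7 → ℤ) := [![0, 0, 0, 0, 0, 0, 1], ![0, 0, 0, 0, 1, 0, 0], ![0, 0, 1, 0, 0, 0, 0],
  ![0, 1, 1, 2, 1, 0, 0], ![0, 1, 1, 2, 2, 2, 1], ![2, 2, 3, 4, 3, 2, 1]]

def L8 : List (Fin 8 → ℤ) := [![0, 0, 0, 0, 0, 0, 0, 1], ![0, 0, 0, 0, 0, 1, 0, 0], ![0, 0, 1, 0, 0, 0, 0, 0],
  ![0, 1, 1, 2, 2, 1, 0, 0], ![0, 1, 1, 2, 2, 2, 2, 1], ![2, 2, 3, 4, 4, 3, 2, 1], ![2, 3, 4, 6, 4, 3, 2, 1]]

theorem frOK7 : FrOK chevE7 7 1 (fun j => j) A7 L7 where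
  hA := by (delta Cfsg.Agent.ChevalleyStructure.CoxeterGeomTypes.cartanOf; rewrite [Cfsg.Agent.ChevFast.E7.cartan]; decide +kernel)
  hL := by (open scoped Cfsg.Agent.ChevFast.Lin in decide +kernel)
  orth := by decide +kernel
  check := by decide +kernel

theorem frOK8 : FrOK chevE8 8 1 (fun j => j) A8 L8 where
  hA := by (delta Cfsg.Agent.ChevalleyStructure.CoxeterGeomTypes.cartanOf; rewrite [Cfsg.Agent.ChevFast.E8.cartan]; decide +kernel)
  hL := by (open scoped Cfsg.Agent.ChevFast.Lin in decide +kernel)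
  orth := by decide +kernel
  check := by decide +kernel

theorem par6 : Par CoxeterMatrix.E₆ 1 ![2, 1, 3, 1, 3, 4] 6 := ⟨by decide +kernel, rfl, by decide +kernel⟩

theorem par7 : Par CoxeterMatrix.E₇ 1 ![2, 1, 3, 1, 3, 4, 5] 7 := ⟨by decide +kernel, rfl, by decide +kernel⟩

theorem par8 : Par CoxeterMatrix.E₈ 1 ![2, 1, 3, 1, 3, 4, 5, 6] 8 := ⟨by decide +kernel, rfl, by decide +kernel⟩

set_option backward.isDefEq.respectTransparency false in
theorem n6 : ∀ i j : Fin 6, CoxeterMatrix.E₆ i j ≠ 4 ∧ CoxeterMatrix.E₆ i j ≠ 6 := by decide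

set_option backward.isDefEq.respectTransparency false in
theorem n7 : ∀ i j : Fin 7, CoxeterMatrix.E₇ i j ≠ 4 ∧ CoxeterMatrix.E₇ i j ≠ 6 := by decide

set_option backward.isDefEq.respectTransparency false in
theorem n8 : ∀ i j : Fin 8, CoxeterMatrix.E₈ i j ≠ 4 ∧ CoxeterMatrix.E₈ i j ≠ 6 := by decide

/-! ### the reductions -/

/-- `S` is reduced to a quotient of `SL₂(F)` -/
def Redn (p : ℕ) (F : Type) [Field F] [Fintype F] (S : Type*) [Group S] : Prop :=
  4 ≤ Fintype.card F ∧ ∃ κ : SpecialLinearGroup (Fin 2) F →* S,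
    (∀ C, κ C = 1 → C ∈ Subgroup.center (SpecialLinearGroup (Fin 2) F)) ∧ Red p κ.range

section Row

variable {p : ℕ} {F : Type} [Field F] [Fintype F] {S : Type*} [Group S] {S' : Type*} [Group S']

theorem Redn.srow (hpp : p.Prime) (h : Redn p F S) (hrow : SRow p (Matrix.ProjectiveSpecialLinearGroup (Fin 2) F)) :
    SRow p S := by
  obtain ⟨h4, κ, h1, h2⟩ := h
  exact T5Untw.srow hpp h4 h1 h2 hrow

theorem Redn.mrow (hpp : p.Prime) (h : Redn p F S) (hrow : MRow p (Matrix.ProjectiveSpecialLinearGroup (Fin 2) F)) :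
    MRow p S := by
  obtain ⟨h4, κ, h1, h2⟩ := h
  exact T5Untw.mrow hpp h4 h1 h2 hrow

end Row

section Inst

variable {p : ℕ} (hpp : p.Prime) (hp5 : 5 ≤ p) {F : Type} [Field F] [Fintype F]

theorem cop (hpp : p.Prime) (hp5 : 5 ≤ p) {d : ℕ} (h0 : 0 < d) (h5 : d < 5) : d.Coprime p :=
  (Nat.coprime_of_lt_prime (by omega) (by omega) hpp).symm

theorem card4 (hpp : p.Prime) (hp5 : 5 ≤ p) (hq : p ∣ Fintype.card F ^ 2 - 1) : 4 ≤ Fintype.card F :=
  card_ge hpp hp5 hq Fintype.one_lt_card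

theorem split (hpp : p.Prime) (hq : p ∣ Fintype.card F ^ 2 - 1) : p ∣ Fintype.card F - 1 ∨ p ∣ Fintype.card F + 1 := by
  have e1 : Fintype.card F ^ 2 - 1 = (Fintype.card F + 1) * (Fintype.card F - 1) := by
    rw [← Nat.sq_sub_sq, one_pow]
  rw [e1] at hq
  exact (hpp.dvd_mul.1 hq).symm

include hpp hp5

theorem e6 (hq : p ∣ Fintype.card F - 1) : Redn p F ↥(chevE6.group F) := by
  refine ⟨card4 hpp hp5 ?_, ph BpExc.RowsUntw.e6T F 1, fun C => phi_ker' _ 1 C, ?_⟩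
  · have e1 : Fintype.card F ^ 2 - 1 = (Fintype.card F + 1) * (Fintype.card F - 1) := by
      rw [← Nat.sq_sub_sq, one_pow]
    rw [e1]
    exact Dvd.dvd.mul_left hq _
  · exact red_untw BpExc.RowsUntw.e6T inv_E6 three_ne_zero symTwo_E6 (fun i j => (n6 i j).1) (fun i j => (n6 i j).2)
      (fun k _ _ => S1054.result chevE6 (by simp)) (S1054.result chevE6 (by simp)) hpp hp5
      (cop hpp hp5 (by norm_num) (by norm_num)) par6 (Or.inl hq)

theorem e7 (hq : p ∣ Fintype.card F ^ 2 - 1) : Redn p F ↥(chevE7.group F) := by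
  refine ⟨card4 hpp hp5 hq, ph BpExc.RowsUntw.e7T F 1, fun C => phi_ker' _ 1 C, ?_⟩
  exact red_untw BpExc.RowsUntw.e7T inv_E7 two_ne_zero symTwo_E7 (fun i j => (n7 i j).1) (fun i j => (n7 i j).2)
      (fun k _ _ => S1054.result chevE7 (by simp)) (S1054.result chevE7 (by simp)) hpp hp5
      (cop hpp hp5 (by norm_num) (by norm_num)) par7 ((split hpp hq).imp id fun h => ⟨h, A7, L7, frOK7⟩)

theorem e8 (hq : p ∣ Fintype.card F ^ 2 - 1) : Redn p F ↥(chevE8.group F) := by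
  refine ⟨card4 hpp hp5 hq, ph BpExc.RowsUntw.e8T F 1, fun C => phi_ker' _ 1 C, ?_⟩
  exact red_untw BpExc.RowsUntw.e8T inv_E8 one_ne_zero symTwo_E8 (fun i j => (n8 i j).1) (fun i j => (n8 i j).2)
      (fun k _ _ => S1054.result chevE8 (by simp)) (S1054.result chevE8 (by simp)) hpp hp5
      (cop hpp hp5 (by norm_num) (by norm_num)) par8 ((split hpp hq).imp id fun h => ⟨h, A8, L8, frOK8⟩)

end Inst

end Cfsg.Agent.H897.T5UntwRow
end

-- part: H897/T5Inn
section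
set_option linter.all false
open scoped Cfsg.Agent.FastGrp

/-!
# Pairs of elements of order `p` from a subgroup `K` (T5)

`RedI p K` : every element of order `p` has a conjugate normalising `K` and not centralising it.
-/

set_option autoImplicit false
set_option linter.unusedSectionVars false

namespace Cfsg.Agent.H897.T5Inn

open Subgroup Cfsg.Agent.H897.T5Sub Cfsg.Agent.H897.T5Untw
open Cfsg.Agent.H533.T5 Cfsg.Agent.H957.T5M
open Matrix (SpecialLinearGroup)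

section Abs

variable {S : Type*} [Group S] {p : ℕ}

/-- every element of order `p` has a conjugate normalising `K` and not centralising it -/
def RedI (p : ℕ) (K : Subgroup S) : Prop :=
  ∀ x : S, orderOf x = p → ∃ g : S, Moves K (MulAut.conj (g * x * g⁻¹))

theorem order_of_moves (hp : p.Prime) {K : Subgroup S} {x g : S} (hx : orderOf x = p)
    (h : Moves K (MulAut.conj (g * x * g⁻¹))) : orderOf (MulAut.conj (g * x * g⁻¹)) = p := by
  have : Fact p.Prime := ⟨hp⟩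
  refine orderOf_eq_prime ?_ fun h0 => ?_
  · rw [← map_pow, conj_pow, ← hx, pow_orderOf_eq_one, mul_one, mul_inv_cancel, map_one]
  · obtain ⟨-, y, -, hy⟩ := h
    exact hy (by rw [h0, MulAut.one_apply])

theorem range_le_map : (MulAut.conj : S →* MulAut S).range ≤ (⊤ : Subgroup S).map MulAut.conj := by
  rw [MonoidHom.range_eq_map]

theorem mpairs_of_redI (hp : p.Prime) {K : Subgroup S} (hK : commutator ↥K = ⊤) (hrow : MRow p (↥K ⧸ center ↥K))
    (h : RedI p K) (x y : S) (hx : orderOf x = p) (hy : orderOf y = p) : MPair p (⊤ : Subgroup S) x y := by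
  obtain ⟨g, hg⟩ := h x hx
  obtain ⟨g', hg'⟩ := h y hy
  have h1 := mpair_of_sub hp hK hrow (order_of_moves hp hx hg) (order_of_moves hp hy hg') hg.1 hg'.1 hg.2 hg'.2
  refine MPair.of_hom (MulAut.conj : S →* MulAut S) range_le_map ?_
  rw [map_mul, map_mul, map_mul, map_mul, map_inv, map_inv] at h1
  exact (MPair.conj_right (MonoidHom.mem_range.2 ⟨g', rfl⟩) h1).conj_left (MonoidHom.mem_range.2 ⟨g, rfl⟩)

theorem spairs_of_redI (hp : p.Prime) {K : Subgroup S} (hK : commutator ↥K = ⊤) (hrow : SRow p (↥K ⧸ center ↥K))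
    (h : RedI p K) (x y : S) (hx : orderOf x = p) (hy : orderOf y = p) : SPair p (⊤ : Subgroup S) x y := by
  obtain ⟨g, hg⟩ := h x hx
  obtain ⟨g', hg'⟩ := h y hy
  have h1 := spair_of_sub hp hK hrow (order_of_moves hp hx hg) (order_of_moves hp hy hg') hg.1 hg'.1 hg.2 hg'.2
  refine SPair.of_hom hp (MulAut.conj : S →* MulAut S) range_le_map ?_
  rw [map_mul, map_mul, map_mul, map_mul, map_inv, map_inv] at h1
  exact (SPair.conj_right (MonoidHom.mem_range.2 ⟨g', rfl⟩) h1).conj_left (MonoidHom.mem_range.2 ⟨g, rfl⟩)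

theorem mpairs_congr {T : Type*} [Group T] (e : S ≃* T)
    (h : ∀ x y : T, orderOf x = p → orderOf y = p → MPair p (⊤ : Subgroup T) x y) (x y : S) (hx : orderOf x = p)
    (hy : orderOf y = p) : MPair p (⊤ : Subgroup S) x y := by
  refine MPair.of_hom e.toMonoidHom (T := ⊤) (by
    rw [← MonoidHom.range_eq_map]
    intro z _
    exact ⟨e.symm z, e.apply_symm_apply z⟩) ?_
  exact h _ _ ((MulEquiv.orderOf_eq e x).trans hx) ((MulEquiv.orderOf_eq e y).trans hy)

theorem spairs_congr (hp : p.Prime) {T : Type*} [Group T] (e : S ≃* T)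
    (h : ∀ x y : T, orderOf x = p → orderOf y = p → SPair p (⊤ : Subgroup T) x y) (x y : S) (hx : orderOf x = p)
    (hy : orderOf y = p) : SPair p (⊤ : Subgroup S) x y := by
  refine SPair.of_hom hp e.toMonoidHom (T := ⊤) (by
    rw [← MonoidHom.range_eq_map]
    intro z _
    exact ⟨e.symm z, e.apply_symm_apply z⟩) ?_
  exact h _ _ ((MulEquiv.orderOf_eq e x).trans hx) ((MulEquiv.orderOf_eq e y).trans hy)

end Abs

/-- the inner part of `S` is reduced to a quotient of `SL₂(F)` -/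
def Redi (p : ℕ) (F : Type) [Field F] [Fintype F] (S : Type*) [Group S] : Prop :=
  4 ≤ Fintype.card F ∧ ∃ κ : SpecialLinearGroup (Fin 2) F →* S,
    (∀ C, κ C = 1 → C ∈ Subgroup.center (SpecialLinearGroup (Fin 2) F)) ∧ RedI p κ.range

section Row

variable {p : ℕ} {F : Type} [Field F] [Fintype F] {S : Type*} [Group S]

theorem exists_equivI (h4 : 4 ≤ Fintype.card F) {κ : SpecialLinearGroup (Fin 2) F →* S}
    (hker : ∀ C, κ C = 1 → C ∈ Subgroup.center (SpecialLinearGroup (Fin 2) F)) :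
    Nonempty ((SpecialLinearGroup (Fin 2) F ⧸ Subgroup.center (SpecialLinearGroup (Fin 2) F)) ≃*
    (↥κ.range ⧸ Subgroup.center ↥κ.range)) :=
  exists_quoEquiv (H596.OneCtx.perfect_SL h4) (f := κ.rangeRestrict) κ.rangeRestrict_surjective (by
    intro C hC
    refine hker C ?_
    have h1 : κ.rangeRestrict C = 1 := hC
    exact congrArg Subtype.val h1)

theorem Redi.mpairs (hpp : p.Prime) (h : Redi p F S) (hrow : MRow p (Matrix.ProjectiveSpecialLinearGroup (Fin 2) F)) :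
    ∀ x y : S, orderOf x = p → orderOf y = p → MPair p (⊤ : Subgroup S) x y := by
  obtain ⟨h4, κ, h1, h2⟩ := h
  obtain ⟨e⟩ := exists_equivI h4 h1
  exact mpairs_of_redI hpp (T5Untw.comm_range h4) (MRow.congr e hrow) h2

theorem Redi.spairs (hpp : p.Prime) (h : Redi p F S) (hrow : SRow p (Matrix.ProjectiveSpecialLinearGroup (Fin 2) F)) :
    ∀ x y : S, orderOf x = p → orderOf y = p → SPair p (⊤ : Subgroup S) x y := by
  obtain ⟨h4, κ, h1, h2⟩ := h
  obtain ⟨e⟩ := exists_equivI h4 h1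
  exact spairs_of_redI hpp (T5Untw.comm_range h4) (SRow.congr e hrow) h2

end Row

end Cfsg.Agent.H897.T5Inn
end
end
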