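import Cfsg.Agent.H897.Cen
import Cfsg.Agent.S1070
import Cfsg.Agent.BabyU.CentT1
import Mathlib
set_option linter.all false

-- part: H897/Orb
section
/-!
# Elementary abelian 2-groups of fixed points, from orbits of commuting roots (S5740)
-/

set_option autoImplicit false
set_option linter.unusedSectionVars false

namespace Cfsg.Agent.H897.Orb

open CoxeterSystem Cfsg Cfsg.Lie Cfsg.Agent.ChevalleyStructure Cfsg.Agent.ChevalleyStructure.Elts
  Cfsg.Agent.ChevalleyStructure.CoxeterGeom Cfsg.Agent.ChevalleyStructure.CoxeterGeomTypes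
  Cfsg.Agent.ChevalleyStructure.NPerm Cfsg.Agent.Tits.Roots
  Cfsg.Agent.Tits.Core Cfsg.Agent.Nodes.Reps Cfsg.Agent.Nodes.Bruhat Cfsg.Agent.Nodes.OppDec
  Cfsg.Agent.Nodes.NormalForm Cfsg.Agent.Nodes.SubComb
  Cfsg.Agent.Nodes.BNOf Cfsg.Agent.Nodes.RGDChev Cfsg.Agent.KFacts.RgdField Cfsg.Agent.KFacts.RgdChevCoord
  Cfsg.Agent.LangThm Cfsg.Agent.BpExc.Fr Cfsg.Agent.BpExc.LangFr Cfsg.Agent.BpExc.Tow Cfsg.Agent.BpExc.TowChev
  Cfsg.Agent.BpExc.TorCent Cfsg.Agent.H897.Lat Cfsg.Agent.H897.Sg Cfsg.Agent.H897.Tor Cfsg.Agent.H897.Cen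

universe u v

section Count

open Polynomial

theorem card_fix {k : Type u} [Field k] [CharP k 2] [IsAlgClosed k] {m : ℕ} (hm : 0 < m) :
    Nat.card {x : k // x ^ 2 ^ m = x} = 2 ^ m := by
  classical
  have hsep : (X ^ 2 ^ m - X : k[X]).Separable := galois_poly_separable 2 (2 ^ m) (dvd_pow_self 2 hm.ne')
  have h2 : 1 < 2 ^ m := Nat.one_lt_two_pow hm.ne'
  have hdeg : (X ^ 2 ^ m - X : k[X]).natDegree = 2 ^ m := FiniteField.X_pow_card_sub_X_natDegree_eq k h2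
  have hne : (X ^ 2 ^ m - X : k[X]) ≠ 0 := FiniteField.X_pow_card_sub_X_ne_zero k h2
  have h1 := card_rootSet_eq_natDegree (K := k) hsep (IsAlgClosed.splits_domain _)
  rw [hdeg] at h1
  refine Eq.trans ?_ h1
  rw [← Nat.card_eq_fintype_card]
  refine Nat.card_congr (Equiv.subtypeEquivRight fun x => ?_)
  rw [mem_rootSet]
  rw [map_sub, map_pow, aeval_X, sub_eq_zero]
  exact ⟨fun h => ⟨hne, h⟩, fun h => h.2⟩

theorem card_sol {k : Type u} [Field k] [CharP k 2] [IsAlgClosed k] {m : ℕ} (hm : 0 < m) {C : k} (hC : C ≠ 0) :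
    Nat.card {s : k // C * s ^ 2 ^ m = s} = 2 ^ m := by
  have h2 : 1 < 2 ^ m := Nat.one_lt_two_pow hm.ne'
  obtain ⟨s0, hs0⟩ : ∃ s0 : k, s0 ^ (2 ^ m - 1) = C⁻¹ := IsAlgClosed.exists_pow_nat_eq _ (by omega)
  have hne : s0 ≠ 0 := by
    rintro rfl
    rw [zero_pow (by omega)] at hs0
    exact inv_ne_zero hC hs0.symm
  have h3 : C * s0 ^ 2 ^ m = s0 := by
    have h4 : s0 ^ 2 ^ m = s0 ^ (2 ^ m - 1) * s0 := by rw [← pow_succ]; congr 1; omega
    rw [h4, hs0, mul_inv_cancel_left₀ hC]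
  refine (Nat.card_congr (Equiv.subtypeEquiv (Equiv.mulLeft₀ s0 hne) fun x => ?_)).symm.trans (card_fix (k := k) hm)
  show x ^ 2 ^ m = x ↔ C * (s0 * x) ^ 2 ^ m = s0 * x
  rw [mul_pow, ← mul_assoc, h3]
  exact ⟨fun h => by rw [h], fun h => mul_left_cancel₀ hne h⟩

end Count

variable {k : Type u} [Field k] (hk : LocFin k) [CharP k 2] [IsAlgClosed k]

include hk in
/-- products of reflections in roots of `S` are represented in `⟨X_a : a ∈ S⟩` -/
theorem exists_rep {S : Set V} (hS : ∀ a ∈ S, a ∈ rootList) (hneg : ∀ a ∈ S, -a ∈ S) (l : List V)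
    (hl : ∀ a ∈ l, a ∈ S) : ∃ w : CoxeterMatrix.E₆.Group, (∀ x, rep cs0 hp.isCartan w x = actR l x) ∧
      ∃ n ∈ RGD.Sup (XL (Xj hp (k := k))) S, Rp cs0 (tw cs0 hk).nsys w n := by
  induction l with
  | nil => exact ⟨1, fun x => by rw [map_one]; rfl, 1, one_mem _, rp_one⟩
  | cons a l ih =>
    obtain ⟨w, hw, n, hn, hn'⟩ := ih fun b hb => hl b (List.mem_cons_of_mem _ hb)
    have ha := hl a List.mem_cons_self
    obtain ⟨u, i, hu, m, hm, hm'⟩ := exists_rfl_Sup (tw cs0 hk) (co cs0 hk) (S := S) ((root0 a).2 (hS a ha)) ha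
      (hneg a ha)
    refine ⟨rfl' cs0 u i * w, fun x => ?_, m * n, mul_mem hm hn, hm'.mul hn'⟩
    rw [rep_mul_apply, rep_rfl_eq, ← hu, hw]
    rfl

section Orbit

variable {τ : MulAut ↥(chevE6.group k)} {g : V ≃+ V}

/-- the iterates of a root element -/
noncomputable def xs (τ : MulAut ↥(chevE6.group k)) (b : V) (i : ℕ) (s : k) : ↥(chevE6.group k) :=
  (τ ^ i) (xc hp b s)

/-- the product of the iterates `1, …, i` -/
noncomputable def qs (τ : MulAut ↥(chevE6.group k)) (b : V) : ℕ → k → ↥(chevE6.group k)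
  | 0, _ => 1
  | i + 1, s => qs τ b i s * xs τ b (i + 1) s

include hk in
theorem xs_eq (F : SFr cs0 τ g) {b : V} (hb : b ∈ rootList) (i : ℕ) :
    g^[i] b ∈ rootList ∧ ∃ c : k, c ≠ 0 ∧ ∀ s, xs τ b i s = xc hp (g^[i] b) (c * s ^ 2 ^ i) := by
  induction i with
  | zero => exact ⟨hb, 1, one_ne_zero, fun s => by rw [one_mul, pow_zero, pow_one]; rfl⟩
  | succ i ih =>
    obtain ⟨h1, c, hc, h2⟩ := ih
    rw [Function.iterate_succ_apply']
    obtain ⟨d, hd, h3⟩ := F.semi _ ((root0 _).2 h1)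
    refine ⟨(root0 _).1 ((F.fr.root _).2 ((root0 _).2 h1)), d * c ^ 2, mul_ne_zero hd (pow_ne_zero _ hc), fun s => ?_⟩
    have h4 : xs τ b (i + 1) s = τ (xs τ b i s) := by unfold xs; rw [pow_succ']; rfl
    rw [h4, h2, h3, mul_pow, ← pow_mul, ← pow_succ, mul_assoc]

include hk in
/-- **Fixed points from an orbit of commuting roots**, `τ` itself. -/
theorem exists_fix (F : SFr cs0 τ g) {S : Set V} (hS : ∀ a ∈ S, a ∈ rootList) {b : V} {m : ℕ} (hm : 0 < m)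
    (hbS : ∀ i < m, g^[i] b ∈ S) (hmb : g^[m] b = b)
    (hcom : ∀ i < m, ∀ j < m, 0 ≤ bil (g^[i] b) (g^[j] b)) {c : V} (hc0 : ¬ (3 : ℤ) ∣ dot c b)
    (hc : ∀ i < m, 0 < i → (3 : ℤ) ∣ dot c (g^[i] b)) :
    ∃ E : Subgroup ↥(chevE6.group k), E ≤ RGD.Sup (XL (Xj hp)) S ∧ (∀ u ∈ E, τ u = u) ∧ (∀ u ∈ E, u ^ 2 = 1) ∧
      Nat.card E = 2 ^ m := by
  obtain ⟨m, rfl⟩ : ∃ m', m = m' + 1 := ⟨m - 1, by omega⟩
  have hb : b ∈ rootList := hS b (by simpa using hbS 0 hm)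
  -- the abelian group
  obtain ⟨S1, hS1⟩ : ∃ S1 : Set V, S1 = {a | ∃ i < m + 1, a = g^[i] b} := ⟨_, rfl⟩
  have hS1S : S1 ⊆ S := by
    rw [hS1]
    rintro _ ⟨i, hi, rfl⟩
    exact hbS i hi
  have hcomm : ∀ y ∈ RGD.Sup (XL (Xj hp (k := k))) S1, ∀ z ∈ RGD.Sup (XL (Xj hp (k := k))) S1, y * z = z * y := by
    intro y hy z hz
    refine comm_Sup hk (fun a ha => hS a (hS1S ha)) (fun a ha => hS a (hS1S ha)) ?_ hy hz
    rw [hS1]
    rintro _ ⟨i, hi, rfl⟩ _ ⟨j, hj, rfl⟩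
    exact hcom i hi j hj
  have hxS : ∀ i < m + 1, ∀ s, xs τ b i s ∈ RGD.Sup (XL (Xj hp (k := k))) S1 := by
    intro i hi s
    obtain ⟨h1, c, -, h2⟩ := xs_eq hk F hb i
    exact RGD.le_Sup (X := XL (Xj hp (k := k))) (S := S1) (show g^[i] b ∈ S1 by rw [hS1]; exact ⟨i, hi, rfl⟩)
      ((mem_X hk h1).2 ⟨_, (h2 s).symm⟩)
  have hqS : ∀ i < m + 1, ∀ s, qs τ b i s ∈ RGD.Sup (XL (Xj hp (k := k))) S1 := by
    intro i
    induction i with
    | zero => intro _ s; exact one_mem _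
    | succ i ih => intro hi s; exact mul_mem (ih (by omega) s) (hxS _ hi s)
  have hxadd : ∀ i s s', xs τ b i (s + s') = xs τ b i s * xs τ b i s' := by
    intro i s s'
    unfold xs
    rw [← map_mul, ((co cs0 hk).coord b ((root0 b).2 hb)).add]
  have hqadd : ∀ i < m + 1, ∀ s s', qs τ b i (s + s') = qs τ b i s * qs τ b i s' := by
    intro i
    induction i with
    | zero => intro _ s s'; exact (mul_one 1).symm
    | succ i ih =>
      intro hi s s'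
      have h1 := hcomm _ (hxS _ hi s) _ (hqS i (by omega) s')
      show qs τ b i (s + s') * xs τ b (i + 1) (s + s') =
        qs τ b i s * xs τ b (i + 1) s * (qs τ b i s' * xs τ b (i + 1) s')
      rw [ih (by omega), hxadd]
      calc qs τ b i s * qs τ b i s' * (xs τ b (i + 1) s * xs τ b (i + 1) s')
          = qs τ b i s * (qs τ b i s' * xs τ b (i + 1) s) * xs τ b (i + 1) s' := by group
        _ = qs τ b i s * (xs τ b (i + 1) s * qs τ b i s') * xs τ b (i + 1) s' := by rw [h1]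
        _ = _ := by group
  have hτq : ∀ i s, xs τ b 1 s * τ (qs τ b i s) = qs τ b (i + 1) s := by
    intro i s
    induction i with
    | zero =>
      show xs τ b 1 s * τ 1 = 1 * xs τ b (0 + 1) s
      rw [map_one, mul_one, one_mul]
    | succ i ih =>
      show xs τ b 1 s * τ (qs τ b i s * xs τ b (i + 1) s) = qs τ b (i + 1) s * xs τ b (i + 1 + 1) s
      have h4 : xs τ b (i + 1 + 1) s = τ (xs τ b (i + 1) s) := by unfold xs; rw [pow_succ' _ (i + 1)]; rfl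
      rw [map_mul, ← mul_assoc, ih, h4]
  -- the closing condition
  obtain ⟨-, C, hC, hCm⟩ := xs_eq hk F hb (m + 1)
  rw [hmb] at hCm
  have hfix : ∀ s : k, C * s ^ 2 ^ (m + 1) = s → τ (xs τ b 0 s * qs τ b m s) = xs τ b 0 s * qs τ b m s := by
    intro s hs
    have h4 : xs τ b 1 s = τ (xs τ b 0 s) := rfl
    rw [map_mul, ← h4, hτq]
    show qs τ b m s * xs τ b (m + 1) s = _
    have h5 : xs τ b (m + 1) s = xs τ b 0 s := by rw [hCm, hs]; rfl
    rw [h5]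
    exact hcomm _ (hqS m (by omega) s) _ (hxS 0 hm s)
  have hinj : ∀ s : k, xs τ b 0 s * qs τ b m s = 1 → s = 0 := by
    intro s hs
    obtain ⟨ω, hω⟩ : ∃ ω : k, IsPrimitiveRoot ω 3 := by
      have h3 : NeZero ((3 : ℕ) : k) := ⟨by
        intro h
        have := (CharP.cast_eq_zero_iff k 2 3).1 h
        omega⟩
      exact HasEnoughRootsOfUnity.exists_primitiveRoot k 3
    have hω0 : ω ≠ 0 := hω.ne_zero (by norm_num)
    obtain ⟨ht, -⟩ := tz_spec hω0 c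
    have hx : ∀ i < m + 1, 0 < i → ∀ s, tz ω c * xs τ b i s * (tz ω c)⁻¹ = xs τ b i s := by
      intro i hi h0 s
      obtain ⟨h1, d, -, h2⟩ := xs_eq hk F hb i
      rw [h2, ((coordsL hp cs0 hk 2).coord _ ((root0 _).2 h1)).act _ ht, ch_tz hk hω0 c h1,
        (hω.zpow_eq_one_iff_dvd _).2 (hc i hi h0), one_mul]
    have hq : ∀ i < m + 1, tz ω c * qs τ b i s * (tz ω c)⁻¹ = qs τ b i s := by
      intro i
      induction i with
      | zero => intro _; show tz ω c * 1 * (tz ω c)⁻¹ = 1; rw [mul_one, mul_inv_cancel]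
      | succ i ih =>
        intro hi
        have h1 := ih (by omega)
        have h2 := hx (i + 1) hi (by omega) s
        show tz ω c * (qs τ b i s * xs τ b (i + 1) s) * (tz ω c)⁻¹ = qs τ b i s * xs τ b (i + 1) s
        conv_rhs => rw [← h1, ← h2]
        group
    have h0 : xs τ b 0 s = xc hp b s := rfl
    have h1 : tz ω c * xc hp b s * (tz ω c)⁻¹ = xc hp b (ω ^ dot c b * s) := by
      rw [((coordsL hp cs0 hk 2).coord _ ((root0 _).2 hb)).act _ ht, ch_tz hk hω0 c hb]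
    have h2 : tz ω c * (xs τ b 0 s * qs τ b m s) * (tz ω c)⁻¹ =
        (tz ω c * xc hp b s * (tz ω c)⁻¹) * (tz ω c * qs τ b m s * (tz ω c)⁻¹) := by
      rw [h0]; group
    rw [h1, hq m (by omega), hs, mul_one, mul_inv_cancel, ← hs, h0] at h2
    have h3 := ((coordsL hp cs0 hk 2).coord b ((root0 _).2 hb)).inj (mul_right_cancel h2)
    by_contra hs0
    have h4 : ω ^ dot c b = 1 := (mul_eq_right₀ hs0).1 h3.symm
    exact hc0 ((hω.zpow_eq_one_iff_dvd _).1 h4)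
  have hadd : ∀ s s' : k, xs τ b 0 (s + s') * qs τ b m (s + s') =
      (xs τ b 0 s * qs τ b m s) * (xs τ b 0 s' * qs τ b m s') := by
    intro s s'
    have h1 := hcomm _ (hxS 0 hm s') _ (hqS m (by omega) s)
    rw [hxadd, hqadd m (by omega)]
    calc xs τ b 0 s * xs τ b 0 s' * (qs τ b m s * qs τ b m s')
        = xs τ b 0 s * (xs τ b 0 s' * qs τ b m s) * qs τ b m s' := by group
      _ = xs τ b 0 s * (qs τ b m s * xs τ b 0 s') * qs τ b m s' := by rw [h1]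
      _ = _ := by group
  have hzero : xs τ b 0 (0 : k) * qs τ b m 0 = 1 := by
    have := hadd 0 0
    rw [add_zero, left_eq_mul] at this
    exact this
  have hself : ∀ s : k, (xs τ b 0 s * qs τ b m s) * (xs τ b 0 s * qs τ b m s) = 1 := by
    intro s
    rw [← hadd, CharTwo.add_self_eq_zero, hzero]
  have hinj' : Function.Injective fun s : k => xs τ b 0 s * qs τ b m s := by
    intro s s' h
    have h1 : xs τ b 0 s * qs τ b m s = xs τ b 0 s' * qs τ b m s' := h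
    have h2 := hadd s s'
    rw [h1, hself] at h2
    have h3 := hinj _ h2
    exact CharTwo.add_eq_zero.1 h3
  let E : Subgroup ↥(chevE6.group k) :=
    { carrier := {u | ∃ s : k, C * s ^ 2 ^ (m + 1) = s ∧ u = xs τ b 0 s * qs τ b m s}
      one_mem' := ⟨0, by rw [zero_pow (by positivity), mul_zero], hzero.symm⟩
      mul_mem' := by
        rintro _ _ ⟨s, hs, rfl⟩ ⟨s', hs', rfl⟩
        refine ⟨s + s', ?_, (hadd s s').symm⟩
        rw [add_pow_char_pow, mul_add, hs, hs']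
      inv_mem' := by
        rintro _ ⟨s, hs, rfl⟩
        exact ⟨s, hs, inv_eq_of_mul_eq_one_left (hself s)⟩ }
  refine ⟨E, ?_, ?_, ?_, ?_⟩
  · rintro _ ⟨s, -, rfl⟩
    have h1 : RGD.Sup (XL (Xj hp (k := k))) S1 ≤ RGD.Sup (XL (Xj hp)) S := RGD.Sup_mono hS1S
    exact h1 (mul_mem (hxS 0 hm s) (hqS m (by omega) s))
  · rintro _ ⟨s, hs, rfl⟩
    exact hfix s hs
  · rintro _ ⟨s, -, rfl⟩
    rw [sq]
    exact hself s
  · rw [← card_sol (k := k) (m := m + 1) (by omega) hC]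
    refine Nat.card_congr (Equiv.ofBijective (fun s : {s : k // C * s ^ 2 ^ (m + 1) = s} =>
      (⟨xs τ b 0 s.1 * qs τ b m s.1, s.1, s.2, rfl⟩ : E)) ⟨?_, ?_⟩).symm
    · intro s s' h
      exact Subtype.ext (hinj' (congrArg Subtype.val h))
    · rintro ⟨_, s, hs, rfl⟩
      exact ⟨⟨s, hs⟩, rfl⟩

end Orbit

end Cfsg.Agent.H897.Orb
end

-- part: H897/Emb
section
/-!
# `²E₆(2)` in `E₆(k)` (S5740)
-/

set_option autoImplicit false
set_option linter.unusedSectionVars false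

namespace Cfsg.Agent.H897.Emb

open CoxeterSystem Cfsg Cfsg.Lie Cfsg.Agent.ChevalleyStructure Cfsg.Agent.ChevalleyStructure.Elts
  Cfsg.Agent.ChevalleyStructure.CoxeterGeom Cfsg.Agent.ChevalleyStructure.CoxeterGeomTypes
  Cfsg.Agent.Tits.Roots
  Cfsg.Agent.Tits.Core Cfsg.Agent.Nodes.Reps
  Cfsg.Agent.Nodes.BNOf Cfsg.Agent.Nodes.RGDChev Cfsg.Agent.KFacts.RgdField Cfsg.Agent.KFacts.RgdChevCoord
  Cfsg.Agent.BpExc.Tow Cfsg.Agent.BpExc.TowChev
  Cfsg.Agent.BpExc.TorCent Cfsg.Agent.H897.Lat Cfsg.Agent.H897.Sg Cfsg.Agent.H897.Tor Cfsg.Agent.H897.Cen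
open Cfsg.Agent.BpExc.FamTw.Six (em coe_em em_injective sig_em)
open Cfsg.Agent.ChevalleyStructure.TwE6Basic (exists_frob)
open Cfsg.Agent.GpExc.Field (glMap coe_glMap)

universe u v

variable {K : Type u} [Field K] [Fintype K] (hK : Fintype.card K = 4) {k : Type v} [Field k] [CharP k 2]
  [IsAlgClosed k] (hk : LocFin k) (f : K →+* k)

include hK in
theorem card_eq_sq : Fintype.card K = 2 ^ 2 := by rw [hK]; norm_num

include hK in
theorem sg_em (g : ↥(twistedE6 K 2)) : sg k (em 2 f g) = em 2 f g := by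
  obtain ⟨φ, hφ, hqq⟩ := exists_frob Nat.prime_two.isPrimePow (card_eq_sq hK)
  exact sig_em hφ hqq f (Φ := frobeniusEquiv k 2) (fun a => by
    rw [frobeniusEquiv_apply, frobenius_def, hφ, map_pow]) g

include hK in
theorem eq_one_of_comm (z : ↥(chevE6.group k)) (hz : ∀ g : ↥(twistedE6 K 2), z * em 2 f g = em 2 f g * z) :
    z = 1 := by
  obtain ⟨φ, hφ, hqq⟩ := exists_frob Nat.prime_two.isPrimePow (card_eq_sq hK)
  exact Cfsg.Agent.H897.Six.eq_one_of_comm hφ hqq f z hz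

theorem sg_coe {y : ↥(chevE6.group k)} (hy : sg k y = y) :
    Cfsg.Agent.ChevalleyStructure.TwE6Basic.sg (frobenius k 2) (y : GL chevE6.Idx k) = (y : GL chevE6.Idx k) :=
  congrArg Subtype.val hy

theorem pm_sr_mem (i : Fin 6) : pm (sr i) ∈ rootList := by
  revert i; decide +kernel

include hk in
/-- an element of the torus fixed by `σ` has exponent 3 -/
theorem cube_eq_one {t : ↥(chevE6.group k)} (ht : t ∈ TT chevE6 k) (hσ : sg k t = t) : t ^ 3 = 1 := by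
  have F := sg_sfr (k := k) cs0 hk
  refine eq_of_ch (pow_mem ht 3) (one_mem _) fun i => ?_
  rw [ch_pow hk ht (isRoot_sr' i), ch_one hk (isRoot_sr' i)]
  have h1 := ch_tau hk F ht (isRoot_sr' i)
  rw [hσ, pm_eq] at h1
  have hi : pm (sr i) ∈ rootList := pm_sr_mem i
  have h2 := ch_tau hk F ht hi
  rw [hσ, pm_eq] at h2
  have h3 : pm (pm (sr i)) = sr i := by
    funext j; fin_cases j <;> rfl
  rw [h3, h1, ← pow_mul] at h2
  have hne := ((coordsL hp cs0 hk 2).coord _ ((root0 _).2 (isRoot_sr' i))).chi_ne_zero ht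
  have h4 : ch hp (sr i) t * ch hp (sr i) t ^ 3 = ch hp (sr i) t * 1 := by
    rw [mul_one, ← pow_succ']
    exact h2.symm
  exact mul_left_cancel₀ hne h4

include hK in
theorem mem_normalizer {y : ↥(chevE6.group k)} (hy : sg k y = y) :
    y ∈ Subgroup.normalizer ((em (K := K) 2 f).range : Set ↥(chevE6.group k)) := by
  have h := Cfsg.Agent.BpExc.EmbInst.twE6_normalizer (f := f) Nat.prime_two.isPrimePow (card_eq_sq hK)
    (φ := frobenius k 2) (fun t => frobenius_def 2 t) y.2 (sg_coe hy)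
  rw [Subgroup.mem_normalizer_iff] at h ⊢
  have key : ∀ z : ↥(chevE6.group k), z ∈ (em (K := K) 2 f).range ↔
      (z : GL chevE6.Idx k) ∈ (twistedE6 K 2).map (glMap chevE6 f) := by
    intro z
    constructor
    · rintro ⟨g, rfl⟩
      exact ⟨g, g.2, rfl⟩
    · rintro ⟨g, hg, e⟩
      exact ⟨⟨g, hg⟩, Subtype.ext e⟩
  intro z
  rw [key, key]
  exact h z

include hK in
theorem exists_split {y : ↥(chevE6.group k)} (hy : sg k y = y) :
    ∃ g : ↥(twistedE6 K 2), ∃ t ∈ TT chevE6 k, y = em 2 f g * t := by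
  obtain ⟨x, hx, t, ht, e⟩ := Cfsg.Agent.BpExc.EmbInst.twE6_split (f := f) Nat.prime_two.isPrimePow (card_eq_sq hK)
    (φ := frobenius k 2) (fun t => frobenius_def 2 t) y.2 (sg_coe hy)
  exact ⟨⟨x, hx⟩, ⟨t, diagonal_le_group hp.inList k ht⟩, ht, Subtype.ext e⟩

include hK hk in
/-- the cubes of the fixed points lie in `²E₆(2)` -/
theorem cube_mem {y : ↥(chevE6.group k)} (hy : sg k y = y) : y ^ 3 ∈ (em (K := K) 2 f).range := by
  obtain ⟨g, t, ht, e⟩ := exists_split hK f hy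
  have hσt : sg k t = t := by
    have h1 : t = (em 2 f g)⁻¹ * y := by rw [e]; group
    rw [h1, map_mul, map_inv, sg_em hK, hy]
  have hn := mem_normalizer hK f hσt
  have h3 := cube_eq_one hk ht hσt
  have h4 : y ^ 3 = em 2 f g * (t * em 2 f g * t⁻¹) * (t * (t * em 2 f g * t⁻¹) * t⁻¹) * t ^ 3 := by
    rw [e]
    simp only [pow_succ, pow_zero, one_mul]
    group
  rw [h4, h3, mul_one]
  have hg : em 2 f g ∈ (em (K := K) 2 f).range := ⟨g, rfl⟩
  have h5 := (Subgroup.mem_normalizer_iff.1 hn _).1 hg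
  exact mul_mem (mul_mem hg h5) ((Subgroup.mem_normalizer_iff.1 hn _).1 h5)

include hK hk in
/-- fixed points of finite order prime to 3 lie in `²E₆(2)` -/
theorem mem_range {y : ↥(chevE6.group k)} (hy : sg k y = y) {n : ℕ} (hn : n.Coprime 3) (hyn : y ^ n = 1) :
    y ∈ (em (K := K) 2 f).range := by
  have h1 := cube_mem hK hk f hy
  have h2 : (Int.gcd 3 n : ℤ) = 1 := by
    rw [Int.gcd_comm]
    exact_mod_cast hn
  have h3 := Int.gcd_eq_gcd_ab 3 n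
  rw [h2] at h3
  have h4 : y = (y ^ 3) ^ (Int.gcdA 3 n) := by
    conv_lhs => rw [← zpow_one y, h3, zpow_add, zpow_mul, zpow_mul, zpow_natCast, hyn, one_zpow, mul_one]
    norm_cast
  rw [h4]
  exact Subgroup.zpow_mem _ h1 _

end Cfsg.Agent.H897.Emb
end

-- part: H897/Abs
section
/-!
# Abstract group theory for S5740
-/

set_option autoImplicit false

namespace Cfsg.Agent.H897.Abs

open scoped commutatorElement

section Act

variable {Y : Type*} [Group Y]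

/-- an involution normalising a group of prime order centralises or inverts it -/
theorem fix_or_inv {p : ℕ} (hp : p.Prime) {x u : Y} (hx : orderOf x = p) (hu : u ^ 2 = 1)
    (hn : u * x * u⁻¹ ∈ Subgroup.zpowers x) : u * x * u⁻¹ = x ∨ u * x * u⁻¹ = x⁻¹ := by
  obtain ⟨m, hm⟩ := hn
  have hm' : x ^ m = u * x * u⁻¹ := hm
  have huu : u * u = 1 := by rw [← sq, hu]
  have hui : u⁻¹ = u := inv_eq_of_mul_eq_one_left huu
  have h1 : x ^ (m * m) = x := by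
    rw [zpow_mul, hm', conj_zpow, hm']
    calc u * (u * x * u⁻¹) * u⁻¹ = (u * u) * x * (u * u)⁻¹ := by group
      _ = x := by rw [huu]; group
  have h2 : (p : ℤ) ∣ m * m - 1 := by
    rw [← hx, orderOf_dvd_iff_zpow_eq_one, zpow_sub, h1, zpow_one, mul_inv_cancel]
  have h3 : m * m - 1 = (m - 1) * (m + 1) := by ring
  rw [h3] at h2
  rcases (Nat.prime_iff_prime_int.1 hp).dvd_or_dvd h2 with h4 | h4
  · left
    rw [← hx, orderOf_dvd_iff_zpow_eq_one, zpow_sub, zpow_one, mul_inv_eq_one] at h4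
    rw [← hm', h4]
  · right
    rw [← hx, orderOf_dvd_iff_zpow_eq_one, zpow_add, zpow_one] at h4
    rw [← hm', eq_inv_of_mul_eq_one_left h4]

/-- two involutions which both centralise or both invert -/
theorem prod_cent {x u v : Y} (h1 : u * x * u⁻¹ = x ∨ u * x * u⁻¹ = x⁻¹)
    (h2 : v * x * v⁻¹ = x ∨ v * x * v⁻¹ = x⁻¹) (h : u * x * u⁻¹ = x ↔ v * x * v⁻¹ = x) : u * v * x = x * (u * v) := by
  have key : u * v * x * (u * v)⁻¹ = x := by
    have e : u * v * x * (u * v)⁻¹ = u * (v * x * v⁻¹) * u⁻¹ := by group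
    rw [e]
    rcases h2 with h2 | h2
    · rw [h2, h.2 h2]
    · rcases h1 with h1 | h1
      · rw [h.1 h1, h1]
      · rw [h2]
        have : u * x⁻¹ * u⁻¹ = (u * x * u⁻¹)⁻¹ := by group
        rw [this, h1, inv_inv]
  exact mul_inv_eq_iff_eq_mul.1 key

theorem exists_cent_prime {p : ℕ} (hp : p.Prime) {x : Y} (hx : orderOf x = p) {D : Subgroup Y}
    (hD2 : ∀ u ∈ D, u ^ 2 = 1) (hcard : 2 < Nat.card D) (hn : ∀ u ∈ D, u * x * u⁻¹ ∈ Subgroup.zpowers x) :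
    ∃ u ∈ D, u ≠ 1 ∧ u * x = x * u := by
  classical
  have hfin : Finite D := Nat.finite_of_card_ne_zero (by omega)
  have := Fintype.ofFinite D
  obtain ⟨u, v, huv, h⟩ := Fintype.exists_ne_map_eq_of_card_lt
    (fun u : D => decide ((u : Y) * x * (u : Y)⁻¹ = x)) (by
      rw [Fintype.card_bool, ← Nat.card_eq_fintype_card]
      exact hcard)
  have h1 : (u : Y) * x * (u : Y)⁻¹ = x ↔ (v : Y) * x * (v : Y)⁻¹ = x := by simpa using h
  refine ⟨u * v, D.mul_mem u.2 v.2, fun h2 => huv ?_, prod_cent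
    (fix_or_inv hp hx (hD2 u u.2) (hn u u.2)) (fix_or_inv hp hx (hD2 v v.2) (hn v v.2)) h1⟩
  have h3 : (v : Y)⁻¹ = v := inv_eq_of_mul_eq_one_left (by rw [← sq, hD2 v v.2])
  apply Subtype.ext
  rw [eq_inv_of_mul_eq_one_left h2, h3]

theorem eq_zpowers {Q R : Subgroup Y} (hQ : Nat.card Q = 49) (hexp : ∀ x ∈ Q, x ^ 7 = 1) (hR : R ≤ Q) (hne : R ≠ Q)
    {x : Y} (hx : x ∈ R) (hx1 : x ≠ 1) : R = Subgroup.zpowers x := by
  have h7 : Fact (Nat.Prime 7) := ⟨by norm_num⟩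
  have hfin : Finite Q := Nat.finite_of_card_ne_zero (by omega)
  have hfR : Finite R := Finite.Set.subset (Q : Set Y) hR
  have h1 : Nat.card R ∣ 7 ^ 2 := by
    have := Subgroup.card_dvd_of_le hR
    rwa [hQ] at this
  obtain ⟨j, hj, hjR⟩ := (Nat.dvd_prime_pow (by norm_num : Nat.Prime 7)).1 h1
  have hox : orderOf x = 7 := orderOf_eq_prime (hexp x (hR hx)) hx1
  have hle : Subgroup.zpowers x ≤ R := by rwa [Subgroup.zpowers_le]
  have hcz : Nat.card (Subgroup.zpowers x) = 7 := by rw [Nat.card_zpowers, hox]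
  have h2 := Nat.card_le_card_of_injective _ (Subgroup.inclusion_injective hle)
  interval_cases j
  · rw [hjR, hcz] at h2; omega
  · symm
    apply Subgroup.eq_of_le_of_card_ge hle
    rw [hcz, hjR]; norm_num
  · exfalso
    apply hne
    apply Subgroup.eq_of_le_of_card_ge hR
    rw [hQ, hjR]; norm_num

theorem closure_eq {Q : Subgroup Y} (hQ : Nat.card Q = 49) (hexp : ∀ x ∈ Q, x ^ 7 = 1) {x y : Y} (hx : x ∈ Q)
    (hy : y ∈ Q) (hx1 : x ≠ 1) (hxy : y ∉ Subgroup.zpowers x) : Subgroup.closure {x, y} = Q := by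
  by_contra hne
  have hle : Subgroup.closure {x, y} ≤ Q := by
    rw [Subgroup.closure_le]
    rintro z (rfl | rfl)
    · exact hx
    · exact hy
  have h1 := eq_zpowers hQ hexp hle hne (x := x) (Subgroup.subset_closure (Or.inl rfl)) hx1
  apply hxy
  rw [← h1]
  exact Subgroup.subset_closure (Or.inr rfl)

theorem exists_cent_sq {Q : Subgroup Y} (hQ : Nat.card Q = 49) (hcomm : ∀ x ∈ Q, ∀ y ∈ Q, x * y = y * x)
    (hexp : ∀ x ∈ Q, x ^ 7 = 1) {D : Subgroup Y} (hD2 : ∀ u ∈ D, u ^ 2 = 1) (hDc : ∀ u ∈ D, ∀ v ∈ D, u * v = v * u)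
    (hcard : 4 < Nat.card D) (hn : ∀ u ∈ D, ∀ x ∈ Q, u * x * u⁻¹ ∈ Q) :
    ∃ u ∈ D, u ≠ 1 ∧ ∀ x ∈ Q, u * x = x * u := by
  classical
  have hfinQ : Finite Q := Nat.finite_of_card_ne_zero (by omega)
  have hp7 : Nat.Prime 7 := by norm_num
  have hf7 : Fact (Nat.Prime 7) := ⟨hp7⟩
  -- a generating pair of eigenvectors
  obtain ⟨x1, hx1, x2, hx2, hgen, he⟩ : ∃ x1 ∈ Q, ∃ x2 ∈ Q, Subgroup.closure {x1, x2} = Q ∧
      ∀ u ∈ D, (u * x1 * u⁻¹ = x1 ∨ u * x1 * u⁻¹ = x1⁻¹) ∧ (u * x2 * u⁻¹ = x2 ∨ u * x2 * u⁻¹ = x2⁻¹) := by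
    by_cases hall : ∀ u ∈ D, ∀ x ∈ Q, u * x * u⁻¹ = x ∨ u * x * u⁻¹ = x⁻¹
    · have hQ1 : Q ≠ ⊥ := by
        rintro rfl
        rw [Subgroup.card_bot] at hQ
        omega
      obtain ⟨⟨x, hx⟩, hx1'⟩ := Subgroup.ne_bot_iff_exists_ne_one.1 hQ1
      have hx1 : x ≠ 1 := fun h => hx1' (Subtype.ext h)
      obtain ⟨y, hy, hyx⟩ : ∃ y ∈ Q, y ∉ Subgroup.zpowers x := by
        by_contra hcon
        push Not at hcon
        have h1 : Nat.card Q ≤ Nat.card (Subgroup.zpowers x) := by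
          have : Finite (Subgroup.zpowers x) := by
            apply Nat.finite_of_card_ne_zero
            rw [Nat.card_zpowers, orderOf_eq_prime (hexp x hx) hx1]
            norm_num
          exact Nat.card_le_card_of_injective _ (Subgroup.inclusion_injective (show Q ≤ _ from hcon))
        rw [hQ, Nat.card_zpowers, orderOf_eq_prime (hexp x hx) hx1] at h1
        omega
      exact ⟨x, hx, y, hy, closure_eq hQ hexp hx hy hx1 hyx, fun u hu => ⟨hall u hu x hx, hall u hu y hy⟩⟩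
    · push Not at hall
      obtain ⟨u, hu, x, hx, hux1, hux2⟩ := hall
      have huu : u * u = 1 := by rw [← sq, hD2 u hu]
      have hui : u⁻¹ = u := inv_eq_of_mul_eq_one_left huu
      obtain ⟨y, hy⟩ : ∃ y, y = u * x * u⁻¹ := ⟨_, rfl⟩
      have hyQ : y ∈ Q := by rw [hy]; exact hn u hu x hx
      have huy : u * y * u⁻¹ = x := by
        rw [hy]
        calc u * (u * x * u⁻¹) * u⁻¹ = (u * u) * x * (u * u)⁻¹ := by group
          _ = x := by rw [huu]; group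
      rw [← hy] at hux1 hux2
      have h1 : x * y ≠ 1 := fun h => hux2 (eq_inv_of_mul_eq_one_right h)
      have h2 : x * y⁻¹ ≠ 1 := fun h => hux1 (mul_inv_eq_one.1 h).symm
      have h3 : u * (x * y) * u⁻¹ = x * y := by
        have e : u * (x * y) * u⁻¹ = (u * x * u⁻¹) * (u * y * u⁻¹) := by group
        rw [e, huy, ← hy, hcomm y hyQ x hx]
      have h4 : u * (x * y⁻¹) * u⁻¹ = (x * y⁻¹)⁻¹ := by
        have e : u * (x * y⁻¹) * u⁻¹ = (u * x * u⁻¹) * (u * y * u⁻¹)⁻¹ := by group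
        rw [e, huy, ← hy]
        group
      have hxyQ : x * y ∈ Q := Q.mul_mem hx hyQ
      have hxyQ' : x * y⁻¹ ∈ Q := Q.mul_mem hx (Q.inv_mem hyQ)
      -- the eigenspaces
      let Pp : Subgroup Y :=
        { carrier := {z | z ∈ Q ∧ u * z * u⁻¹ = z}
          one_mem' := ⟨Q.one_mem, by group⟩
          mul_mem' := by
            rintro a b ⟨ha, ha'⟩ ⟨hb, hb'⟩
            refine ⟨Q.mul_mem ha hb, ?_⟩
            have e : u * (a * b) * u⁻¹ = (u * a * u⁻¹) * (u * b * u⁻¹) := by group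
            rw [e, ha', hb']
          inv_mem' := by
            rintro a ⟨ha, ha'⟩
            refine ⟨Q.inv_mem ha, ?_⟩
            have e : u * a⁻¹ * u⁻¹ = (u * a * u⁻¹)⁻¹ := by group
            rw [e, ha'] }
      let Pm : Subgroup Y :=
        { carrier := {z | z ∈ Q ∧ u * z * u⁻¹ = z⁻¹}
          one_mem' := ⟨Q.one_mem, by group⟩
          mul_mem' := by
            rintro a b ⟨ha, ha'⟩ ⟨hb, hb'⟩
            refine ⟨Q.mul_mem ha hb, ?_⟩
            have e : u * (a * b) * u⁻¹ = (u * a * u⁻¹) * (u * b * u⁻¹) := by group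
            rw [e, ha', hb', ← mul_inv_rev, hcomm a ha b hb]
          inv_mem' := by
            rintro a ⟨ha, ha'⟩
            refine ⟨Q.inv_mem ha, ?_⟩
            have e : u * a⁻¹ * u⁻¹ = (u * a * u⁻¹)⁻¹ := by group
            rw [e, ha'] }
      have hodd : ∀ z ∈ Q, z * z = 1 → z = 1 := by
        intro z hz hzz
        have h7 := hexp z hz
        have e : z ^ 7 = (z * z) * (z * z) * (z * z) * z := by
          simp only [pow_succ, pow_zero, one_mul, mul_assoc]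
        rw [e, hzz, one_mul, one_mul, one_mul] at h7
        exact h7
      have hPp : Pp ≠ Q := by
        intro h
        have h5 : x * y⁻¹ ∈ Pp := by rw [h]; exact hxyQ'
        have h6 : u * (x * y⁻¹) * u⁻¹ = x * y⁻¹ := h5.2
        rw [h4] at h6
        apply h2
        exact hodd _ hxyQ' (mul_eq_one_iff_eq_inv.2 h6.symm)
      have hPm : Pm ≠ Q := by
        intro h
        have h5 : x * y ∈ Pm := by rw [h]; exact hxyQ
        have h6 : u * (x * y) * u⁻¹ = (x * y)⁻¹ := h5.2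
        rw [h3] at h6
        apply h1
        exact hodd _ hxyQ (mul_eq_one_iff_eq_inv.2 h6)
      have e1 := eq_zpowers hQ hexp (R := Pp) (fun z hz => hz.1) hPp (x := x * y) ⟨hxyQ, h3⟩ h1
      have e2 := eq_zpowers hQ hexp (R := Pm) (fun z hz => hz.1) hPm (x := x * y⁻¹) ⟨hxyQ', h4⟩ h2
      refine ⟨x * y, hxyQ, x * y⁻¹, hxyQ', closure_eq hQ hexp hxyQ hxyQ' h1 ?_, fun v hv => ⟨?_, ?_⟩⟩
      · rw [← e1]
        rintro ⟨-, h5⟩
        rw [h4] at h5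
        exact h2 (hodd _ hxyQ' (mul_eq_one_iff_eq_inv.2 h5.symm))
      · refine fix_or_inv hp7 (orderOf_eq_prime (hexp _ hxyQ) h1) (hD2 v hv) ?_
        rw [← e1]
        refine ⟨hn v hv _ hxyQ, ?_⟩
        have e : u * (v * (x * y) * v⁻¹) * u⁻¹ = (u * v) * (x * y) * (u * v)⁻¹ := by group
        rw [e, hDc u hu v hv]
        have e' : v * u * (x * y) * (v * u)⁻¹ = v * (u * (x * y) * u⁻¹) * v⁻¹ := by group
        rw [e', h3]
      · refine fix_or_inv hp7 (orderOf_eq_prime (hexp _ hxyQ') h2) (hD2 v hv) ?_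
        rw [← e2]
        refine ⟨hn v hv _ hxyQ', ?_⟩
        have e : u * (v * (x * y⁻¹) * v⁻¹) * u⁻¹ = (u * v) * (x * y⁻¹) * (u * v)⁻¹ := by group
        rw [e, hDc u hu v hv]
        have e' : v * u * (x * y⁻¹) * (v * u)⁻¹ = v * (u * (x * y⁻¹) * u⁻¹) * v⁻¹ := by group
        rw [e', h4]
        group
  have hfin : Finite D := Nat.finite_of_card_ne_zero (by omega)
  have := Fintype.ofFinite D
  obtain ⟨u, v, huv, h⟩ := Fintype.exists_ne_map_eq_of_card_lt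
    (fun u : D => (decide ((u : Y) * x1 * (u : Y)⁻¹ = x1), decide ((u : Y) * x2 * (u : Y)⁻¹ = x2))) (by
      rw [Fintype.card_prod, Fintype.card_bool, ← Nat.card_eq_fintype_card]
      exact hcard)
  have h' := Prod.mk.inj h
  have h1 : (u : Y) * x1 * (u : Y)⁻¹ = x1 ↔ (v : Y) * x1 * (v : Y)⁻¹ = x1 := by simpa using h'.1
  have h2 : (u : Y) * x2 * (u : Y)⁻¹ = x2 ↔ (v : Y) * x2 * (v : Y)⁻¹ = x2 := by simpa using h'.2
  have c1 := prod_cent (he u u.2).1 (he v v.2).1 h1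
  have c2 := prod_cent (he u u.2).2 (he v v.2).2 h2
  refine ⟨u * v, D.mul_mem u.2 v.2, fun h3 => huv ?_, fun x hx => ?_⟩
  · have h4 : (v : Y)⁻¹ = v := inv_eq_of_mul_eq_one_left (by rw [← sq, hD2 v v.2])
    apply Subtype.ext
    rw [eq_inv_of_mul_eq_one_left h3, h4]
  · rw [← hgen] at hx
    have h3 : Subgroup.closure {x1, x2} ≤ Subgroup.centralizer {(u : Y) * v} := by
      rw [Subgroup.closure_le]
      rintro z (rfl | rfl)
      · exact Subgroup.mem_centralizer_singleton_iff.2 c1.symm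
      · exact Subgroup.mem_centralizer_singleton_iff.2 c2.symm
    exact (Subgroup.mem_centralizer_singleton_iff.1 (h3 hx)).symm

end Act

section Max

variable {G Y : Type*} [Group G] [Group Y] [IsSimpleGroup G] (hna : ¬ IsMulCommutative G) {σ : MulAut Y} {e : G →* Y}
  (he : Function.Injective e) (hfix : ∀ g, σ (e g) = e g) (hcent : ∀ z, (∀ g, z * e g = e g * z) → z = 1)

include hna in
theorem commutator_top : commutator G = ⊤ := by
  rcases (inferInstance : (commutator G).Normal).eq_bot_or_eq_top with h | h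
  · exfalso
    apply hna
    have h1 : ∀ a b : G, a * b = b * a := by
      intro a b
      have h2 : ⁅a, b⁆ ∈ commutator G := Subgroup.commutator_mem_commutator (Subgroup.mem_top a) (Subgroup.mem_top b)
      rw [h, Subgroup.mem_bot] at h2
      exact commutatorElement_eq_one_iff_mul_comm.1 h2
    exact ⟨⟨h1⟩⟩
  · exact h

include hna in
theorem center_bot : Subgroup.center G = ⊥ := by
  rcases (inferInstance : (Subgroup.center G).Normal).eq_bot_or_eq_top with h | h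
  · exact h
  · exfalso
    apply hna
    refine ⟨⟨fun a b => ?_⟩⟩
    have h2 : a ∈ Subgroup.center G := by rw [h]; exact Subgroup.mem_top a
    exact (Subgroup.mem_center_iff.1 h2 b).symm

include hna he hfix hcent in
/-- **The regular case.** -/
theorem reg {P : Subgroup G} {a : Y} (haσ : σ a = a) (ha1 : a ≠ 1) (ha3 : a ^ 3 = 1)
    (hPa : ∀ x ∈ P, a * e x = e x * a)
    (huniq : ∀ y, σ y = y → y ^ 3 = 1 → (∀ x ∈ P, y * e x = e x * y) → y ∈ Subgroup.zpowers a)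
    {D : Subgroup Y} (hD : ∀ u ∈ D, u ∈ e.range) (hDa : ∀ u ∈ D, u * a = a * u)
    (hDP : (∀ u ∈ D, ∀ x ∈ P, u * e x * u⁻¹ ∈ P.map e) → ∃ u ∈ D, u ≠ 1 ∧ ∀ x ∈ P, u * e x = e x * u)
    (hreg : ∀ u ∈ D, (∀ x ∈ P, u * e x = e x * u) → u = 1) :
    ¬ IsCoatom (Subgroup.normalizer (P : Set G)) := by
  intro hco
  obtain ⟨M, hM⟩ : ∃ M : Subgroup G, M = (Subgroup.normalizer (Subgroup.zpowers a : Set Y)).comap e := ⟨_, rfl⟩
  have h1 : ∀ g ∈ Subgroup.normalizer (P : Set G), e g * a * (e g)⁻¹ ∈ Subgroup.zpowers a := by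
    intro g hg
    refine huniq _ ?_ ?_ fun x hx => ?_
    · rw [map_mul, map_mul, map_inv, hfix, haσ]
    · rw [conj_pow, ha3]; group
    · have h2 : g⁻¹ * x * g ∈ P := by
        have := (Subgroup.mem_normalizer_iff.1 (inv_mem hg) x).1 hx
        rwa [inv_inv] at this
      have h3 := hPa _ h2
      rw [map_mul, map_mul, map_inv] at h3
      calc e g * a * (e g)⁻¹ * e x = e g * (a * ((e g)⁻¹ * e x * e g)) * (e g)⁻¹ := by group
        _ = e g * (((e g)⁻¹ * e x * e g) * a) * (e g)⁻¹ := by rw [h3]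
        _ = _ := by group
  have hconj : ∀ g : G, e g * a * (e g)⁻¹ ∈ Subgroup.zpowers a → ∀ y ∈ Subgroup.zpowers a,
      e g * y * (e g)⁻¹ ∈ Subgroup.zpowers a := by
    rintro g hg _ ⟨m, rfl⟩
    show e g * a ^ m * (e g)⁻¹ ∈ _
    rw [← conj_zpow]
    exact Subgroup.zpow_mem _ hg m
  have h2 : Subgroup.normalizer (P : Set G) ≤ M := by
    intro g hg
    rw [hM, Subgroup.mem_comap, Subgroup.mem_normalizer_iff]
    intro y
    refine ⟨fun hy => hconj g (h1 g hg) y hy, fun hy => ?_⟩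
    have h3 := hconj g⁻¹ (h1 g⁻¹ (inv_mem hg)) _ hy
    have e1 : e g⁻¹ * (e g * y * (e g)⁻¹) * (e g⁻¹)⁻¹ = y := by rw [map_inv]; group
    rwa [e1] at h3
  have h3 : M ≠ ⊤ := by
    intro htop
    have h4 : ∀ g : G, e g * a * (e g)⁻¹ ∈ Subgroup.zpowers a := by
      intro g
      have h5 : g ∈ M := by rw [htop]; exact Subgroup.mem_top g
      rw [hM, Subgroup.mem_comap, Subgroup.mem_normalizer_iff] at h5
      exact (h5 a).1 (Subgroup.mem_zpowers a)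
    apply ha1
    apply hcent
    intro g
    have h5 : g ∈ commutator G := by rw [commutator_top hna]; exact Subgroup.mem_top g
    have h6 : commutator G ≤ (Subgroup.centralizer {a}).comap e := by
      rw [commutator_def, Subgroup.commutator_le]
      intro g₁ _ g₂ _
      rw [Subgroup.mem_comap, Subgroup.mem_centralizer_singleton_iff]
      obtain ⟨i, hi⟩ := h4 g₁
      obtain ⟨j, hj⟩ := h4 g₂
      have hi' : a ^ i = e g₁ * a * (e g₁)⁻¹ := hi
      have hj' : a ^ j = e g₂ * a * (e g₂)⁻¹ := hj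
      have h7 : e g₁ * (e g₂ * a * (e g₂)⁻¹) * (e g₁)⁻¹ = e g₂ * (e g₁ * a * (e g₁)⁻¹) * (e g₂)⁻¹ := by
        rw [← hi', ← hj', ← conj_zpow, ← conj_zpow, ← hi', ← hj', ← zpow_mul, ← zpow_mul, mul_comm]
      rw [commutatorElement_def, map_mul, map_mul, map_mul, map_inv, map_inv]
      have h8 : e g₁ * e g₂ * a * (e g₁ * e g₂)⁻¹ = e g₂ * e g₁ * a * (e g₂ * e g₁)⁻¹ := by
        calc e g₁ * e g₂ * a * (e g₁ * e g₂)⁻¹ = e g₁ * (e g₂ * a * (e g₂)⁻¹) * (e g₁)⁻¹ := by group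
          _ = e g₂ * (e g₁ * a * (e g₁)⁻¹) * (e g₂)⁻¹ := h7
          _ = _ := by group
      -- conjugate by `(g₂ g₁)`
      have h9 : e g₁ * e g₂ * (e g₁)⁻¹ * (e g₂)⁻¹ = (e g₁ * e g₂) * (e g₂ * e g₁)⁻¹ := by group
      rw [h9]
      obtain ⟨m, hm⟩ := h4 (g₂ * g₁)⁻¹
      have hm' : a ^ m = (e g₂ * e g₁)⁻¹ * a * (e g₂ * e g₁) := by
        have h10 : a ^ m = e (g₂ * g₁)⁻¹ * a * (e (g₂ * g₁)⁻¹)⁻¹ := hm
        rw [h10, map_inv, inv_inv, map_mul]
      have h10 : (e g₁ * e g₂) * a ^ m * (e g₁ * e g₂)⁻¹ = (e g₂ * e g₁) * a ^ m * (e g₂ * e g₁)⁻¹ := by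
        rw [← conj_zpow, ← conj_zpow, h8]
      rw [hm'] at h10
      have h11 : (e g₁ * e g₂) * (e g₂ * e g₁)⁻¹ * a * ((e g₁ * e g₂) * (e g₂ * e g₁)⁻¹)⁻¹ = a := by
        calc (e g₁ * e g₂) * (e g₂ * e g₁)⁻¹ * a * ((e g₁ * e g₂) * (e g₂ * e g₁)⁻¹)⁻¹
            = (e g₁ * e g₂) * ((e g₂ * e g₁)⁻¹ * a * (e g₂ * e g₁)) * (e g₁ * e g₂)⁻¹ := by group
          _ = (e g₂ * e g₁) * ((e g₂ * e g₁)⁻¹ * a * (e g₂ * e g₁)) * (e g₂ * e g₁)⁻¹ := h10
          _ = a := by group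
      exact mul_inv_eq_iff_eq_mul.1 h11
    exact (Subgroup.mem_centralizer_singleton_iff.1 (h6 h5)).symm
  have h4 : M = Subgroup.normalizer (P : Set G) := by
    rcases h2.eq_or_lt with h | h
    · exact h.symm
    · exact absurd (hco.2 M h) h3
  obtain ⟨u, hu, hu1, huc⟩ := hDP (by
    intro u hu x hx
    obtain ⟨g, rfl⟩ := hD u hu
    have h5 : g ∈ M := by
      rw [hM, Subgroup.mem_comap, Subgroup.mem_normalizer_iff]
      have h6 := hDa _ hu
      have h7 : e g * a * (e g)⁻¹ = a := by rw [h6]; group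
      have h8 : (e g)⁻¹ * a * e g = a := by
        calc (e g)⁻¹ * a * e g = (e g)⁻¹ * (a * e g) := by group
          _ = (e g)⁻¹ * (e g * a) := by rw [h6]
          _ = a := by group
      intro y
      refine ⟨fun hy => hconj g (by rw [h7]; exact Subgroup.mem_zpowers a) y hy, fun hy => ?_⟩
      have h9 := hconj g⁻¹ (by rw [map_inv, inv_inv, h8]; exact Subgroup.mem_zpowers a) _ hy
      have e1 : e g⁻¹ * (e g * y * (e g)⁻¹) * (e g⁻¹)⁻¹ = y := by rw [map_inv]; group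
      rwa [e1] at h9
    rw [h4] at h5
    refine ⟨g * x * g⁻¹, (Subgroup.mem_normalizer_iff.1 h5 x).1 hx, ?_⟩
    rw [map_mul, map_mul, map_inv])
  exact hu1 (hreg u hu huc)

include hna he hfix in
/-- **The case with involutions in the centraliser.** -/
theorem nreg {P : Subgroup G} (hP : P ≠ ⊥) {u₀ : Y} (hu0 : u₀ ∈ e.range) (hu1 : u₀ ≠ 1) (hu2 : u₀ ^ 2 = 1)
    (hu3 : ∀ x ∈ P, u₀ * e x = e x * u₀) {D : Subgroup Y} (hD : ∀ u ∈ D, u ∈ e.range)
    (hDc : ∀ u ∈ D, ∀ v, σ v = v → v ^ 2 = 1 → (∀ x ∈ P, v * e x = e x * v) → u * v = v * u)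
    (hDP : (∀ u ∈ D, ∀ x ∈ P, u * e x * u⁻¹ ∈ P.map e) → ∃ u ∈ D, u ≠ 1 ∧ ∀ x ∈ P, u * e x = e x * u)
    (hreg : ∀ u ∈ D, (∀ x ∈ P, u * e x = e x * u) → u = 1) :
    ¬ IsCoatom (Subgroup.normalizer (P : Set G)) := by
  intro hco
  obtain ⟨S, hS⟩ : ∃ S : Set G, S = {g | g ^ 2 = 1 ∧ ∀ x ∈ P, g * x = x * g} := ⟨_, rfl⟩
  obtain ⟨L, hL⟩ : ∃ L : Subgroup G, L = Subgroup.closure S := ⟨_, rfl⟩
  have h1 : L ≤ Subgroup.centralizer (P : Set G) := by
    rw [hL, Subgroup.closure_le]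
    intro g hg
    rw [hS] at hg
    exact Subgroup.mem_centralizer_iff.2 fun x hx => (hg.2 x hx).symm
  have hLb : L ≠ ⊥ := by
    obtain ⟨g, hg⟩ := hu0
    intro h
    apply hu1
    have h2 : g ∈ L := by
      rw [hL]
      apply Subgroup.subset_closure
      rw [hS]
      refine ⟨he ?_, fun x hx => he ?_⟩
      · rw [map_pow, hg, hu2, map_one]
      · rw [map_mul, map_mul, hg, hu3 x hx]
    rw [h, Subgroup.mem_bot] at h2
    rw [← hg, h2, map_one]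
  have h2 : Subgroup.normalizer (P : Set G) ≤ Subgroup.normalizer (L : Set G) := by
    have key : ∀ g ∈ Subgroup.normalizer (P : Set G), ∀ y ∈ L, g * y * g⁻¹ ∈ L := by
      intro g hg y hy
      have h3 : L ≤ L.comap (MulAut.conj g).toMonoidHom := by
        conv_lhs => rw [hL]
        rw [Subgroup.closure_le]
        intro s hs
        show g * s * g⁻¹ ∈ L
        rw [hL]
        apply Subgroup.subset_closure
        rw [hS] at hs ⊢
        refine ⟨?_, fun x hx => ?_⟩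
        · rw [conj_pow, hs.1]; group
        · have h4 : g⁻¹ * x * g ∈ P := by
            have := (Subgroup.mem_normalizer_iff.1 (inv_mem hg) x).1 hx
            rwa [inv_inv] at this
          have h5 := hs.2 _ h4
          calc g * s * g⁻¹ * x = g * (s * (g⁻¹ * x * g)) * g⁻¹ := by group
            _ = g * ((g⁻¹ * x * g) * s) * g⁻¹ := by rw [h5]
            _ = _ := by group
      exact h3 hy
    intro g hg
    rw [Subgroup.mem_normalizer_iff]
    intro y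
    refine ⟨fun hy => key g hg y hy, fun hy => ?_⟩
    have h3 := key g⁻¹ (inv_mem hg) _ hy
    have e1 : g⁻¹ * (g * y * g⁻¹) * g⁻¹⁻¹ = y := by group
    rwa [e1] at h3
  have h3 : Subgroup.normalizer (L : Set G) ≠ ⊤ := by
    intro htop
    have hn : L.Normal := Subgroup.normalizer_eq_top_iff.1 htop
    rcases hn.eq_bot_or_eq_top with h | h
    · exact hLb h
    · apply hP
      rw [eq_bot_iff, ← center_bot hna]
      intro x hx
      rw [Subgroup.mem_center_iff]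
      intro g
      have h4 : g ∈ Subgroup.centralizer (P : Set G) := h1 (by rw [h]; exact Subgroup.mem_top g)
      exact (Subgroup.mem_centralizer_iff.1 h4 x hx).symm
  have h4 : Subgroup.normalizer (L : Set G) = Subgroup.normalizer (P : Set G) := by
    rcases h2.eq_or_lt with h | h
    · exact h.symm
    · exact absurd (hco.2 _ h) h3
  obtain ⟨u, hu, hu1, huc⟩ := hDP (by
    intro u hu x hx
    obtain ⟨g, rfl⟩ := hD u hu
    have h5 : g ∈ Subgroup.centralizer (L : Set G) := by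
      have h6 : L ≤ Subgroup.centralizer {g} := by
        rw [hL, Subgroup.closure_le]
        intro s hs
        rw [hS] at hs
        rw [SetLike.mem_coe, Subgroup.mem_centralizer_singleton_iff]
        apply he
        rw [map_mul, map_mul]
        refine (hDc _ hu (e s) (hfix s) ?_ fun x hx => ?_).symm
        · rw [← map_pow, hs.1, map_one]
        · rw [← map_mul, hs.2 x hx, map_mul]
      rw [Subgroup.mem_centralizer_iff]
      intro y hy
      exact Subgroup.mem_centralizer_singleton_iff.1 (h6 hy)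
    have h6 : g ∈ Subgroup.normalizer (P : Set G) := by
      rw [← h4]
      rw [Subgroup.mem_normalizer_iff]
      rw [Subgroup.mem_centralizer_iff] at h5
      intro y
      constructor
      · intro hy
        have h7 : g * y * g⁻¹ = y := by rw [← h5 y hy]; group
        rwa [h7]
      · intro hy
        have h7 := h5 _ hy
        have h8 : g * y * g⁻¹ = y := by
          have h9 : g * (g * y * g⁻¹) = g * (y * g * g⁻¹) := by rw [← h7]; group
          have h10 := mul_left_cancel h9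
          rw [h10]; group
        rwa [← h8]
    refine ⟨g * x * g⁻¹, (Subgroup.mem_normalizer_iff.1 h6 x).1 hx, ?_⟩
    rw [map_mul, map_mul, map_inv])
  exact hu1 (hreg u hu huc)

end Max

end Cfsg.Agent.H897.Abs
end

-- part: H897/Frm
section
/-!
# Frames `z⁻¹ σ(z) = n` and the two cases (S5740)
-/

set_option autoImplicit false
set_option linter.unusedSectionVars false

namespace Cfsg.Agent.H897.Frm

open CoxeterSystem Cfsg Cfsg.Lie Cfsg.Agent.ChevalleyStructure Cfsg.Agent.ChevalleyStructure.Elts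
  Cfsg.Agent.ChevalleyStructure.CoxeterGeom Cfsg.Agent.ChevalleyStructure.CoxeterGeomTypes
  Cfsg.Agent.Tits.Roots
  Cfsg.Agent.Tits.Core Cfsg.Agent.Nodes.Reps
  Cfsg.Agent.Nodes.BNOf Cfsg.Agent.Nodes.RGDChev Cfsg.Agent.KFacts.RgdField Cfsg.Agent.KFacts.RgdChevCoord
  Cfsg.Agent.BpExc.Tow Cfsg.Agent.BpExc.TowChev Cfsg.Agent.BpExc.LangFr Cfsg.Agent.BpExc.Fr
  Cfsg.Agent.BpExc.TorCent Cfsg.Agent.H897.Lat Cfsg.Agent.H897.Sg Cfsg.Agent.H897.Tor Cfsg.Agent.H897.Cen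
  Cfsg.Agent.H897.Orb Cfsg.Agent.H897.Emb
open Cfsg.Agent.BpExc.FamTw.Six (em coe_em em_injective sig_em)

universe u v

/-! ### orbit data -/

/-- an orbit of commuting roots -/
structure OD where
  /-- the correction by reflections -/
  l : List V
  /-- the root -/
  b : V
  /-- the length of the orbit -/
  m : ℕ
  /-- a separating character modulo 3 -/
  c : V

/-- the lattice automorphism -/
def gl (ws l : List V) (x : V) : V := actR l (actR ws (pm x))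

/-- the checks -/
@[reducible] def OD.OK (o : OD) (ws : List V) (P : V → Prop) : Prop :=
  0 < o.m ∧ (∀ a ∈ o.l, a ∈ rootList ∧ P a) ∧
    (∀ i < o.m, (gl ws o.l)^[i] o.b ∈ rootList ∧ P ((gl ws o.l)^[i] o.b)) ∧ (gl ws o.l)^[o.m] o.b = o.b ∧
    (∀ i < o.m, ∀ j < o.m, 0 ≤ bil ((gl ws o.l)^[i] o.b) ((gl ws o.l)^[j] o.b)) ∧
    ¬ (3 : ℤ) ∣ dot o.c o.b ∧ ∀ i < o.m, 0 < i → (3 : ℤ) ∣ dot o.c ((gl ws o.l)^[i] o.b)

variable {k : Type v} [Field k] [CharP k 2] [IsAlgClosed k] (hk : LocFin k)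

theorem neg_mem {a : V} (ha : a ∈ rootList) : -a ∈ rootList := (root0 _).1 ((root0 a).2 ha).neg

include hk in
/-- **Fixed points from orbit data.** -/
theorem exists_orb {τ : MulAut ↥(chevE6.group k)} {g : V ≃+ V} (F : SFr cs0 τ g) {ws : List V}
    (hg : ∀ a, g a = actR ws (pm a)) {P : V → Prop} (hP : ∀ a ∈ rootList, P a → P (-a))
    (hgP : ∀ a ∈ rootList, P a → P (actR ws (pm a))) {o : OD} (ho : o.OK ws P) :
    ∃ E : Subgroup ↥(chevE6.group k), E ≤ RGD.Sup (XL (Xj hp)) {a | a ∈ rootList ∧ P a} ∧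
      (∀ u ∈ E, τ u = u) ∧ (∀ u ∈ E, u ^ 2 = 1) ∧ Nat.card E = 2 ^ o.m := by
  obtain ⟨hm, hl, hb, hmb, hcom, hc0, hc⟩ := ho
  have hS : ∀ a ∈ {a | a ∈ rootList ∧ P a}, a ∈ rootList := fun a ha => ha.1
  have hneg : ∀ a ∈ {a | a ∈ rootList ∧ P a}, -a ∈ {a | a ∈ rootList ∧ P a} :=
    fun a ha => ⟨neg_mem ha.1, hP a ha.1 ha.2⟩
  obtain ⟨w, hw, n, hn, hn'⟩ := exists_rep hk hS hneg o.l (fun a ha => hl a ha)
  have F' := F.conj hk hn'
  have hg' : ∀ a, (g.trans (repAut cs0 hp.isCartan w)) a = gl ws o.l a := by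
    intro a
    show rep cs0 hp.isCartan w (g a) = _
    rw [hw, hg]
    rfl
  have hit : ∀ i, (g.trans (repAut cs0 hp.isCartan w))^[i] o.b = (gl ws o.l)^[i] o.b := by
    intro i
    have : (g.trans (repAut cs0 hp.isCartan w) : V → V) = gl ws o.l := funext hg'
    rw [this]
  obtain ⟨E, hE1, hE2, hE3, hE4⟩ := exists_fix hk F' hS (b := o.b) hm (fun i hi => by rw [hit]; exact hb i hi)
    (by rw [hit, hmb]) (fun i hi j hj => by rw [hit, hit]; exact hcom i hi j hj) hc0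
    (fun i hi h0 => by rw [hit]; exact hc i hi h0)
  -- Lang
  have hfr : Fr cs0 hp.isCartan (TT chevE6 k) (XX chevE6 6 k) τ g := by
    have := F.fr
    rwa [TL_eq hp hk, XL_eq hp hk] at this
  obtain ⟨y, hy, e⟩ := lang_fr hp cs0 one_pos F.frob hfr (S := {a | a ∈ rootList ∧ P a})
    (fun a ha => (root0 a).2 ha.1) (fun a ha => ⟨(root0 _).1 ((F.fr.root a).2 ((root0 a).2 ha.1)), by
      rw [hg]; exact hgP a ha.1 ha.2⟩) (m := n) (by rw [← XL_eq hp hk]; exact hn)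
  rw [← XL_eq hp hk] at hy
  have e' : τ y = y * n := by rw [e]; group
  refine ⟨E.map (MulAut.conj y).toMonoidHom, ?_, ?_, ?_, ?_⟩
  · rintro _ ⟨u, hu, rfl⟩
    exact mul_mem (mul_mem hy (hE1 hu)) (inv_mem hy)
  · rintro _ ⟨u, hu, rfl⟩
    show τ (y * u * y⁻¹) = y * u * y⁻¹
    have h1 : n * τ u * n⁻¹ = u := hE2 u hu
    rw [map_mul, map_mul, map_inv, e']
    calc y * n * τ u * (y * n)⁻¹ = y * (n * τ u * n⁻¹) * y⁻¹ := by group
      _ = _ := by rw [h1]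
  · rintro _ ⟨u, hu, rfl⟩
    show (y * u * y⁻¹) ^ 2 = 1
    rw [conj_pow, hE3 u hu]; group
  · rw [← hE4]
    exact Nat.card_congr (E.equivMapOfInjective _ (MulAut.conj y).injective).toEquiv.symm

/-! ### frames -/

/-- `z⁻¹ σ(z)` represents the product of the reflections in `ws` -/
def IsFrame (ws : List V) (z : ↥(chevE6.group k)) : Prop :=
  ∃ (w : CoxeterMatrix.E₆.Group) (n : ↥(chevE6.group k)), Rp cs0 (tw cs0 hk).nsys w n ∧
    (∀ x, rep cs0 hp.isCartan w x = actR ws x) ∧ z⁻¹ * sg k z = n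

theorem IsFrame.mul {ws : List V} {z : ↥(chevE6.group k)} (h : IsFrame hk ws z) {y : ↥(chevE6.group k)}
    (hy : sg k y = y) : IsFrame hk ws (y * z) := by
  obtain ⟨w, n, h1, h2, h3⟩ := h
  refine ⟨w, n, h1, h2, ?_⟩
  rw [map_mul, hy, ← h3]
  group

theorem IsFrame.spec {ws : List V} {z : ↥(chevE6.group k)} (h : IsFrame hk ws z) :
    ∃ (τ : MulAut ↥(chevE6.group k)) (g : V ≃+ V), SFr cs0 τ g ∧ (∀ a, g a = actR ws (pm a)) ∧
      ∀ u, sg k (z * u * z⁻¹) = z * τ u * z⁻¹ := by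
  obtain ⟨w, n, h1, h2, h3⟩ := h
  refine ⟨MulAut.conj n * sg k, _, (sg_sfr cs0 hk).conj hk h1, fun a => ?_, fun u => ?_⟩
  · show rep cs0 hp.isCartan w (Cfsg.Agent.H897.Frame.permE Cfsg.Agent.H897.Frame.rho6 a) = _
    rw [h2, pm_eq]
  · show sg k (z * u * z⁻¹) = z * (n * sg k u * n⁻¹) * z⁻¹
    have h4 : sg k z = z * n := by rw [← h3]; group
    rw [map_mul, map_mul, map_inv, h4]
    group

theorem exists_isFrame (ws : List V) (hws : ∀ a ∈ ws, a ∈ rootList) : ∃ z : ↥(chevE6.group k), IsFrame hk ws z := by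
  obtain ⟨w, hw⟩ := exists_actR cs0 ws hws
  obtain ⟨n, -, hn⟩ := (tw cs0 hk).exists_rp w
  have hfr : Fr cs0 hp.isCartan (TT chevE6 k) (XX chevE6 6 k) (sg k)
      (Cfsg.Agent.H897.Frame.permE Cfsg.Agent.H897.Frame.rho6) := by
    have := (sg_sfr (k := k) cs0 hk).fr
    rwa [TL_eq hp hk, XL_eq hp hk] at this
  obtain ⟨z, hz⟩ := lang_all hp cs0 one_pos (sg_sfr (k := k) cs0 hk).frob hfr 1 n
  refine ⟨z, w, n, hn, hw, ?_⟩
  rw [hz, map_one, one_mul]

end Cfsg.Agent.H897.Frm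
end

-- part: H897/Cas
section
/-!
# The two cases for given frame data (S5740)
-/

set_option autoImplicit false
set_option linter.unusedSectionVars false

namespace Cfsg.Agent.H897.Cas

open CoxeterSystem Cfsg Cfsg.Lie Cfsg.Agent.ChevalleyStructure Cfsg.Agent.ChevalleyStructure.Elts
  Cfsg.Agent.ChevalleyStructure.CoxeterGeom Cfsg.Agent.ChevalleyStructure.CoxeterGeomTypes
  Cfsg.Agent.Tits.Roots
  Cfsg.Agent.Tits.Core Cfsg.Agent.Nodes.Reps
  Cfsg.Agent.Nodes.BNOf Cfsg.Agent.Nodes.RGDChev Cfsg.Agent.KFacts.RgdField Cfsg.Agent.KFacts.RgdChevCoord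
  Cfsg.Agent.BpExc.Tow Cfsg.Agent.BpExc.TowChev Cfsg.Agent.BpExc.LangFr Cfsg.Agent.BpExc.Fr
  Cfsg.Agent.BpExc.TorCent Cfsg.Agent.H897.Lat Cfsg.Agent.H897.Sg Cfsg.Agent.H897.Tor Cfsg.Agent.H897.Cen
  Cfsg.Agent.H897.Orb Cfsg.Agent.H897.Emb Cfsg.Agent.H897.Frm
open Cfsg.Agent.BpExc.FamTw.Six (em coe_em em_injective sig_em)

universe u v

variable {K : Type u} [Field K] [Fintype K] (hK : Fintype.card K = 4) {k : Type v} [Field k] [CharP k 2]
  [IsAlgClosed k] (hk : LocFin k) (f : K →+* k)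

include hK in
theorem simple : IsSimpleGroup ↥(twistedE6 K 2) ∧ ¬ IsMulCommutative ↥(twistedE6 K 2) :=
  Cfsg.Agent.S1070.result Nat.prime_two.isPrimePow (card_eq_sq hK)

omit [CharP k 2] [IsAlgClosed k] in
theorem conj_inj {z x y : ↥(chevE6.group k)} (h : z * x * z⁻¹ = z * y * z⁻¹) : x = y :=
  mul_left_cancel (mul_right_cancel h)

/-- a primitive root of unity -/
theorem exists_prim {l : ℕ} (hl : ¬ 2 ∣ l) : ∃ ζ : k, IsPrimitiveRoot ζ l := by
  have h3 : NeZero ((l : ℕ) : k) := ⟨by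
    intro h
    exact hl ((CharP.cast_eq_zero_iff k 2 l).1 h)⟩
  exact HasEnoughRootsOfUnity.exists_primitiveRoot k l

/-- the frame data of the regular case -/
structure RegOK (ws : List V) (c3 : V) (o : OD) : Prop where
  fix : ∀ i : Fin 6, (3 : ℤ) ∣ dot c3 (actR ws (pm (sr i))) - 2 * c3 i
  ne : ∃ i, ¬ (3 : ℤ) ∣ c3 i
  one : ∀ d : Fin 6 → ℕ, (∀ i, d i < 3) →
    (∀ i : Fin 6, (3 : ℤ) ∣ dot (fun j => (d j : ℤ)) (actR ws (pm (sr i))) - 2 * (d i : ℤ)) →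
    ∃ m : ℕ, ∀ i, (3 : ℤ) ∣ (d i : ℤ) - m * c3 i
  stab : ∀ a ∈ rootList, (3 : ℤ) ∣ dot c3 a → (3 : ℤ) ∣ dot c3 (actR ws (pm a))
  orb : o.OK ws (fun a => (3 : ℤ) ∣ dot c3 a)

include hK hk in
/-- **The regular case.** -/
theorem reg {ws : List V} {c3 : V} {o : OD} (R : RegOK ws c3 o) {z : ↥(chevE6.group k)} (hz : IsFrame hk ws z)
    {p : ℕ} (hpp : p.Prime) (hp5 : 5 < p) {P : Subgroup ↥(twistedE6 K 2)} {S : Set ↥(chevE6.group k)}
    (hSfin : S.Finite) (hST : ∀ s ∈ S, s ∈ TT chevE6 k) (hSp : ∀ s ∈ S, s ^ p = 1)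
    (hSreg : ∀ a ∈ rootList, ∃ s ∈ S, ch hp a s ≠ 1) (hSP : ∀ s ∈ S, ∃ x ∈ P, em 2 f x = z * s * z⁻¹)
    (hPT : ∀ x ∈ P, ∃ t ∈ TT chevE6 k, em 2 f x = z * t * z⁻¹)
    (hact : ∀ D : Subgroup ↥(chevE6.group k), (∀ u ∈ D, u ^ 2 = 1) → Nat.card D = 2 ^ o.m →
      (∀ u ∈ D, ∀ x ∈ P, u * em 2 f x * u⁻¹ ∈ P.map (em 2 f)) → ∃ u ∈ D, u ≠ 1 ∧ ∀ x ∈ P, u * em 2 f x = em 2 f x * u) :
    ¬ IsCoatom (Subgroup.normalizer (P : Set ↥(twistedE6 K 2))) := by
  obtain ⟨hs, hna⟩ := simple hK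
  obtain ⟨τ, g, F, hg, hτ⟩ := hz.spec
  obtain ⟨ω, hω⟩ := exists_prim (k := k) (l := 3) (by norm_num)
  have hω0 : ω ≠ 0 := hω.ne_zero (by norm_num)
  obtain ⟨hcT, -⟩ := tz_spec (ζ := ω) hω0 c3
  have hfixc : τ (tz ω c3) = tz ω c3 := tau_tz hk F (by norm_num) hω c3 (fun i => by rw [hg]; exact R.fix i)
  -- the centraliser of `P`
  have hcP : ∀ y, (∀ x ∈ P, y * em 2 f x = em 2 f x * y) → z⁻¹ * y * z ∈ TT chevE6 k := by
    intro y hy
    refine cent_reg hk hpp hp5 hSfin hST hSp hSreg fun s hs => ?_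
    obtain ⟨x, hx, e⟩ := hSP s hs
    have h1 := hy x hx
    rw [e] at h1
    calc z⁻¹ * y * z * s = z⁻¹ * (y * (z * s * z⁻¹)) * z := by group
      _ = z⁻¹ * ((z * s * z⁻¹) * y) * z := by rw [h1]
      _ = _ := by group
  have hP3 : ∀ a ∈ rootList, (3 : ℤ) ∣ dot c3 a → (3 : ℤ) ∣ dot c3 (-a) := fun a _ h => by
    rw [dot_neg]; exact (dvd_neg).2 h
  obtain ⟨E, hE1, hE2, hE3, hE4⟩ := exists_orb hk F hg hP3 R.stab R.orb
  obtain ⟨D, hDdef⟩ : ∃ D : Subgroup ↥(chevE6.group k), D = E.map (MulAut.conj z).toMonoidHom := ⟨_, rfl⟩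
  have hD : ∀ u ∈ D, ∃ v ∈ E, u = z * v * z⁻¹ := by
    rw [hDdef]
    rintro _ ⟨v, hv, rfl⟩
    exact ⟨v, hv, rfl⟩
  have hD2 : ∀ u ∈ D, u ^ 2 = 1 := by
    intro u hu
    obtain ⟨v, hv, rfl⟩ := hD u hu
    rw [conj_pow, hE3 v hv]; group
  have hDr : ∀ u ∈ D, u ∈ (em (K := K) 2 f).range := by
    intro u hu
    refine mem_range hK hk f ?_ (n := 2) (by norm_num) (hD2 u hu)
    obtain ⟨v, hv, rfl⟩ := hD u hu
    rw [hτ, hE2 v hv]
  have hDcard : Nat.card D = 2 ^ o.m := by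
    rw [← hE4, hDdef]
    exact Nat.card_congr (E.equivMapOfInjective _ (MulAut.conj z).injective).toEquiv.symm
  refine Abs.reg hna (em_injective f) (σ := sg k) (sg_em hK f) (fun y hy => eq_one_of_comm hK f y hy)
    (a := z * tz ω c3 * z⁻¹) ?_ ?_ ?_ ?_ ?_ (D := D) hDr ?_ (hact D hD2 hDcard) ?_
  · rw [hτ, hfixc]
  · intro h
    have h1 : tz ω c3 = 1 := by
      have h2 : z * tz ω c3 * z⁻¹ = z * 1 * z⁻¹ := by rw [h]; group
      exact conj_inj h2
    rw [tz_eq_one_iff hk (by norm_num) hω] at h1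
    obtain ⟨i, hi⟩ := R.ne
    exact hi (h1 i)
  · rw [conj_pow, tz_pow_eq_one hk (by norm_num) hω]; group
  · intro x hx
    obtain ⟨t, ht, e⟩ := hPT x hx
    rw [e]
    have h1 := Cfsg.Agent.BpExc.TorChev.TT_comm hp _ hcT _ ht
    calc z * tz ω c3 * z⁻¹ * (z * t * z⁻¹) = z * (tz ω c3 * t) * z⁻¹ := by group
      _ = z * (t * tz ω c3) * z⁻¹ := by rw [h1]
      _ = _ := by group
  · intro y hy hy3 hyP
    have h1 := hcP y hyP
    have h2 : (z⁻¹ * y * z) ^ 3 = 1 := by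
      have := conj_pow (i := 3) (a := z⁻¹) (b := y)
      rw [inv_inv] at this
      rw [this, hy3]; group
    obtain ⟨d, hd, e⟩ := exists_tz hk (by norm_num) hω h1 h2
    have h3 : τ (z⁻¹ * y * z) = z⁻¹ * y * z := by
      have h4 := hτ (z⁻¹ * y * z)
      have h5 : z * (z⁻¹ * y * z) * z⁻¹ = y := by group
      rw [h5, hy] at h4
      calc τ (z⁻¹ * y * z) = z⁻¹ * (z * τ (z⁻¹ * y * z) * z⁻¹) * z := by group
        _ = _ := by rw [← h4]
    rw [e] at h3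
    have h4 := of_tau_tz hk F (by norm_num) hω _ h3
    obtain ⟨m, hm⟩ := R.one d hd (fun i => by rw [← hg]; exact h4 i)
    refine ⟨m, ?_⟩
    show (z * tz ω c3 * z⁻¹) ^ (m : ℤ) = y
    have h6 : tz ω (fun j => (d j : ℤ)) = tz ω c3 ^ m := by
      rw [tz_pow hk hω0, tz_eq_iff hk (by norm_num) hω]
      exact hm
    rw [zpow_natCast, conj_pow, ← h6, ← e]
    group
  · intro u hu
    obtain ⟨v, hv, rfl⟩ := hD u hu
    have h1 := comm_tor hk (S := {a | a ∈ rootList ∧ (3 : ℤ) ∣ dot c3 a}) (fun a ha => ha.1) hcT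
      (fun a ha => by rw [ch_tz hk hω0 _ ha.1]; exact (hω.zpow_eq_one_iff_dvd _).2 ha.2) (hE1 hv)
    calc z * v * z⁻¹ * (z * tz ω c3 * z⁻¹) = z * (v * tz ω c3) * z⁻¹ := by group
      _ = z * (tz ω c3 * v) * z⁻¹ := by rw [h1]
      _ = _ := by group
  · intro u hu huP
    obtain ⟨v, hv, rfl⟩ := hD u hu
    have h1 := hcP _ huP
    have h2 : z⁻¹ * (z * v * z⁻¹) * z = v := by group
    rw [h2] at h1
    rw [eq_one_of_sq hk h1 (hE3 v hv)]
    group

/-- the frame data of the other case -/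
structure NregOK (ws : List V) (p : ℕ) (c c' : V) (sr' : List V) (o₁ o₂ : OD) : Prop where
  fix : ∀ i : Fin 6, (p : ℤ) ∣ dot c (actR ws (pm (sr i))) - 2 * c i
  ne : ∃ i, ¬ (p : ℤ) ∣ c i
  reg : ∀ a ∈ rootList, (p : ℤ) ∣ dot c a → ¬ (p : ℤ) ∣ dot c' a
  triv : ∀ b ∈ rootList, (∀ r ∈ sr', bil r b = 0) → (p : ℤ) ∣ dot c' b
  perp : ∀ a ∈ rootList, (p : ℤ) ∣ dot c a → ∀ b ∈ rootList, (∀ r ∈ sr', bil r b = 0) → bil a b = 0
  stab₁ : ∀ a ∈ rootList, (p : ℤ) ∣ dot c a → (p : ℤ) ∣ dot c (actR ws (pm a))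
  stab₂ : ∀ b ∈ rootList, (∀ r ∈ sr', bil r b = 0) → ∀ r ∈ sr', bil r (actR ws (pm b)) = 0
  orb₁ : o₁.OK ws (fun a => (p : ℤ) ∣ dot c a)
  orb₂ : o₂.OK ws (fun a => ∀ r ∈ sr', bil r a = 0)
  two : 2 ≤ o₂.m

include hK hk in
/-- **The other case.** -/
theorem nreg {ws : List V} {p : ℕ} {c c' : V} {sr' : List V} {o₁ o₂ : OD} (N : NregOK ws p c c' sr' o₁ o₂)
    {z : ↥(chevE6.group k)} (hz : IsFrame hk ws z) (hpp : p.Prime) (hp5 : 5 < p) {ζ : k} (hζ : IsPrimitiveRoot ζ p)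
    {P : Subgroup ↥(twistedE6 K 2)} (hP : P.map (em 2 f) = (Subgroup.zpowers (tz ζ c)).map (MulAut.conj z).toMonoidHom) :
    ¬ IsCoatom (Subgroup.normalizer (P : Set ↥(twistedE6 K 2))) := by
  obtain ⟨hs, hna⟩ := simple hK
  obtain ⟨τ, g, F, hg, hτ⟩ := hz.spec
  have hp0 : 0 < p := hpp.pos
  have hζ0 : ζ ≠ 0 := hζ.ne_zero hpp.ne_zero
  obtain ⟨hcT, -⟩ := tz_spec (ζ := ζ) hζ0 c
  obtain ⟨hcT', -⟩ := tz_spec (ζ := ζ) hζ0 c'
  have hcp := tz_pow_eq_one hk hp0 hζ c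
  have hcp' := tz_pow_eq_one hk hp0 hζ c'
  have hc1 : tz ζ c ≠ 1 := by
    rw [Ne, tz_eq_one_iff hk hp0 hζ]
    intro h
    obtain ⟨i, hi⟩ := N.ne
    exact hi (h i)
  -- the generator of `P`
  obtain ⟨x0, hx0, ex0⟩ : ∃ x ∈ P, em 2 f x = z * tz ζ c * z⁻¹ := by
    have h1 : z * tz ζ c * z⁻¹ ∈ (Subgroup.zpowers (tz ζ c)).map (MulAut.conj z).toMonoidHom :=
      ⟨tz ζ c, Subgroup.mem_zpowers _, rfl⟩
    rw [← hP] at h1
    obtain ⟨x, hx, e⟩ := h1
    exact ⟨x, hx, e⟩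
  have hgen : ∀ x ∈ P, ∃ m : ℤ, em 2 f x = (z * tz ζ c * z⁻¹) ^ m := by
    intro x hx
    have h1 : em 2 f x ∈ P.map (em 2 f) := ⟨x, hx, rfl⟩
    rw [hP] at h1
    obtain ⟨_, ⟨m, rfl⟩, e⟩ := h1
    refine ⟨m, ?_⟩
    rw [← e, conj_zpow]
    rfl
  have hcomP : ∀ y, y * (z * tz ζ c * z⁻¹) = (z * tz ζ c * z⁻¹) * y → ∀ x ∈ P, y * em 2 f x = em 2 f x * y := by
    intro y hy x hx
    obtain ⟨m, hm⟩ := hgen x hx
    rw [hm]
    exact (Commute.zpow_right (show Commute y _ from hy) m).eq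
  have hcomt : ∀ y, (∀ x ∈ P, y * em 2 f x = em 2 f x * y) → (z⁻¹ * y * z) * tz ζ c = tz ζ c * (z⁻¹ * y * z) := by
    intro y hy
    have h1 := hy x0 hx0
    rw [ex0] at h1
    calc z⁻¹ * y * z * tz ζ c = z⁻¹ * (y * (z * tz ζ c * z⁻¹)) * z := by group
      _ = z⁻¹ * ((z * tz ζ c * z⁻¹) * y) * z := by rw [h1]
      _ = _ := by group
  have hSx : {a | a ∈ rootList ∧ ch hp a (tz ζ c) = 1} = {a | a ∈ rootList ∧ (p : ℤ) ∣ dot c a} := by
    ext a
    refine and_congr_right fun ha => ?_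
    rw [ch_tz hk hζ0 c ha, hζ.zpow_eq_one_iff_dvd]
  obtain ⟨E₁, hE1, hE2, hE3, hE4⟩ := exists_orb hk F hg (P := fun a => (p : ℤ) ∣ dot c a)
    (fun a _ h => by rw [dot_neg]; exact (dvd_neg).2 h) N.stab₁ N.orb₁
  obtain ⟨E, hF1, hF2, hF3, hF4⟩ := exists_orb hk F hg (P := fun a => ∀ r ∈ sr', bil r a = 0)
    (fun a _ h r hr => by rw [bil_symm, bil_neg, bil_symm, h r hr, neg_zero]) N.stab₂ N.orb₂
  -- an involution of `E₁`
  obtain ⟨u₁, hu₁, hu₁1⟩ : ∃ u ∈ E₁, u ≠ 1 := by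
    have hne : E₁ ≠ ⊥ := by
      rintro rfl
      rw [Subgroup.card_bot] at hE4
      have : 1 < 2 ^ o₁.m := Nat.one_lt_two_pow N.orb₁.1.ne'
      omega
    obtain ⟨⟨u, hu⟩, h⟩ := Subgroup.ne_bot_iff_exists_ne_one.1 hne
    exact ⟨u, hu, fun h' => h (Subtype.ext h')⟩
  obtain ⟨D, hDdef⟩ : ∃ D : Subgroup ↥(chevE6.group k), D = E.map (MulAut.conj z).toMonoidHom := ⟨_, rfl⟩
  have hD : ∀ u ∈ D, ∃ v ∈ E, u = z * v * z⁻¹ := by
    rw [hDdef]
    rintro _ ⟨v, hv, rfl⟩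
    exact ⟨v, hv, rfl⟩
  have hD2 : ∀ u ∈ D, u ^ 2 = 1 := by
    intro u hu
    obtain ⟨v, hv, rfl⟩ := hD u hu
    rw [conj_pow, hF3 v hv]; group
  have hDr : ∀ u ∈ D, u ∈ (em (K := K) 2 f).range := by
    intro u hu
    refine mem_range hK hk f ?_ (n := 2) (by norm_num) (hD2 u hu)
    obtain ⟨v, hv, rfl⟩ := hD u hu
    rw [hτ, hF2 v hv]
  have hDcard : Nat.card D = 2 ^ o₂.m := by
    rw [← hF4, hDdef]
    exact Nat.card_congr (E.equivMapOfInjective _ (MulAut.conj z).injective).toEquiv.symm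
  have hu2 : (z * u₁ * z⁻¹) ^ 2 = 1 := by rw [conj_pow, hE3 u₁ hu₁]; group
  refine Abs.nreg hna (em_injective f) (σ := sg k) (sg_em hK f) (P := P) ?_ (u₀ := z * u₁ * z⁻¹) ?_ ?_ hu2 ?_
    (D := D) hDr ?_ ?_ ?_
  · rintro rfl
    have h1 := (Subgroup.mem_bot.1 hx0)
    rw [h1, map_one] at ex0
    apply hc1
    have h2 : z * tz ζ c * z⁻¹ = z * 1 * z⁻¹ := by rw [← ex0]; group
    exact conj_inj h2
  · refine mem_range hK hk f ?_ (n := 2) (by norm_num) hu2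
    rw [hτ, hE2 u₁ hu₁]
  · intro h
    have h2 : z * u₁ * z⁻¹ = z * 1 * z⁻¹ := by rw [h]; group
    exact hu₁1 (conj_inj h2)
  · refine hcomP _ ?_
    have h1 := comm_tor hk (S := {a | a ∈ rootList ∧ ch hp a (tz ζ c) = 1}) (fun a ha => ha.1) hcT
      (fun a ha => ha.2) (y := u₁) (by rw [hSx]; exact hE1 hu₁)
    calc z * u₁ * z⁻¹ * (z * tz ζ c * z⁻¹) = z * (u₁ * tz ζ c) * z⁻¹ := by group
      _ = z * (tz ζ c * u₁) * z⁻¹ := by rw [h1]
      _ = _ := by group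
  · intro u hu v hv hv2 hvP
    obtain ⟨u', hu', rfl⟩ := hD u hu
    have h1 := hcomt v hvP
    have h2 : (z⁻¹ * v * z) ^ 2 = 1 := by
      have := conj_pow (i := 2) (a := z⁻¹) (b := v)
      rw [inv_inv] at this
      rw [this, hv2]; group
    have h3 := cent_inv hk hpp hp5 hcT hcp h1 h2
    rw [hSx] at h3
    have h4 := comm_Sup hk (S := {a | a ∈ rootList ∧ (p : ℤ) ∣ dot c a})
      (S' := {a | a ∈ rootList ∧ ∀ r ∈ sr', bil r a = 0}) (fun a ha => ha.1) (fun a ha => ha.1)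
      (fun a ha b hb => by rw [N.perp a ha.1 ha.2 b hb.1 hb.2]) h3 (hF1 hu')
    calc z * u' * z⁻¹ * v = z * (u' * (z⁻¹ * v * z)) * z⁻¹ := by group
      _ = z * ((z⁻¹ * v * z) * u') * z⁻¹ := by rw [h4]
      _ = _ := by group
  · intro hDn
    have hord : orderOf (z * tz ζ c * z⁻¹) = p := by
      have hpf : Fact p.Prime := ⟨hpp⟩
      apply orderOf_eq_prime
      · rw [conj_pow, hcp]; group
      · intro h
        apply hc1
        have h2 : z * tz ζ c * z⁻¹ = z * 1 * z⁻¹ := by rw [h]; group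
        exact conj_inj h2
    obtain ⟨u, hu, hu1, huc⟩ := Abs.exists_cent_prime hpp hord hD2 (by
      rw [hDcard]
      have h4 : 2 ^ 2 ≤ 2 ^ o₂.m := Nat.pow_le_pow_right (by norm_num) N.two
      omega) (fun u hu => by
        have h1 := hDn u hu x0 hx0
        rw [ex0] at h1
        obtain ⟨x, hx, e⟩ := h1
        obtain ⟨m, hm⟩ := hgen x hx
        rw [← e, hm]
        exact Subgroup.zpow_mem _ (Subgroup.mem_zpowers _) m)
    exact ⟨u, hu, hu1, hcomP u huc⟩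
  · intro u hu huP
    obtain ⟨v, hv, rfl⟩ := hD u hu
    have h1 := hcomt _ huP
    have h2 : z⁻¹ * (z * v * z⁻¹) * z = v := by group
    rw [h2] at h1
    have h3 := comm_tor hk (S := {a | a ∈ rootList ∧ ∀ r ∈ sr', bil r a = 0}) (fun a ha => ha.1) hcT'
      (fun a ha => by rw [ch_tz hk hζ0 _ ha.1]; exact (hζ.zpow_eq_one_iff_dvd _).2 (N.triv a ha.1 ha.2)) (hF1 hv)
    have h4 : v ∈ TT chevE6 k := by
      refine cent_reg hk hpp hp5 (S := {tz ζ c, tz ζ c'}) (Set.toFinite _) ?_ ?_ ?_ ?_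
      · rintro s (rfl | rfl)
        · exact hcT
        · exact hcT'
      · rintro s (rfl | rfl)
        · exact hcp
        · exact hcp'
      · intro a ha
        by_cases h5 : (p : ℤ) ∣ dot c a
        · refine ⟨tz ζ c', Or.inr rfl, ?_⟩
          rw [ch_tz hk hζ0 _ ha, Ne, hζ.zpow_eq_one_iff_dvd]
          exact N.reg a ha h5
        · refine ⟨tz ζ c, Or.inl rfl, ?_⟩
          rwa [ch_tz hk hζ0 _ ha, Ne, hζ.zpow_eq_one_iff_dvd]
      · rintro s (rfl | rfl)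
        · exact h1
        · exact h3
    rw [eq_one_of_sq hk h4 (hF3 v hv)]
    group

end Cfsg.Agent.H897.Cas
end

-- part: H897/Syl
section
/-!
# Sylow subgroups of `²E₆(2)` for the primes `> 5` in frames (S5740)
-/

set_option autoImplicit false
set_option linter.unusedSectionVars false

namespace Cfsg.Agent.H897.Syl

open CoxeterSystem Cfsg Cfsg.Lie Cfsg.Agent.ChevalleyStructure Cfsg.Agent.ChevalleyStructure.Elts
  Cfsg.Agent.ChevalleyStructure.CoxeterGeom Cfsg.Agent.ChevalleyStructure.CoxeterGeomTypes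
  Cfsg.Agent.Tits.Roots
  Cfsg.Agent.Tits.Core Cfsg.Agent.Nodes.Reps
  Cfsg.Agent.Nodes.BNOf Cfsg.Agent.Nodes.RGDChev Cfsg.Agent.KFacts.RgdField Cfsg.Agent.KFacts.RgdChevCoord
  Cfsg.Agent.BpExc.Tow Cfsg.Agent.BpExc.TowChev Cfsg.Agent.BpExc.LangFr Cfsg.Agent.BpExc.Fr
  Cfsg.Agent.BpExc.TorCent Cfsg.Agent.H897.Lat Cfsg.Agent.H897.Sg Cfsg.Agent.H897.Tor Cfsg.Agent.H897.Cen
  Cfsg.Agent.H897.Orb Cfsg.Agent.H897.Emb Cfsg.Agent.H897.Frm Cfsg.Agent.H897.Cas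
open Cfsg.Agent.BpExc.FamTw.Six (em coe_em em_injective sig_em)
open scoped Pointwise

universe u v

variable {K : Type u} [Field K] [Fintype K] (hK : Fintype.card K = 4) {k : Type v} [Field k] [CharP k 2]
  [IsAlgClosed k] (hk : LocFin k) (f : K →+* k)

include hK in
theorem card_G : Nat.card ↥(twistedE6 K 2) = 76532479683774853939200 := Cfsg.Agent.BabyU.CentT1.card_E K hK

include hK hk in
/-- **All `p`-subgroups lie in the conjugates of a toral one of the right order.** -/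
theorem exists_frame_le {ws : List V} (hws : ∀ a ∈ ws, a ∈ rootList) {p r : ℕ} (hpp : p.Prime) (hp3 : p ≠ 3)
    (hr : ¬ p ^ (r + 1) ∣ 76532479683774853939200) {T : Subgroup ↥(chevE6.group k)} (hT : Nat.card T = p ^ r)
    (hTp : ∀ t ∈ T, t ^ p = 1) (hfix : ∀ z, IsFrame hk ws z → ∀ t ∈ T, sg k (z * t * z⁻¹) = z * t * z⁻¹)
    {P : Subgroup ↥(twistedE6 K 2)} (hP : IsPGroup p P) :
    ∃ z, IsFrame hk ws z ∧ ∀ x ∈ P, ∃ t ∈ T, em 2 f x = z * t * z⁻¹ := by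
  have hpf : Fact p.Prime := ⟨hpp⟩
  have hfinG : Finite ↥(twistedE6 K 2) := Nat.finite_of_card_ne_zero (by rw [card_G hK]; norm_num)
  obtain ⟨z, hz⟩ := exists_isFrame (k := k) hk ws hws
  obtain ⟨Q, hQ⟩ : ∃ Q : Subgroup ↥(twistedE6 K 2), Q = (T.map (MulAut.conj z).toMonoidHom).comap (em 2 f) := ⟨_, rfl⟩
  have hmemQ : ∀ x, x ∈ Q ↔ ∃ t ∈ T, z * t * z⁻¹ = em 2 f x := by
    intro x
    rw [hQ, Subgroup.mem_comap, Subgroup.mem_map]
    rfl
  have hrange : ∀ t ∈ T, z * t * z⁻¹ ∈ (em (K := K) 2 f).range := by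
    intro t ht
    refine mem_range hK hk f (hfix z hz t ht) (n := p) ?_ ?_
    · exact (Nat.coprime_primes hpp Nat.prime_three).2 hp3
    · rw [conj_pow, hTp t ht]; group
  have hcard : Nat.card Q = p ^ r := by
    rw [← hT]
    choose! q hq using fun t ht => hrange t ht
    refine (Nat.card_congr (Equiv.ofBijective (fun t : T => (⟨q t, (hmemQ _).2 ⟨t, t.2, (hq t t.2).symm⟩⟩ : Q))
      ⟨?_, ?_⟩)).symm
    · intro t t' h
      have h1 : q (t : ↥(chevE6.group k)) = q (t' : ↥(chevE6.group k)) := congrArg Subtype.val h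
      have h2 := congrArg (em (K := K) 2 f) h1
      rw [hq t t.2, hq t' t'.2] at h2
      exact Subtype.ext (conj_inj h2)
    · rintro ⟨x, hx⟩
      obtain ⟨t, ht, e⟩ := (hmemQ x).1 hx
      refine ⟨⟨t, ht⟩, Subtype.ext (em_injective (K := K) (q := 2) f ?_)⟩
      show em 2 f (q t) = em 2 f x
      rw [hq t ht, e]
  have hQp : IsPGroup p Q := IsPGroup.of_card hcard
  have hidx : ¬ p ∣ Q.index := by
    intro h
    apply hr
    rw [← card_G hK, ← Q.card_mul_index, hcard, pow_succ]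
    exact Nat.mul_dvd_mul_left _ h
  obtain ⟨S, hS⟩ := hP.exists_le_sylow
  obtain ⟨g, hg⟩ := MulAction.exists_smul_eq ↥(twistedE6 K 2) (hQp.toSylow hidx) S
  refine ⟨em 2 f g * z, hz.mul hk (sg_em hK f g), fun x hx => ?_⟩
  have h1 : x ∈ (g • hQp.toSylow hidx : Sylow p ↥(twistedE6 K 2)) := by
    rw [hg]; exact hS hx
  rw [Sylow.smul_def] at h1
  have h2 : g⁻¹ * x * g ∈ Q := by
    have h3 : x ∈ MulAut.conj g • Q := h1
    rw [Subgroup.mem_pointwise_smul_iff_inv_smul_mem] at h3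
    have h4 : (MulAut.conj g)⁻¹ • x = g⁻¹ * x * g := by
      rw [MulAut.smul_def, MulAut.conj_inv_apply]
    rwa [h4] at h3
  obtain ⟨t, ht, e⟩ := (hmemQ _).1 h2
  refine ⟨t, ht, ?_⟩
  have h3 : em 2 f x = em 2 f g * em 2 f (g⁻¹ * x * g) * (em 2 f g)⁻¹ := by
    rw [← map_inv, ← map_mul, ← map_mul]
    congr 1
    group
  rw [h3, ← e]
  group

/-- the fixed elements of a frame -/
theorem frame_fix {ws : List V} {l : ℕ} (hl : 0 < l) {ζ : k} (hζ : IsPrimitiveRoot ζ l) {c : V}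
    (hc : ∀ i : Fin 6, (l : ℤ) ∣ dot c (actR ws (pm (sr i))) - 2 * c i) {z : ↥(chevE6.group k)}
    (hz : IsFrame hk ws z) : sg k (z * tz ζ c * z⁻¹) = z * tz ζ c * z⁻¹ := by
  obtain ⟨τ, g, F, hg, hτ⟩ := hz.spec
  rw [hτ, tau_tz hk F hl hζ c fun i => by rw [hg]; exact hc i]

include hK hk in
/-- **Sylow subgroups of prime order.** -/
theorem exists_frame_one {ws : List V} (hws : ∀ a ∈ ws, a ∈ rootList) {p : ℕ} (hpp : p.Prime) (hp5 : 5 < p)
    (hr : ¬ p ^ 2 ∣ 76532479683774853939200) {ζ : k} (hζ : IsPrimitiveRoot ζ p) {c : V}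
    (hc : ∀ i : Fin 6, (p : ℤ) ∣ dot c (actR ws (pm (sr i))) - 2 * c i) (hc1 : ∃ i, ¬ (p : ℤ) ∣ c i)
    {P : Subgroup ↥(twistedE6 K 2)} (hP : IsPGroup p P) (hP1 : P ≠ ⊥) :
    ∃ z, IsFrame hk ws z ∧ P.map (em 2 f) = (Subgroup.zpowers (tz ζ c)).map (MulAut.conj z).toMonoidHom := by
  have hpf : Fact p.Prime := ⟨hpp⟩
  have h1 : tz ζ c ≠ 1 := by
    rw [Ne, tz_eq_one_iff hk hpp.pos hζ]
    intro h
    obtain ⟨i, hi⟩ := hc1
    exact hi (h i)
  have hord : orderOf (tz ζ c) = p := orderOf_eq_prime (tz_pow_eq_one hk hpp.pos hζ c) h1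
  obtain ⟨z, hz, h⟩ := exists_frame_le hK hk f hws hpp (r := 1) (by omega) hr
    (T := Subgroup.zpowers (tz ζ c)) (by rw [Nat.card_zpowers, hord, pow_one]) (by
      rintro _ ⟨m, rfl⟩
      show (tz ζ c ^ m) ^ p = 1
      rw [← zpow_natCast, zpow_comm, zpow_natCast, tz_pow_eq_one hk hpp.pos hζ, one_zpow]) (by
      rintro z hz _ ⟨m, rfl⟩
      show sg k (z * tz ζ c ^ m * z⁻¹) = z * tz ζ c ^ m * z⁻¹
      rw [← conj_zpow, map_zpow, frame_fix hk hpp.pos hζ hc hz]) hP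
  refine ⟨z, hz, ?_⟩
  have hle : P.map (em 2 f) ≤ (Subgroup.zpowers (tz ζ c)).map (MulAut.conj z).toMonoidHom := by
    rintro _ ⟨x, hx, rfl⟩
    obtain ⟨t, ht, e⟩ := h x hx
    exact ⟨t, ht, e.symm⟩
  have hcard : Nat.card ((Subgroup.zpowers (tz ζ c)).map (MulAut.conj z).toMonoidHom) = p := by
    rw [← hord, ← Nat.card_zpowers]
    exact Nat.card_congr ((Subgroup.zpowers (tz ζ c)).equivMapOfInjective _ (MulAut.conj z).injective).toEquiv.symm
  have hfin : Finite ((Subgroup.zpowers (tz ζ c)).map (MulAut.conj z).toMonoidHom) :=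
    Nat.finite_of_card_ne_zero (by rw [hcard]; exact hpp.ne_zero)
  have hdvd := Subgroup.card_dvd_of_le hle
  rw [hcard, Nat.dvd_prime hpp] at hdvd
  rcases hdvd with h2 | h2
  · exfalso
    apply hP1
    have h3 := Subgroup.eq_bot_of_card_eq _ h2
    rw [Subgroup.map_eq_bot_iff_of_injective _ (em_injective f)] at h3
    exact h3
  · exact Subgroup.eq_of_le_of_card_ge hle (by rw [h2, hcard])

/-- The homomorphism `(i, j) ↦ tz ζ (i c₁ + j c₂)`. -/
noncomputable def t2 {ζ : k} (hζ0 : ζ ≠ 0) (c₁ c₂ : V) : Multiplicative (ℤ × ℤ) →* ↥(chevE6.group k) :=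
  MonoidHom.mk' (fun x => tz ζ (x.toAdd.1 • c₁ + x.toAdd.2 • c₂)) fun x y => by
    rw [← tz_add hk hζ0]
    congr 1
    show (x.toAdd.1 + y.toAdd.1) • c₁ + (x.toAdd.2 + y.toAdd.2) • c₂ = _
    rw [add_smul, add_smul]
    abel

theorem mem_t2 {ζ : k} (hζ0 : ζ ≠ 0) (c₁ c₂ : V) {t : ↥(chevE6.group k)} :
    t ∈ (t2 hk hζ0 c₁ c₂).range ↔ ∃ i j : ℤ, t = tz ζ (i • c₁ + j • c₂) := by
  constructor
  · rintro ⟨x, rfl⟩
    exact ⟨x.toAdd.1, x.toAdd.2, rfl⟩
  · rintro ⟨i, j, rfl⟩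
    exact ⟨Multiplicative.ofAdd (i, j), rfl⟩

include hk in
theorem tz_mod {ζ : k} {l : ℕ} (hl : 0 < l) (hζ : IsPrimitiveRoot ζ l) (c₁ c₂ : V) (i j : ℤ) :
    tz ζ (i • c₁ + j • c₂) = tz ζ ((i % l) • c₁ + (j % l) • c₂) := by
  rw [tz_eq_iff hk hl hζ]
  intro n
  have h1 : (i • c₁ + j • c₂) n - ((i % l) • c₁ + (j % l) • c₂) n =
      (i - i % l) * c₁ n + (j - j % l) * c₂ n := by
    simp only [Pi.add_apply, Pi.smul_apply, smul_eq_mul]
    ring
  rw [h1]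
  exact dvd_add (Dvd.dvd.mul_right (Int.dvd_self_sub_emod) _) (Dvd.dvd.mul_right (Int.dvd_self_sub_emod) _)

theorem card_t2 {ζ : k} (hζ0 : ζ ≠ 0) (hζ : IsPrimitiveRoot ζ 7) {c₁ c₂ : V} (h14 : c₁ 4 = 1) (h15 : c₁ 5 = 0)
    (h24 : c₂ 4 = 0) (h25 : c₂ 5 = 1) : Nat.card (t2 hk hζ0 c₁ c₂).range = 49 := by
  have h : Nat.card (Fin 7 × Fin 7) = Nat.card (t2 hk hζ0 c₁ c₂).range := by
    refine Nat.card_congr (Equiv.ofBijective (fun x : Fin 7 × Fin 7 =>
      (⟨tz ζ (((x.1 : ℕ) : ℤ) • c₁ + ((x.2 : ℕ) : ℤ) • c₂), (mem_t2 hk hζ0 c₁ c₂).2 ⟨_, _, rfl⟩⟩ :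
        (t2 hk hζ0 c₁ c₂).range)) ⟨?_, ?_⟩)
    · rintro ⟨a, b⟩ ⟨a', b'⟩ hab
      have h1 := congrArg Subtype.val hab
      simp only at h1
      rw [tz_eq_iff hk (by norm_num) hζ] at h1
      have h4 := h1 4
      have h5 := h1 5
      simp only [Pi.add_apply, Pi.smul_apply, smul_eq_mul, h14, h15, h24, h25] at h4 h5
      have ha := a.2
      have ha' := a'.2
      have hb := b.2
      have hb' := b'.2
      apply Prod.ext <;> apply Fin.ext <;> simp only <;> omega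
    · rintro ⟨t, ht⟩
      obtain ⟨i, j, rfl⟩ := (mem_t2 hk hζ0 c₁ c₂).1 ht
      have hi := Int.emod_nonneg i (show (7 : ℤ) ≠ 0 by norm_num)
      have hj := Int.emod_nonneg j (show (7 : ℤ) ≠ 0 by norm_num)
      have hi' := Int.emod_lt_of_pos i (show (0 : ℤ) < 7 by norm_num)
      have hj' := Int.emod_lt_of_pos j (show (0 : ℤ) < 7 by norm_num)
      refine ⟨(⟨(i % 7).toNat, by omega⟩, ⟨(j % 7).toNat, by omega⟩), Subtype.ext ?_⟩
      show tz ζ ((((i % 7).toNat : ℕ) : ℤ) • c₁ + (((j % 7).toNat : ℕ) : ℤ) • c₂) = tz ζ (i • c₁ + j • c₂)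
      rw [Int.toNat_of_nonneg hi, Int.toNat_of_nonneg hj, tz_mod hk (l := 7) (by norm_num) hζ c₁ c₂ i j]
      rfl
  rw [← h, Nat.card_prod, Nat.card_eq_fintype_card, Fintype.card_fin]

include hK hk in
/-- **The 7-subgroups.** -/
theorem exists_frame_seven {ws : List V} (hws : ∀ a ∈ ws, a ∈ rootList) {ζ : k} (hζ : IsPrimitiveRoot ζ 7)
    {c₁ c₂ : V} (h14 : c₁ 4 = 1) (h15 : c₁ 5 = 0) (h24 : c₂ 4 = 0) (h25 : c₂ 5 = 1)
    (hc₁ : ∀ i : Fin 6, (7 : ℤ) ∣ dot c₁ (actR ws (pm (sr i))) - 2 * c₁ i)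
    (hc₂ : ∀ i : Fin 6, (7 : ℤ) ∣ dot c₂ (actR ws (pm (sr i))) - 2 * c₂ i)
    {P : Subgroup ↥(twistedE6 K 2)} (hP : IsPGroup 7 P) (hP1 : P ≠ ⊥) :
    ∃ z, IsFrame hk ws z ∧
      ((Nat.card P = 49 ∧ (∀ x ∈ P, ∃ i j : ℤ, em 2 f x = z * tz ζ (i • c₁ + j • c₂) * z⁻¹) ∧
        ∀ i j : ℤ, ∃ x ∈ P, em 2 f x = z * tz ζ (i • c₁ + j • c₂) * z⁻¹) ∨
      ∃ i j : Fin 7, (i, j) ≠ (0, 0) ∧ P.map (em 2 f) =
        (Subgroup.zpowers (tz ζ (((i : ℕ) : ℤ) • c₁ + ((j : ℕ) : ℤ) • c₂))).map (MulAut.conj z).toMonoidHom) := by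
  have hζ0 : ζ ≠ 0 := hζ.ne_zero (by norm_num)
  have h7 : Nat.Prime 7 := by norm_num
  have hf7 : Fact (Nat.Prime 7) := ⟨h7⟩
  obtain ⟨T, hT⟩ : ∃ T : Subgroup ↥(chevE6.group k), T = (t2 hk hζ0 c₁ c₂).range := ⟨_, rfl⟩
  have hmT : ∀ t, t ∈ T ↔ ∃ i j : ℤ, t = tz ζ (i • c₁ + j • c₂) := fun t => by rw [hT]; exact mem_t2 hk hζ0 c₁ c₂
  have hcT : Nat.card T = 49 := by rw [hT]; exact card_t2 hk hζ0 hζ h14 h15 h24 h25
  have hfix : ∀ i j : ℤ, ∀ z, IsFrame hk ws z → sg k (z * tz ζ (i • c₁ + j • c₂) * z⁻¹) =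
      z * tz ζ (i • c₁ + j • c₂) * z⁻¹ := by
    intro i j z hz
    refine frame_fix hk (l := 7) (by norm_num) hζ (fun n => ?_) hz
    have e : dot (i • c₁ + j • c₂) (actR ws (pm (sr n))) - 2 * (i • c₁ + j • c₂) n =
        i * (dot c₁ (actR ws (pm (sr n))) - 2 * c₁ n) + j * (dot c₂ (actR ws (pm (sr n))) - 2 * c₂ n) := by
      rw [add_dot, smul_dot, smul_dot]
      simp only [Pi.add_apply, Pi.smul_apply, smul_eq_mul]
      ring
    rw [e]
    exact dvd_add (Dvd.dvd.mul_left (hc₁ n) _) (Dvd.dvd.mul_left (hc₂ n) _)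
  obtain ⟨z, hz, h⟩ := exists_frame_le hK hk f hws h7 (r := 2) (by norm_num) (by norm_num) (T := T)
    (by rw [hcT]; norm_num) (by
      intro t ht
      obtain ⟨i, j, rfl⟩ := (hmT t).1 ht
      exact tz_pow_eq_one hk (by norm_num) hζ _) (by
      intro z hz t ht
      obtain ⟨i, j, rfl⟩ := (hmT t).1 ht
      exact hfix i j z hz) hP
  refine ⟨z, hz, ?_⟩
  have hle : P.map (em 2 f) ≤ T.map (MulAut.conj z).toMonoidHom := by
    rintro _ ⟨x, hx, rfl⟩
    obtain ⟨t, ht, e⟩ := h x hx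
    exact ⟨t, ht, e.symm⟩
  have hcard : Nat.card (T.map (MulAut.conj z).toMonoidHom) = 49 := by
    rw [← hcT]
    exact Nat.card_congr (T.equivMapOfInjective _ (MulAut.conj z).injective).toEquiv.symm
  have hfin : Finite (T.map (MulAut.conj z).toMonoidHom) := Nat.finite_of_card_ne_zero (by rw [hcard]; norm_num)
  have hcP : Nat.card (P.map (em 2 f)) = Nat.card P :=
    Nat.card_congr (P.equivMapOfInjective _ (em_injective f)).toEquiv.symm
  have hdvd := Subgroup.card_dvd_of_le hle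
  rw [hcard, show (49 : ℕ) = 7 ^ 2 by norm_num, Nat.dvd_prime_pow h7] at hdvd
  obtain ⟨e, he, hPe⟩ := hdvd
  have he0 : e ≠ 0 := by
    rintro rfl
    apply hP1
    rw [pow_zero, hcP] at hPe
    exact Subgroup.eq_bot_of_card_eq _ hPe
  by_cases he2 : e = 2
  · left
    subst he2
    have heq : P.map (em 2 f) = T.map (MulAut.conj z).toMonoidHom :=
      Subgroup.eq_of_le_of_card_ge hle (by rw [hPe, hcard]; norm_num)
    refine ⟨by rw [← hcP, hPe]; norm_num, fun x hx => ?_, fun i j => ?_⟩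
    · obtain ⟨t, ht, e⟩ := h x hx
      obtain ⟨i, j, rfl⟩ := (hmT t).1 ht
      exact ⟨i, j, e⟩
    · have h1 : z * tz ζ (i • c₁ + j • c₂) * z⁻¹ ∈ T.map (MulAut.conj z).toMonoidHom :=
        ⟨_, (hmT _).2 ⟨i, j, rfl⟩, rfl⟩
      rw [← heq] at h1
      obtain ⟨x, hx, e⟩ := h1
      exact ⟨x, hx, e⟩
  · right
    have he1 : e = 1 := by omega
    subst he1
    rw [pow_one] at hPe
    obtain ⟨⟨x, hx⟩, hx1⟩ := Subgroup.ne_bot_iff_exists_ne_one.1 hP1
    have hx1' : x ≠ 1 := fun h => hx1 (Subtype.ext h)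
    obtain ⟨t, ht, e⟩ := h x hx
    obtain ⟨i, j, rfl⟩ := (hmT t).1 ht
    rw [tz_mod hk (l := 7) (by norm_num) hζ c₁ c₂ i j] at e
    have hi := Int.emod_nonneg i (show (7 : ℤ) ≠ 0 by norm_num)
    have hj := Int.emod_nonneg j (show (7 : ℤ) ≠ 0 by norm_num)
    have hi' := Int.emod_lt_of_pos i (show (0 : ℤ) < 7 by norm_num)
    have hj' := Int.emod_lt_of_pos j (show (0 : ℤ) < 7 by norm_num)
    have e2 : em 2 f x = z * tz ζ (((((⟨(i % 7).toNat, by omega⟩ : Fin 7) : ℕ) : ℤ)) • c₁ +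
        ((((⟨(j % 7).toNat, by omega⟩ : Fin 7) : ℕ) : ℤ)) • c₂) * z⁻¹ := by
      show em 2 f x = z * tz ζ ((((i % 7).toNat : ℕ) : ℤ) • c₁ + (((j % 7).toNat : ℕ) : ℤ) • c₂) * z⁻¹
      rw [Int.toNat_of_nonneg hi, Int.toNat_of_nonneg hj, e]
      rfl
    refine ⟨⟨(i % 7).toNat, by omega⟩, ⟨(j % 7).toNat, by omega⟩, fun h0 => ?_, ?_⟩
    · have h1 := Prod.mk.inj h0
      rw [h1.1, h1.2] at e2
      apply hx1'
      apply em_injective (K := K) (q := 2) f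
      rw [e2, map_one]
      have h3 : ((((0 : Fin 7) : ℕ) : ℤ)) • c₁ + ((((0 : Fin 7) : ℕ) : ℤ)) • c₂ = (0 : V) := by simp
      rw [h3, tz_zero hk hζ0]
      group
    · have hfP : Finite (P.map (em 2 f)) := Nat.finite_of_card_ne_zero (by rw [hPe]; norm_num)
      have hxe1 : em 2 f x ≠ 1 := by
        rw [← map_one (em 2 f)]
        exact fun h => hx1' (em_injective f h)
      have hx7 : (em 2 f x) ^ 7 = 1 := by
        rw [e2, conj_pow, tz_pow_eq_one hk (by norm_num) hζ]; group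
      have hz1 : Subgroup.zpowers (em 2 f x) = P.map (em 2 f) := by
        refine Subgroup.eq_of_le_of_card_ge ?_ ?_
        · rw [Subgroup.zpowers_le]
          exact ⟨x, hx, rfl⟩
        · rw [hPe, Nat.card_zpowers, orderOf_eq_prime hx7 hxe1]
      rw [← hz1, MonoidHom.map_zpowers, e2]
      rfl

end Cfsg.Agent.H897.Syl
end

-- part: H897/Data
section
/-!
# The frame data for the primes `7, 11, 13, 17, 19` (S5740)
-/

set_option autoImplicit false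
set_option maxRecDepth 100000

namespace Cfsg.Agent.H897.Data

open Cfsg Cfsg.Lie Cfsg.Agent.Tits.Roots Cfsg.Agent.H897.Lat Cfsg.Agent.H897.Frm Cfsg.Agent.H897.Cas

/-- the fixed vectors modulo 3 are the multiples of `c3` -/
@[reducible] def One (ws : List V) (c3 : V) : Prop :=
  ∀ a b c d e f : Fin 3, (∀ i : Fin 6, (3 : ℤ) ∣ dot ![((a : ℕ) : ℤ), ((b : ℕ) : ℤ), ((c : ℕ) : ℤ), ((d : ℕ) : ℤ),
      ((e : ℕ) : ℤ), ((f : ℕ) : ℤ)] (actR ws (pm (sr i))) - 2 * (![((a : ℕ) : ℤ), ((b : ℕ) : ℤ), ((c : ℕ) : ℤ),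
      ((d : ℕ) : ℤ), ((e : ℕ) : ℤ), ((f : ℕ) : ℤ)] : V) i) →
    ∃ m : Fin 3, ∀ i : Fin 6, (3 : ℤ) ∣ (![((a : ℕ) : ℤ), ((b : ℕ) : ℤ), ((c : ℕ) : ℤ), ((d : ℕ) : ℤ),
      ((e : ℕ) : ℤ), ((f : ℕ) : ℤ)] : V) i - ((m : ℕ) : ℤ) * c3 i

theorem one_of {ws : List V} {c3 : V} (h : One ws c3) (d : Fin 6 → ℕ) (hd : ∀ i, d i < 3)
    (h1 : ∀ i : Fin 6, (3 : ℤ) ∣ dot (fun j => (d j : ℤ)) (actR ws (pm (sr i))) - 2 * (d i : ℤ)) :
    ∃ m : ℕ, ∀ i, (3 : ℤ) ∣ (d i : ℤ) - m * c3 i := by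
  have e : (fun j => (d j : ℤ)) = ![(((⟨d 0, hd 0⟩ : Fin 3) : ℕ) : ℤ), (((⟨d 1, hd 1⟩ : Fin 3) : ℕ) : ℤ),
      (((⟨d 2, hd 2⟩ : Fin 3) : ℕ) : ℤ), (((⟨d 3, hd 3⟩ : Fin 3) : ℕ) : ℤ), (((⟨d 4, hd 4⟩ : Fin 3) : ℕ) : ℤ),
      (((⟨d 5, hd 5⟩ : Fin 3) : ℕ) : ℤ)] := by
    funext j
    fin_cases j <;> rfl
  obtain ⟨m, hm⟩ := h ⟨d 0, hd 0⟩ ⟨d 1, hd 1⟩ ⟨d 2, hd 2⟩ ⟨d 3, hd 3⟩ ⟨d 4, hd 4⟩ ⟨d 5, hd 5⟩ (by
    intro i
    rw [← e]
    exact h1 i)
  refine ⟨m, fun i => ?_⟩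
  have h2 := hm i
  rw [← e] at h2
  exact h2

/-- the frame for 19 -/
def ws19 : List V := [![0,0,0,1,0,0], ![0,0,1,0,0,0], ![0,1,0,0,0,0], ![1,0,0,0,0,0]]

theorem ws19_mem : ∀ a ∈ ws19, a ∈ rootList := by decide +kernel

/-- the torus element for 19 -/
def c19 : V := ![10,18,4,3,5,1]

theorem c19_fix : ∀ i : Fin 6, ((19 : ℕ) : ℤ) ∣ dot c19 (actR ws19 (pm (sr i))) - 2 * c19 i := by decide +kernel

theorem c19_ne : ∃ i, ¬ ((19 : ℕ) : ℤ) ∣ c19 i := ⟨5, by decide +kernel⟩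

theorem c19_reg : ∀ a ∈ rootList, ¬ ((19 : ℕ) : ℤ) ∣ dot c19 a := by decide +kernel

/-- the orbit data for 19 -/
def o19 : OD := ⟨[![0,0,0,1,0,0]], ![1,1,1,2,1,0], 3, ![0,0,0,1,0,1]⟩

theorem one19 : One ws19 ![2,1,2,0,1,1] := by decide +kernel

theorem ok19 : RegOK ws19 ![2,1,2,0,1,1] o19 where
  fix := by decide +kernel
  ne := ⟨0, by decide +kernel⟩
  one := one_of one19
  stab := by decide +kernel
  orb := by decide +kernel

/-- the frame for 17 -/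
def ws17 : List V := [![0,0,0,1,0,0], ![0,0,1,0,0,0], ![0,1,0,0,0,0]]

theorem ws17_mem : ∀ a ∈ ws17, a ∈ rootList := by decide +kernel

/-- the torus element for 17 -/
def c17 : V := ![9,1,13,14,12,1]

theorem c17_fix : ∀ i : Fin 6, ((17 : ℕ) : ℤ) ∣ dot c17 (actR ws17 (pm (sr i))) - 2 * c17 i := by decide +kernel

theorem c17_ne : ∃ i, ¬ ((17 : ℕ) : ℤ) ∣ c17 i := ⟨5, by decide +kernel⟩

theorem c17_reg : ∀ a ∈ rootList, ¬ ((17 : ℕ) : ℤ) ∣ dot c17 a := by decide +kernel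

/-- the orbit data for 17 -/
def o17 : OD := ⟨[![0,0,0,0,1,0]], ![0,0,1,1,0,0], 3, ![0,1,0,2,1,0]⟩

theorem one17 : One ws17 ![2,0,0,0,0,1] := by decide +kernel

theorem ok17 : RegOK ws17 ![2,0,0,0,0,1] o17 where
  fix := by decide +kernel
  ne := ⟨0, by decide +kernel⟩
  one := one_of one17
  stab := by decide +kernel
  orb := by decide +kernel

/-- the frame for 13 -/
def ws13 : List V := [![0,0,1,0,0,0], ![0,0,0,1,0,0], ![1,0,0,0,0,0], ![0,0,1,0,0,0], ![0,1,0,0,0,0], ![1,0,0,0,0,0]]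

theorem ws13_mem : ∀ a ∈ ws13, a ∈ rootList := by decide +kernel

/-- the torus element for 13 -/
def c13 : V := ![7,12,5,11,7,1]

theorem c13_fix : ∀ i : Fin 6, ((13 : ℕ) : ℤ) ∣ dot c13 (actR ws13 (pm (sr i))) - 2 * c13 i := by decide +kernel

theorem c13_ne : ∃ i, ¬ ((13 : ℕ) : ℤ) ∣ c13 i := ⟨5, by decide +kernel⟩

theorem c13_reg : ∀ a ∈ rootList, ¬ ((13 : ℕ) : ℤ) ∣ dot c13 a := by decide +kernel

/-- the orbit data for 13 -/
def o13 : OD := ⟨[![0,0,1,1,0,0]], ![0,1,1,2,1,1], 3, ![0,0,0,1,1,2]⟩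

theorem one13 : One ws13 ![2,0,2,1,1,1] := by decide +kernel

theorem ok13 : RegOK ws13 ![2,0,2,1,1,1] o13 where
  fix := by decide +kernel
  ne := ⟨0, by decide +kernel⟩
  one := one_of one13
  stab := by decide +kernel
  orb := by decide +kernel

/-- the frame for 49 -/
def ws49 : List V := [![0,1,0,1,0,0], ![0,1,0,0,0,0], ![1,1,1,2,2,1], ![0,1,1,2,2,1]]

theorem ws49_mem : ∀ a ∈ ws49, a ∈ rootList := by decide +kernel

/-- a torus element for 49 -/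
def c49a : V := ![0,5,1,3,1,0]

theorem c49a_fix : ∀ i : Fin 6, (7 : ℤ) ∣ dot c49a (actR ws49 (pm (sr i))) - 2 * c49a i := by decide +kernel

/-- a torus element for 49 -/
def c49b : V := ![4,6,5,5,0,1]

theorem c49b_fix : ∀ i : Fin 6, (7 : ℤ) ∣ dot c49b (actR ws49 (pm (sr i))) - 2 * c49b i := by decide +kernel

theorem c49_reg : ∀ a ∈ rootList, (7 : ℤ) ∣ dot c49a a → ¬ (7 : ℤ) ∣ dot c49b a := by decide +kernel

/-- the orbit data for 49 -/
def o49 : OD := ⟨[![0,0,0,1,0,0]], ![0,0,1,1,0,0], 3, ![0,0,0,1,0,2]⟩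

theorem one49 : One ws49 ![2,0,0,0,2,1] := by decide +kernel

theorem ok49 : RegOK ws49 ![2,0,0,0,2,1] o49 where
  fix := by decide +kernel
  ne := ⟨0, by decide +kernel⟩
  one := one_of one49
  stab := by decide +kernel
  orb := by decide +kernel

/-- the frame for 11 -/
def ws11 : List V := [![0,0,0,1,0,0], ![0,0,1,0,0,0], ![1,0,0,0,0,0]]

theorem ws11_mem : ∀ a ∈ ws11, a ∈ rootList := by decide +kernel

/-- the torus element for 11 -/
def c11 : V := ![6,1,2,1,3,1]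

theorem c11_fix : ∀ i : Fin 6, ((11 : ℕ) : ℤ) ∣ dot c11 (actR ws11 (pm (sr i))) - 2 * c11 i := by decide +kernel

theorem c11_ne : ∃ i, ¬ ((11 : ℕ) : ℤ) ∣ c11 i := ⟨5, by decide +kernel⟩

theorem n11 : NregOK ws11 11 c11 ![0,6,0,0,0,0] [![1,2,2,3,2,1]] ⟨[], ![1,2,2,3,2,1], 1, ![0,0,0,0,0,1]⟩ ⟨[![0,0,0,1,0,0]], ![0,0,0,1,1,0], 3, ![0,0,0,0,1,2]⟩ where
  fix := by decide +kernel
  ne := ⟨0, by decide +kernel⟩
  reg := by decide +kernel
  triv := by decide +kernel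
  perp := by decide +kernel
  stab₁ := by decide +kernel
  stab₂ := by decide +kernel
  orb₁ := by decide +kernel
  orb₂ := by decide +kernel
  two := by decide +kernel

theorem n49_0 : NregOK ws49 7 ![4,6,5,5,0,1] ![5,0,0,6,5,3] [![0,0,0,0,1,0], ![1,0,1,1,0,0], ![0,1,1,2,1,0], ![1,1,1,1,1,1]] ⟨[![0,0,0,0,1,0], ![1,0,1,1,1,0]], ![0,0,0,0,1,0], 2, ![0,0,0,0,1,1]⟩ ⟨[![0,0,1,0,0,0]], ![0,0,1,0,0,0], 2, ![0,0,1,0,0,0]⟩ where
  fix := by decide +kernel
  ne := ⟨0, by decide +kernel⟩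
  reg := by decide +kernel
  triv := by decide +kernel
  perp := by decide +kernel
  stab₁ := by decide +kernel
  stab₂ := by decide +kernel
  orb₁ := by decide +kernel
  orb₂ := by decide +kernel
  two := by decide +kernel

theorem n49_1 : NregOK ws49 7 ![0,5,1,3,1,0] ![4,0,2,0,2,2] [![0,0,0,0,0,1], ![1,0,0,0,0,0], ![0,1,1,2,2,1], ![1,1,2,2,1,0]] ⟨[![0,0,0,0,0,1], ![0,1,1,2,2,1]], ![0,0,0,0,0,1], 2, ![0,0,0,0,0,1]⟩ ⟨[![0,0,0,1,0,0]], ![0,0,0,1,0,0], 2, ![0,0,0,1,0,0]⟩ where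
  fix := by decide +kernel
  ne := ⟨1, by decide +kernel⟩
  reg := by decide +kernel
  triv := by decide +kernel
  perp := by decide +kernel
  stab₁ := by decide +kernel
  stab₂ := by decide +kernel
  orb₁ := by decide +kernel
  orb₂ := by decide +kernel
  two := by decide +kernel

theorem n49_2 : NregOK ws49 7 ![4,4,6,1,1,1] ![3,2,5,4,3,6] [![0,0,1,1,0,0], ![0,1,0,1,1,1]] ⟨[![0,0,1,1,0,0]], ![0,0,1,1,0,0], 2, ![0,0,0,1,0,2]⟩ ⟨[![0,0,0,1,1,0], ![0,1,1,1,1,0]], ![0,0,0,1,1,0], 2, ![0,0,0,0,1,2]⟩ where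
  fix := by decide +kernel
  ne := ⟨0, by decide +kernel⟩
  reg := by decide +kernel
  triv := by decide +kernel
  perp := by decide +kernel
  stab₁ := by decide +kernel
  stab₂ := by decide +kernel
  orb₁ := by decide +kernel
  orb₂ := by decide +kernel
  two := by decide +kernel

theorem n49_3 : NregOK ws49 7 ![1,3,4,6,1,2] ![5,5,5,2,0,0] [![0,0,0,1,1,0], ![0,1,1,1,1,0], ![1,1,1,1,0,0], ![1,0,1,1,1,1]] ⟨[![0,0,0,1,1,0], ![0,1,1,1,1,0]], ![0,0,0,1,1,0], 2, ![0,0,0,0,1,2]⟩ ⟨[![0,0,1,1,0,0]], ![0,0,1,1,0,0], 2, ![0,0,0,1,0,2]⟩ where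
  fix := by decide +kernel
  ne := ⟨0, by decide +kernel⟩
  reg := by decide +kernel
  triv := by decide +kernel
  perp := by decide +kernel
  stab₁ := by decide +kernel
  stab₂ := by decide +kernel
  orb₁ := by decide +kernel
  orb₂ := by decide +kernel
  two := by decide +kernel

theorem n49_4 : NregOK ws49 7 ![5,2,2,4,1,3] ![2,4,4,6,0,0] [![1,0,1,0,0,0], ![0,0,1,1,1,0], ![0,1,0,1,1,0], ![1,1,1,2,1,1]] ⟨[![1,0,1,0,0,0], ![0,1,0,1,1,0]], ![1,0,1,0,0,0], 2, ![0,0,1,0,2,0]⟩ ⟨[![0,0,0,0,1,1]], ![0,0,0,0,1,1], 2, ![0,0,0,1,0,2]⟩ where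
  fix := by decide +kernel
  ne := ⟨0, by decide +kernel⟩
  reg := by decide +kernel
  triv := by decide +kernel
  perp := by decide +kernel
  stab₁ := by decide +kernel
  stab₂ := by decide +kernel
  orb₁ := by decide +kernel
  orb₂ := by decide +kernel
  two := by decide +kernel

theorem n49_5 : NregOK ws49 7 ![2,1,0,2,1,4] ![1,3,1,5,0,4] [![0,0,1,0,0,0], ![0,0,0,1,1,1]] ⟨[![0,0,1,0,0,0]], ![0,0,1,0,0,0], 2, ![0,0,1,0,0,0]⟩ ⟨[![0,0,0,0,1,0], ![1,0,1,1,1,0]], ![0,0,0,0,1,0], 2, ![0,0,0,0,1,1]⟩ where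
  fix := by decide +kernel
  ne := ⟨0, by decide +kernel⟩
  reg := by decide +kernel
  triv := by decide +kernel
  perp := by decide +kernel
  stab₁ := by decide +kernel
  stab₂ := by decide +kernel
  orb₁ := by decide +kernel
  orb₂ := by decide +kernel
  two := by decide +kernel

theorem n49_6 : NregOK ws49 7 ![6,0,5,0,1,5] ![0,2,2,3,2,0] [![0,0,0,1,0,0], ![0,1,0,0,0,0]] ⟨[![0,0,0,1,0,0]], ![0,0,0,1,0,0], 2, ![0,0,0,1,0,0]⟩ ⟨[![0,0,0,0,0,1], ![0,1,1,2,2,1]], ![0,0,0,0,0,1], 2, ![0,0,0,0,0,1]⟩ where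
  fix := by decide +kernel
  ne := ⟨0, by decide +kernel⟩
  reg := by decide +kernel
  triv := by decide +kernel
  perp := by decide +kernel
  stab₁ := by decide +kernel
  stab₂ := by decide +kernel
  orb₁ := by decide +kernel
  orb₂ := by decide +kernel
  two := by decide +kernel

theorem n49_7 : NregOK ws49 7 ![3,6,3,5,1,6] ![1,6,6,0,1,0] [![0,0,0,0,1,1], ![0,1,1,1,0,0]] ⟨[![0,0,0,0,1,1]], ![0,0,0,0,1,1], 2, ![0,0,0,1,0,2]⟩ ⟨[![1,0,1,0,0,0], ![0,1,0,1,1,0]], ![1,0,1,0,0,0], 2, ![0,0,1,0,2,0]⟩ where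
  fix := by decide +kernel
  ne := ⟨0, by decide +kernel⟩
  reg := by decide +kernel
  triv := by decide +kernel
  perp := by decide +kernel
  stab₁ := by decide +kernel
  stab₂ := by decide +kernel
  orb₁ := by decide +kernel
  orb₂ := by decide +kernel
  two := by decide +kernel

/-- the eight lines -/
def lines : List V := [![4,6,5,5,0,1], ![0,5,1,3,1,0], ![4,4,6,1,1,1], ![1,3,4,6,1,2], ![5,2,2,4,1,3], ![2,1,0,2,1,4], ![6,0,5,0,1,5], ![3,6,3,5,1,6]]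

theorem lines_ok : ∀ c ∈ lines, ∃ (c' : V) (sr' : List V) (o₁ o₂ : OD), NregOK ws49 7 c c' sr' o₁ o₂ := by
  intro c hc
  simp only [lines, List.mem_cons, List.not_mem_nil, or_false] at hc
  rcases hc with rfl | rfl | rfl | rfl | rfl | rfl | rfl | rfl
  · exact ⟨_, _, _, _, n49_0⟩
  · exact ⟨_, _, _, _, n49_1⟩
  · exact ⟨_, _, _, _, n49_2⟩
  · exact ⟨_, _, _, _, n49_3⟩
  · exact ⟨_, _, _, _, n49_4⟩
  · exact ⟨_, _, _, _, n49_5⟩
  · exact ⟨_, _, _, _, n49_6⟩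
  · exact ⟨_, _, _, _, n49_7⟩

theorem cover : ∀ i j : Fin 7, (i, j) ≠ (0, 0) → ∃ c ∈ lines, ∃ m : Fin 7, m ≠ 0 ∧ ∀ n : Fin 6,
    (7 : ℤ) ∣ ((i : ℕ) : ℤ) * c49a n + ((j : ℕ) : ℤ) * c49b n - ((m : ℕ) : ℤ) * c n := by decide +kernel

end Cfsg.Agent.H897.Data
end
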