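import Cfsg.Agent.H897.Data
set_option linter.all false

/-!
# The local subgroups of `²E₆(2)` for the primes `> 5` (S5740)
-/

set_option autoImplicit false
set_option linter.unusedSectionVars false

namespace Cfsg.Agent.H897.Fin

open CoxeterSystem Cfsg Cfsg.Lie Cfsg.Agent.ChevalleyStructure Cfsg.Agent.ChevalleyStructure.Elts
  Cfsg.Agent.ChevalleyStructure.CoxeterGeom Cfsg.Agent.ChevalleyStructure.CoxeterGeomTypes
  Cfsg.Agent.Tits.Roots
  Cfsg.Agent.Tits.Core Cfsg.Agent.Nodes.Reps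
  Cfsg.Agent.Nodes.BNOf Cfsg.Agent.Nodes.RGDChev Cfsg.Agent.KFacts.RgdField Cfsg.Agent.KFacts.RgdChevCoord
  Cfsg.Agent.BpExc.Tow Cfsg.Agent.BpExc.TowChev Cfsg.Agent.BpExc.LangFr Cfsg.Agent.BpExc.Fr
  Cfsg.Agent.BpExc.TorCent Cfsg.Agent.H897.Lat Cfsg.Agent.H897.Sg Cfsg.Agent.H897.Tor Cfsg.Agent.H897.Cen
  Cfsg.Agent.H897.Orb Cfsg.Agent.H897.Emb Cfsg.Agent.H897.Frm Cfsg.Agent.H897.Cas Cfsg.Agent.H897.Syl
  Cfsg.Agent.H897.Data
open Cfsg.Agent.BpExc.FamTw.Six (em coe_em em_injective sig_em)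
open scoped Pointwise

universe u v

variable {K : Type u} [Field K] [Fintype K] (hK : Fintype.card K = 4) {k : Type v} [Field k] [CharP k 2]
  [IsAlgClosed k] (hk : LocFin k) (f : K →+* k)

include hK hk f in
/-- primes whose square does not divide the order, regular case -/
theorem main_one {ws : List V} {c c3 : V} {o : OD} (R : RegOK ws c3 o) (hom : 2 ≤ o.m)
    (hws : ∀ a ∈ ws, a ∈ rootList) {p : ℕ} (hpp : p.Prime) (hp5 : 5 < p) (hr : ¬ p ^ 2 ∣ 76532479683774853939200)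
    (hc : ∀ i : Fin 6, (p : ℤ) ∣ dot c (actR ws (pm (sr i))) - 2 * c i) (hc1 : ∃ i, ¬ (p : ℤ) ∣ c i)
    (hreg : ∀ a ∈ rootList, ¬ (p : ℤ) ∣ dot c a)
    {P : Subgroup ↥(twistedE6 K 2)} (hP : IsPGroup p P) (hP1 : P ≠ ⊥) :
    ¬ IsCoatom (Subgroup.normalizer (P : Set ↥(twistedE6 K 2))) := by
  have hpf : Fact p.Prime := ⟨hpp⟩
  obtain ⟨ζ, hζ⟩ := exists_prim (k := k) (l := p) (by
    intro h
    have := (Nat.prime_dvd_prime_iff_eq Nat.prime_two hpp).1 h
    omega)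
  have hζ0 : ζ ≠ 0 := hζ.ne_zero hpp.ne_zero
  obtain ⟨z, hz, hPm⟩ := exists_frame_one hK hk f hws hpp hp5 hr hζ hc hc1 hP hP1
  obtain ⟨hcT, -⟩ := tz_spec (ζ := ζ) hζ0 c
  have hcp := tz_pow_eq_one hk hpp.pos hζ c
  have h1 : tz ζ c ≠ 1 := by
    rw [Ne, tz_eq_one_iff hk hpp.pos hζ]
    intro h
    obtain ⟨i, hi⟩ := hc1
    exact hi (h i)
  obtain ⟨x0, hx0, ex0⟩ : ∃ x ∈ P, em 2 f x = z * tz ζ c * z⁻¹ := by
    have h2 : z * tz ζ c * z⁻¹ ∈ (Subgroup.zpowers (tz ζ c)).map (MulAut.conj z).toMonoidHom :=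
      ⟨tz ζ c, Subgroup.mem_zpowers _, rfl⟩
    rw [← hPm] at h2
    obtain ⟨x, hx, e⟩ := h2
    exact ⟨x, hx, e⟩
  have hgen : ∀ x ∈ P, ∃ m : ℤ, em 2 f x = z * (tz ζ c) ^ m * z⁻¹ := by
    intro x hx
    have h2 : em 2 f x ∈ P.map (em 2 f) := ⟨x, hx, rfl⟩
    rw [hPm] at h2
    obtain ⟨_, ⟨m, rfl⟩, e⟩ := h2
    exact ⟨m, e.symm⟩
  refine reg hK hk f R hz hpp hp5 (S := {tz ζ c}) (Set.finite_singleton _) ?_ ?_ ?_ ?_ ?_ ?_
  · rintro s rfl
    exact hcT
  · rintro s rfl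
    exact hcp
  · intro a ha
    refine ⟨tz ζ c, rfl, ?_⟩
    rw [ch_tz hk hζ0 _ ha, Ne, hζ.zpow_eq_one_iff_dvd]
    exact hreg a ha
  · rintro s rfl
    exact ⟨x0, hx0, ex0⟩
  · intro x hx
    obtain ⟨m, hm⟩ := hgen x hx
    exact ⟨_, zpow_mem hcT m, hm⟩
  · intro D hD2 hDc hDn
    have hord : orderOf (z * tz ζ c * z⁻¹) = p := by
      apply orderOf_eq_prime
      · rw [conj_pow, hcp]; group
      · intro h
        apply h1
        have h2 : z * tz ζ c * z⁻¹ = z * 1 * z⁻¹ := by rw [h]; group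
        exact conj_inj h2
    obtain ⟨u, hu, hu1, huc⟩ := Abs.exists_cent_prime hpp hord hD2 (by
      rw [hDc]
      have h4 : 2 ^ 2 ≤ 2 ^ o.m := Nat.pow_le_pow_right (by norm_num) hom
      omega) (fun u hu => by
        have h1 := hDn u hu x0 hx0
        rw [ex0] at h1
        obtain ⟨x, hx, e⟩ := h1
        obtain ⟨m, hm⟩ := hgen x hx
        rw [← e, hm, ← conj_zpow]
        exact Subgroup.zpow_mem _ (Subgroup.mem_zpowers _) m)
    refine ⟨u, hu, hu1, fun x hx => ?_⟩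
    obtain ⟨m, hm⟩ := hgen x hx
    rw [hm, ← conj_zpow]
    exact (Commute.zpow_right (show Commute u _ from huc) m).eq

include hK hk f in
/-- the prime 11 -/
theorem main_eleven {P : Subgroup ↥(twistedE6 K 2)} (hP : IsPGroup 11 P) (hP1 : P ≠ ⊥) :
    ¬ IsCoatom (Subgroup.normalizer (P : Set ↥(twistedE6 K 2))) := by
  obtain ⟨ζ, hζ⟩ := exists_prim (k := k) (l := 11) (by norm_num)
  obtain ⟨z, hz, hPm⟩ := exists_frame_one hK hk f ws11_mem (p := 11) (by norm_num) (by norm_num) (by norm_num) hζ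
    c11_fix c11_ne hP hP1
  exact nreg hK hk f n11 hz (by norm_num) (by norm_num) hζ hPm

include hK hk f in
/-- the prime 7 -/
theorem main_seven {P : Subgroup ↥(twistedE6 K 2)} (hP : IsPGroup 7 P) (hP1 : P ≠ ⊥) :
    ¬ IsCoatom (Subgroup.normalizer (P : Set ↥(twistedE6 K 2))) := by
  have h7 : Nat.Prime 7 := by norm_num
  obtain ⟨ζ, hζ⟩ := exists_prim (k := k) (l := 7) (by norm_num)
  have hζ0 : ζ ≠ 0 := hζ.ne_zero (by norm_num)
  obtain ⟨z, hz, h⟩ := exists_frame_seven hK hk f ws49_mem hζ (c₁ := c49a) (c₂ := c49b) (by decide +kernel)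
    (by decide +kernel) (by decide +kernel) (by decide +kernel) c49a_fix c49b_fix hP hP1
  rcases h with ⟨hcard, hin, hex⟩ | ⟨i, j, hij, hPm⟩
  · -- `P` of order 49
    have hT : ∀ i j : ℤ, tz ζ (i • c49a + j • c49b) ∈ TT chevE6 k := fun i j => (tz_spec (ζ := ζ) hζ0 _).1
    have hp : ∀ i j : ℤ, tz ζ (i • c49a + j • c49b) ^ 7 = 1 := fun i j => tz_pow_eq_one hk (by norm_num) hζ _
    have ha : tz ζ c49a = tz ζ ((1 : ℤ) • c49a + (0 : ℤ) • c49b) := by
      congr 1; simp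
    have hb : tz ζ c49b = tz ζ ((0 : ℤ) • c49a + (1 : ℤ) • c49b) := by
      congr 1; simp
    refine reg hK hk f ok49 hz h7 (by norm_num) (S := {tz ζ c49a, tz ζ c49b}) (Set.toFinite _) ?_ ?_ ?_ ?_ ?_ ?_
    · rintro s (rfl | rfl)
      · rw [ha]; exact hT _ _
      · rw [hb]; exact hT _ _
    · rintro s (rfl | rfl)
      · rw [ha]; exact hp _ _
      · rw [hb]; exact hp _ _
    · intro a har
      by_cases h5 : (7 : ℤ) ∣ dot c49a a
      · refine ⟨tz ζ c49b, Or.inr rfl, ?_⟩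
        rw [ch_tz hk hζ0 _ har, Ne, hζ.zpow_eq_one_iff_dvd]
        exact c49_reg a har h5
      · refine ⟨tz ζ c49a, Or.inl rfl, ?_⟩
        rwa [ch_tz hk hζ0 _ har, Ne, hζ.zpow_eq_one_iff_dvd]
    · rintro s (rfl | rfl)
      · rw [ha]; exact hex _ _
      · rw [hb]; exact hex _ _
    · intro x hx
      obtain ⟨i, j, e⟩ := hin x hx
      exact ⟨_, hT i j, e⟩
    · intro D hD2 hDc hDn
      have hinj := em_injective (K := K) (q := 2) f
      obtain ⟨u, hu, hu1, huc⟩ := Abs.exists_cent_sq (Q := P.map (em 2 f)) (D := D) (by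
        rw [← hcard]
        exact Nat.card_congr (P.equivMapOfInjective _ hinj).toEquiv.symm) (by
          rintro _ ⟨x, hx, rfl⟩ _ ⟨y, hy, rfl⟩
          obtain ⟨i, j, e⟩ := hin x hx
          obtain ⟨i', j', e'⟩ := hin y hy
          rw [e, e']
          have h1 := Cfsg.Agent.BpExc.TorChev.TT_comm Lat.hp _ (hT i j) _ (hT i' j')
          calc z * tz ζ (i • c49a + j • c49b) * z⁻¹ * (z * tz ζ (i' • c49a + j' • c49b) * z⁻¹)
              = z * (tz ζ (i • c49a + j • c49b) * tz ζ (i' • c49a + j' • c49b)) * z⁻¹ := by group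
            _ = z * (tz ζ (i' • c49a + j' • c49b) * tz ζ (i • c49a + j • c49b)) * z⁻¹ := by rw [h1]
            _ = _ := by group) (by
          rintro _ ⟨x, hx, rfl⟩
          obtain ⟨i, j, e⟩ := hin x hx
          rw [e, conj_pow, hp]; group) hD2 (by
          intro u hu v hv
          have h1 := hD2 _ (D.mul_mem hu hv)
          have h2 := hD2 u hu
          have h3 := hD2 v hv
          rw [sq] at h1 h2 h3
          calc u * v = (u * v)⁻¹ := eq_inv_of_mul_eq_one_left h1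
            _ = v⁻¹ * u⁻¹ := mul_inv_rev u v
            _ = v * u := by
              rw [← eq_inv_of_mul_eq_one_left h2, ← eq_inv_of_mul_eq_one_left h3]) (by
          rw [hDc]; decide +kernel) (by
          rintro u hu _ ⟨x, hx, rfl⟩
          exact hDn u hu x hx)
      exact ⟨u, hu, hu1, fun x hx => huc _ ⟨x, hx, rfl⟩⟩
  · -- `P` of order 7
    obtain ⟨c, hc, m, hm0, hm⟩ := cover i j hij
    obtain ⟨c', sr', o₁, o₂, N⟩ := lines_ok c hc
    refine nreg hK hk f N hz h7 (by norm_num) hζ (P := P) ?_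
    rw [hPm]
    congr 1
    have h1 : tz ζ (((i : ℕ) : ℤ) • c49a + ((j : ℕ) : ℤ) • c49b) = tz ζ c ^ (m : ℕ) := by
      rw [tz_pow hk hζ0, tz_eq_iff hk (by norm_num) hζ]
      exact hm
    have h2 : ∀ m : Fin 7, m ≠ 0 → ∃ m' : Fin 7, ((m : ℕ) * (m' : ℕ)) % 7 = 1 := by decide
    obtain ⟨m', hm'⟩ := h2 m hm0
    have h3 : (tz ζ c ^ (m : ℕ)) ^ (m' : ℕ) = tz ζ c := by
      rw [← pow_mul, pow_eq_pow_mod _ (tz_pow_eq_one hk (by norm_num) hζ c), hm', pow_one]
    rw [h1]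
    refine le_antisymm ?_ ?_
    · rw [Subgroup.zpowers_le]
      exact Subgroup.pow_mem _ (Subgroup.mem_zpowers _) _
    · rw [Subgroup.zpowers_le]
      have h4 := Subgroup.pow_mem _ (Subgroup.mem_zpowers (tz ζ c ^ (m : ℕ))) (m' : ℕ)
      rwa [h3] at h4

include hK hk f in
/-- **The main theorem over the algebraic closure.** -/
theorem main {p : ℕ} (hpp : p.Prime) (hp5 : 5 < p) {P : Subgroup ↥(twistedE6 K 2)} (hP : IsPGroup p P) (hP1 : P ≠ ⊥) :
    ¬ IsCoatom (Subgroup.normalizer (P : Set ↥(twistedE6 K 2))) := by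
  have hpf : Fact p.Prime := ⟨hpp⟩
  have hfinG : Finite ↥(twistedE6 K 2) := Nat.finite_of_card_ne_zero (by rw [card_G hK]; norm_num)
  have hdvd : p ∣ 76532479683774853939200 := by
    rw [← card_G hK]
    obtain ⟨n, hn⟩ := hP.exists_card_eq
    have hn0 : n ≠ 0 := by
      rintro rfl
      exact hP1 (Subgroup.eq_bot_of_card_eq _ (by rw [hn, pow_zero]))
    exact (dvd_pow_self p hn0).trans (hn ▸ Subgroup.card_subgroup_dvd_card P)
  have hN : (76532479683774853939200 : ℕ) = 2 ^ 36 * 3 ^ 9 * 5 ^ 2 * 7 ^ 2 * 11 * 13 * 17 * 19 := by norm_num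
  rw [hN] at hdvd
  have hcases : p = 7 ∨ p = 11 ∨ p = 13 ∨ p = 17 ∨ p = 19 := by
    simp only [hpp.dvd_mul] at hdvd
    have key : ∀ q n : ℕ, q.Prime → p ∣ q ^ n → p = q := fun q n hq h =>
      (Nat.prime_dvd_prime_iff_eq hpp hq).1 (hpp.dvd_of_dvd_pow h)
    have key' : ∀ q : ℕ, q.Prime → p ∣ q → p = q := fun q hq h => (Nat.prime_dvd_prime_iff_eq hpp hq).1 h
    rcases hdvd with ((((((h | h) | h) | h) | h) | h) | h) | h
    · have := key 2 _ (by norm_num) h; omega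
    · have := key 3 _ (by norm_num) h; omega
    · have := key 5 _ (by norm_num) h; omega
    · exact Or.inl (key 7 _ (by norm_num) h)
    · exact Or.inr (Or.inl (key' 11 (by norm_num) h))
    · exact Or.inr (Or.inr (Or.inl (key' 13 (by norm_num) h)))
    · exact Or.inr (Or.inr (Or.inr (Or.inl (key' 17 (by norm_num) h))))
    · exact Or.inr (Or.inr (Or.inr (Or.inr (key' 19 (by norm_num) h))))
  rcases hcases with rfl | rfl | rfl | rfl | rfl
  · exact main_seven hK hk f hP hP1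
  · exact main_eleven hK hk f hP hP1
  · exact main_one hK hk f ok13 (by decide +kernel) ws13_mem hpp hp5 (by norm_num) c13_fix c13_ne c13_reg hP hP1
  · exact main_one hK hk f ok17 (by decide +kernel) ws17_mem hpp hp5 (by norm_num) c17_fix c17_ne c17_reg hP hP1
  · exact main_one hK hk f ok19 (by decide +kernel) ws19_mem hpp hp5 (by norm_num) c19_fix c19_ne c19_reg hP hP1

end Cfsg.Agent.H897.Fin
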